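import Cfsg.Agent.LV.Cl.CertVb_m3
import Cfsg.Agent.KZ.Exc.EBox_m3
import Cfsg.Agent.KZ.Exc.EFr
import Cfsg.Agent.LV.Lab.Std_m3
import Cfsg.Agent.FastGrp
import Cfsg.Agent.Prune
set_option linter.all false

section
prune_inst 0x7f00000000000000000000000000000000000000000000000000000000000000000000000000000000000000000000000000000000000000000000000000000000000000000000000000000000000000003fffffffffffffffffffffffffffbeffbdffffffff

-- part: LV/F4/Fac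
section
prune_inst 0xffbdfeffbfffffffff7ffffffffffe53d7ffffefdfff73ffffefffbfff6bff7fefffbffff4faffde77e6beb4f8fb53fbffffffef6ffc7ffffdfff41ffbffcfffffb78d71ffbcb41ffe0fff93f37fea6f000000000000000000000000000041004200000000
set_option linter.all false
open scoped Cfsg.Agent.FastGrp
private noncomputable def lq26057adeea {T : Sort _} (f :
    type_of% (@_root_.List.cons.{0}) →
    type_of% (@_root_.List.cons.{0} (Int)) →
    type_of% (@_root_.List.cons.{0} (Nat)) →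
    type_of% (@_root_.List.nil.{0}) →
    type_of% (@_root_.Prod.mk.{0, 0}) →
    type_of% (@_root_.List.cons.{0} (List Int)) →
    type_of% (@_root_.List.cons.{0} (Prod Nat (Prod Nat Nat))) →
    type_of% (@_root_.Matrix.vecCons.{0}) →
    type_of% (@_root_.Matrix.vecEmpty.{0}) →
    type_of% (@_root_.List.foldr.{0, 0}) →
    type_of% (@_root_.List.map.{0, 0}) →
    type_of% (@_root_.Cfsg.Agent.LV.F4.dc) →
    ((Int) → (Int)) → T) : T :=
  f (@_root_.List.cons.{0}) (@_root_.List.cons.{0} (Int)) (@_root_.List.cons.{0} (Nat)) (@_root_.List.nil.{0}) (@_root_.Prod.mk.{0, 0}) (@_root_.List.cons.{0} (List Int)) (@_root_.List.cons.{0} (Prod Nat (Prod Nat Nat))) (@_root_.Matrix.vecCons.{0}) (@_root_.Matrix.vecEmpty.{0}) (@_root_.List.foldr.{0, 0}) (@_root_.List.map.{0, 0}) (@_root_.Cfsg.Agent.LV.F4.dc) (fun x => x)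

-- part: LV/F4/Top
section
/-!
# LV, `F₄`: the unipotent label (helper84)

`top` : norm `0` or more than `1 / 4`, the bad vectors; `rep`, `exists_rep` : the classes.
-/

set_option autoImplicit false
set_option linter.unusedSectionVars false
set_option maxRecDepth 100000

namespace Cfsg.Agent.LV.F4

open CoxeterSystem Cfsg Cfsg.Agent.LV.T Cfsg.Agent.Tits.Core Cfsg.Agent.Tits.Exchange

/-- the table of the classes -/
def tabT : ℕ := (beta% delta% lq26057adeea fun b _ _ f _ _ _ _ _ o _ _ _ =>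
 o (fun a n => a + 16 ^ 1000 * n) 0
 (b 0x0000000000000000000000000000000000778000000000000000000320000000000208000000000000000000000000000000000000000000000000a0000000280000000000000000200000000050000000000000000000000000000000000000000000000000000000001000000002c000000000000000005800000120020000000004c0000000000000001003dc00010002c0000120000000400002000000000000000000001003154b00000000000000000000000000000040000000009800001c00000a00000000000000000000f0000a00000000000000000200000c84000000000000000000000000000000000000000000000010000160000000016002400000000000000000000000000000000000000000c001a00000000000000000000000000046c000000000000000000000000a050000000000000000000000005580000000000000000d0000000280000000000000000000000000000000000000000000000000000000000000000000000005000048000000000000000000000000000000000000000000000000000000000000000000000000000000000000000000000000000000000000000000000000000000000000000000000000000000000000000000000000000000000000000000000000000000000000000000000000000000000000000000000000000000000000<|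
 b 0x000000000000008000c000000001c003c00000000000000000000000000000000040000010000000000000000000000000000000000000000000000000000000000000000000000000000802c0000000000000000000000000000000000000000000000000000000000000000000000000000000000000000000000000000000000000000000000000000000000000000000000000000000000000000000000000000000000000000000000000000000000000000000000000000000000000000000000000000000000000000000000000000080400000000000000000000000000000000000000000000000000000000000000000000000000000000000000000000000000000000000000000000000000000000800000001c000000000000000000000000000000000000000000000e0000050000000000000000000000000000000000000000000e000000780000000000000000000000000000000000000000000200000000070000000000000000000000000000000000000000000000000000000000000000000000000000000000000000000000000000000000000000000000000000000000000000000000000000000000381e00000000000000000000000000000000000000000000007000f000000000000000000000100001c000000000000000000000000000000000000000000<|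
 b 0x0000000000000000000003400a800000000000000000000000400000000b000000000000003000006800000000000000000000000000000000000000000000000000160001200000000000000002b5d4000000000000000000000000000000000000000000000000000000000000000000000000060001a00000000000000000000038000001e000000000000000068000002800000000000000000000078000500000000000000000000000000000000000000000000000000000000000000000000000000a81a000000000000000000000000000000000000000000000000000000000000000000000000000000000000000000000000000000000000000000000000000000000000000000000000000000000000000000000000000000000000000000000000000000000000000000000000000000000000000000000000000000000000000000000000000000000000000000000000000000000000000000000000000000000000000000000000000000000000000000000000000000000000000000000000000000000000000000000000000000000000000000000000000000000000000000000000000000000001c002800000000000000000000000000000000000000000000000000000000000000000000000007800000140000000000000000000000000000000000000000000000<|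
 b 0x00000000000001348003000156b400000000000000000000000000000000000000000000000000000000000000000000000003400a00000000000000000000000000000000000000000000000000000000000000000000000000000000000000000000000000000000000000000000000000000000000000000000000000000000000000000000000000000000000031a0000000000000000000000000000000000000000000000000000000000000000000000000000000000000000000000000000f0380000000000000000000000000000000000000000000000001c0d0140000280000000000000000050000001200000000000000003c0a000000000000000000000010600000000e00000f00000000e0001e00000000000000000000f0380050000000000000000000000000000001000000000380000200000080000000000000000000040000580000000000000000070000e2bc000000000000000000000000000000000000000000000050000a00000582674a5e0000000000000000000080000b00000000000000000000000000000000000000000000000000000000000000000000004000002d2098000000000000000000000000000000000000000000000000000000000000000000000000000000000003000800000000005800048000000000000000000000000000000000<|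
 b 0x380000000000000000000000000000000000000000000000000000000000000000000000000000000000000000000000000000000000000000000000000000000000000000000000000000600000000090000000000000000000000000000000000000000000068000002800000000000000000000000000000000000000000000000000001000000e0000000000000000000000000000000000000018d0000700000001e0000000000100c000000000000000000000000da000000000000000000000000000000000000000000000802c000000000000000000000000000000000000003c0e000000000000000000e0001cf780000000000000000000000401c000000000000000002000001de07000000000000000000000000000000180858000024000000000000000005812000000000000000000000021060000b0000000000000000200002c0000000000000000000000000000000000000381e0000000000000000000000000000000000000000000000380050000001800000000240003c000280000000000000000000000000000000000000000000000000000000000000000000000000000e78000000000200002c0000000000000000000000000000000058009000001800d00000000000240005c006b4150500000000000000000000000000000000000000000000000000000<|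
 b 0x000000000000000000000000000000000000000000000000000000000000000000000000000000000000000000000000000000000000000000000000000000000000000000000000000000000000000040160000000000000000000000000000000000000000000000000000000000000000000000000000000000000000000000000000000000000000000000000000000000000000000000000000000000c0000000012000000000000000000000000000000000000000000010000000580000000000000000000000000000000000000000000800080000000000000000000000000000000000000000000000000000000000000000000000000080000002c0000000000000000000000000000000000000000000000000000000000000000000000003980f40000000000000000000000000000000000000000000000000000000000004c00480000000f000000280000100001600000000000000000000000000000000000000000000000000000000000000380028000000005a4000000000000000002000700000000000000000000000000000000000000000000000000000000000000000000000000000000000000000000000000000000000000000000000000000008043800001400000000000000000000000000000000000000000001c0028000000000000000000001a4a0800<|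
 b 0x00000000a00010000160000000000000000000000000000000000000000000000000000000000000000000000000000320000000000080000e00000000000000000200002c000000000000000000000000000000000000000000000000000000000000000000000000580000000900000000000000000000000000000000000000000000000000000000000000000000000140002800000000000000000000004801300000000000000000000000000000000000000000000050000000160000000000000000000000000001800340000000000000000000001000030000000000000000000000000000000000000000b001100000000000000000000000000000000da00000000000000000000000000000000000000000000000000000000000000000000000000000000000000000000000000000381e0000000000000000000000000000000000000000000000001e00014000000000000000000000a480000000000000000000000001c028000000000000000000280000000a000000000000000008000000001400000000000000000000000000000000000000000000000000000000000000000000000000000000000000000000000120000000018000000000000000050000000090000000000000000000000000000000000000000000000005500000000000000000000000000000<|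
 b 0x00000000000004400000000080000002c0000000000aa00000580007b809000000000000000000000000000000000000000000000000000000000000000000000000000000000000000000000000000000000000002000000007000000000000000000e00000028000000004cc000000000000000000000000000000e003c000000000000482600000000000000000000000000000000000000000000000016000120015ee0000a0000000000000000000000000000000000000120b8000000000000000000000000000001c0e015e00000000000000000000f001400000000000000000000000000000000000000000000000000000000000000000000000000000000000000000000000000000000000000000000000000000000000000000000000000000000000000000000000000000000000000000000000000000000000000000000000000000000000000003800780000000000000000000000000000000000000000000000000000000000021600000000000000000000000000000000000073de0000005000b0012000000010003800000000020060000000000000000000000000000000000001dea00016000000000000000000000000000080000e00000000000000000000000000000000000000000000000000000000000000000000000000000000000000040004000000040<|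
 b 0x0000000000001600240000000000000000000000400c00000038000000a0000000000000000000000000000000000000000000000780005000000000000000000000000000000000000000000000000000000000000000000000000000000000000000000000000000000000000000000000000000000000000000000000000000000000000000000000000000000000000000000000000000000000000000000000000000000000000000000000000000000000000000000000000001e00014000000000000000000000000000000000000000000000000000000000000000000000000000000000000000000000000001c000000002c000000000000000000000000000000000000000000000000000000000000000000000000000000000000000000000000001e000140000000000000000801007a8000000000000000000000002816000000000000000000000000f700000000000000000080180058000000000000000000000000000000000000000000004006021000000000000000000001040000000000000000000000000200b0000000000000000000500000001400000000000000001000000000280040000001c00000000000000000380000000f0000000000000000000000000000000000000000000000000000000001000000000260000000000000000800000000800000<|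
 b 0x0000000000000000000000000000000000000000000000000000000000000000000000000000000000000000e0001e0000000000000000000000000000000000000000000000000000000000000000000000000000000000000000000000000000000000000000000000000000000000000000000000000000000000000000000000000000000000000000000000000000000000000000000000000000000000000000000000000000000000000000000000000038000780000000000000000000000000000000000000000000000a00000050000002604800000000000000000000008001600000000000000000000000000000000000000000000000000b4800000000001c078000028000001600000000000000000000000000000000000000000000500000000110000000000000000000000000000000000000000000000000000000000000000000000000000000000000000000000000000000000000000000000000000401c00000000000000000000000000a058000000000000000000000000000000000000000000000000000000000000000000000000000000000000000000000000000000000000000000000000000080000000014000000000000000000000000000000000000000000010000000700000781c0000000000042c0000000000000000000000000000000000000<|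
 b 0x000000000000000000000000000000000e003c00000000000000000001e50380a000000000000000000000000000000801000000000000000000000000000000000000001c00039e50010000160000000000000000000000000000000000000000000000000c040000000000000f00140000000000000000000000000000006400000000028000001400000000000000000280000000b00000000000000000000000000000000000000000000000000000000000000000000000000000000000000000000000000000000000000200e780005800001ca0000000000b00000024000000005a200000000000000000240000000b80000000000000000c00000000120000000000000000000000000000000000000000000000000000000003c00000005000000000000000000a00000058002800000000880000000000000000e0000000140000000000000000002c0900000000000000000000000004dc000000000000000000012904c17000000000000000000000000000000000000000000000580130240000000000000000073c000000000000000000000001007000000000000000000000000778120b80000000000000000e0001e0000000000000000000000000000000000000000000000000000000000000000000000000000000000000000000000000008000000001c00000000000<|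
 b 0x00000000000000000000000000000005000048000000000000000000000d0018000000000000000000000000000100000000380000000000000000000000000000000000000000000018004000000000000000000000007000050000000000000000000000000000000000000000000000000000000000000000000000020000000058000000000000000000000000000000000000000000000000000000000000000000000000b0000900000000000000000140002c000000000099800000000000000000000000000000000000000000000000000000000000000000000000000016000120000a000000002200000048017000000000000000000000000000000000000000000000000000000000000000000000000000000000000000140002c000000000000000000000000000100001dea0000000000000000000000000000000000004c09000000000050016000000010002c0038000001ef70000000000000000000000000000000000001690000000000000000000000000000000000000000000000000000000000007800e00000000000000000000000000000000000000000000000000000000000000000000000000000000000000000000000000000000000000000000000000000000000000000000000000000000000000000000000000000000000000000000000000000000<|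
 b 0x000000000000000000000000000000000000000002400b800000000000000000000000000000000000000000005800000120000000000000000000000000000000000000000000100000000026000000000000000000000000000000000000000000000000000000000000000000000000000000000000000000000000000000000000000000000000000000000000000000000000000000000160480000000000000000000000000000000000000000000000000000000000000000000000000000000000000000000000000000000000000000000000000000000000000000000000000000000000000000000000000000000000000000000039400000000000000000000000000000000000000000000000080000000300000000000000000000000000040000000000000000000000000000000000000000000000000000000000000000000000000000000000000000000000005000000001100000000000000001c000000028000000000000000000281c0000000000000000000000000118000000000000000000000e0001e0000000000000000000000000000000000000000000000001e05000000000000000000000000000000000000000000000000000000000000000000000000000000000000000000000000000001b4000000000000000000000000000000008002000000000<|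
 b 0x00000000000380f000000000000000000000000000000000000000b024000000000000000000000000000000000000000000001b400000000000000000000000140480000000001e00000002800035800000000000000000000000000000000000000140000160000000000000000000000000000000000000000000000000000060000006800000000000000000000000000000000000000000000800000000600000000000000000000000000000000000000000000000000000000000000000000000000000000000000000000000000000000000000000000000000000000000000000000000000000500111d9a0000000000000000000002800a00000000000000000000000000000000000000000000500000558110000000000000000000000000000000000000000000000000000000000000000000000000000000000000000000000000000000000000000000000000000002800b000000000000000000858000000002800e0000000000000000000000000000000000000000000000000000000000000016000120000070000003c0000000400060000000000000000000000000000000000000000000000000000000000004bc1350000000000000000000000000000000000000000000000000000000000000000000000000b0000002400000000000000000000000000000000<|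
 b 0x00000000000000000060000050340a0000000000000000000000000000000000000000000000000e03c0000000000000000000000000000000000000000000000000000000000000000000000000000000000000000000000000001ac0000000000000000000000000000000000000000000000000000000000000000000000000000000000000000000000000000000000000000000000000000000000000000000000000000000000000000000000000000000000001800d00000000000000000000000000000000000000000000000000000000000000000000000000d6d4000500041800000000000000000000000000000000000000000000000000000000000000000030540d6801000008000000000003400a0000020005800000000000000000000000000000000b0000900000000007b8000000000000000000000000000000000000000000000000000000000000000000000000000070000f0000800000000130000001400500000000000000000000000000000000000000000000001e0500000000000000000000000000000000000000b0000900000000000000002c0004d29000000000000000000000010058000000000000000008000005a413000000000000000000000000000000701ea00000b000000000000000000a05800000000000000000000007bdc00014000000<|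
 b 0x0000000000000000000000000000000000000000000000000000000000000000000000001a0a8000000000000000000000000000000000000000000000000000000000000000000000000038000780000000000000000000006000000680000000000000001e00000050000000000000000000001a000280000000000000000000000000000000000000000000000000000000000000000000000000dcd2800000000000000010000160000000000000000000000000000000000000000000000000006800005000000000000002c00000004800000000000000000000000a800d00000000000000000000000000000000000000000000000000000004000058000000000240098000000000000000000000000000000000000000000000000000000000000000000000000000000000003010b00000480000000000000000000000000000000000000000000000000000000000000000000002c0002400000000000000000001e8428c05800001c000140000000000000000000000000000000000000000000000f2b80002800000000000000000580004800000000000000000002400002e00000e00000000160000000000000000000000000000003800e03c00000000000000000001e0001400000003c00001400000004d200000000000000000000001c0f0000000000000000040000003<|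
 b 0x0000000000000000000000000000000000000000000000581100000000000000000000000000000000000000000000000000000000000000000000000000000000000000000000000000000000000000000000000000000000000000000000000000000000000000000000000000000000000000000000000000000000000000000000000000000000000000000000000000000000000000000000000000000b02400000000000000000000000000000000000000000000000000000000000000000000000000120000170000000000000000000000000000000000f001c00000000260024000000000000000000000000000000000000000000000000000000000000e0000007800000000000000000000000000000000000000000000000000000000000000000000000002800a00000000000000000000000000000000000000000000000000000000000000000000000000000000000000000000000000000000000000000000000000000000000000000000000000000000000000000000000000000000000000000000000000000000000000000000000000000000000000000000000000000000000000000000000000000000000000000000000000000000000000000000000000000000000000000000000000000000000000000000000000000000000000000000000000000000000<|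
 b 0x00000000000000000000000004a660002e000000000000000001c0003c00000000000000000000a00000a00000300000000048000000000000000000000000000002ce598120000000000000000000090001700000001000000b00120001cf05c00000000000000006000000000900100000005800000000000000000b0000000120000000000000000000000000000000000000000000000000000000001400000000440000000000000000700000000a0000000000000000000000000000000000000000000000026e00000000009980000000000000000007a80000000000000000000000000000000000000000000000000000000000000000000000000000a000160000000000000000000003c00700000000000000000000000000000000000000000000001e0500000000000000000000000000000000000000000000000000000000000000000000000000000000000000000000000000000000000000000000000000000000000000000000000000000000007000000000b0000000000000000000000000000000000000000000078000001400000000000000000000000000000000000000000014000014000000000000000000000000000000000000000000000a00000002c000000000000000000000000000000000000000000000000000000000000000000000000000000000<|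
 b 0x0000000004000003bc0e00000000000000000000000000000000000000000000000000000000000000000000002000001c00000000000000000000070000f000000000000000000e00000003c0000000000000000000000000000000000000000000000000000000000000000000000000000000000000000000000000000000000000000000000000000000781c0000000000000000000000000000000000000000000000015c00000000000000000000000000000000000000000000000000000000000000000000000000003800078000000000000000000001e00280000000000000000000000000000000000000000000000000000000000000000000000000000000000000000000000000000000000000000000000000000000000000000000000000000000000000000000000000000000000000000000000000000000000000000000000000000000000000000000000000000000000000000000000000000000000000000010000300000000000000000000000000000000000000000000000000000000000000000000000006000000034000000000000000043800000000000000000000000380a000000000000000000000000820000000000000000000000000001a00300000000000000000000000000000000000000000080016000000001600012000000000000000000000<|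
 b 0x0000000000038007800000000000000000004000020000000000000000000000000000000000000000000000080000002c000000e03c000000000000000000000020007000000000000000000000000000000000000000000000000003bc00000000000602000000000000000000000000000000000000000000000000000000000000000000001800c034000000000000000000000008003000000000000000000000000000000000000000000001000001b40c0000000000000000000000000000000000000000000000000000000000000000000000000000000000000000000000000000000000000000000000000000000c00680000000000000000000000000000000000000000000000606800000000000000000000000000000000000000000000000068000a0000000000000000000000000000000000000000000000000a81a000000000000000000000036a00000000000000000000001c0001400000e02800000000001e00000a000000000000000000000000000005781c0500000000000c00001a00000000000000000000d0001401c00701e00000000000001cf00000000000000000000000000000000000000000000000000000000000f02800000070380f7800000000000000000000080000e0000000000000000000000000000000000000000000000000000000000000<|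
 b 0x0000000000000000000000000000000000000000000000000000000000000000000000000000000000180000000024000000000000000000000000000000000000000000000c03400000000000000000000000000000000000000000000000001a00028000000000000000000000000000000000000000000000000000000000000000000000006800000014000000000000000000000000000000000000000000000a00000480000000000000000000000000000000000000000000000000000000000000000000000000000000000000000000002c0048000000000000000000000000000000000000000000000000000000000000220058000000048000002e0000050000a00000000000000000000000000000000000000000000000000000000000000260024000016002ac90000003c00500000000000000000000000000000000000000000000000000000000000020000000004c0000000000000000000000000000000000000000000000000000001c000000002c000000000000000000000000000000000000000000000000000000000000b001200000078000028000000000000000000000000000000000000000000000e0780000000000000000000000000000000000000000000000000000000000000000000000000014000014000000000000000000000000000000000000<|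
 b 0x000000000000000000000000000000000000000000000000000000000000000000000000000000000000000000000000000000000000040000001c00000000000000000380000000f0000000000000000000000000000000000000000000000000000000000000000000000000000000000269000000000000000000000000802c000000000000000000000002d200000000000000007b8000000000000000000000000000020000016000000000000000000000000000000000000000000000b0000000120000000000000000000000000000000000000000000000000000000000000000000000000000000000000000000000000000000000000007000f0000000000024130000000000000000000000000000000000000000000000000000000000000000000000000000000000000780000000a000000000000000000000000000000000000000000000000000000000000000000000000140002c00000000000000000000000000000000000000000001000000b000000000000000000000000000000000000000000007594000000900000000000000000000000000000000000000000000000000000000000000000001e00000a000000000000000000000000000000000000000000000001c003d209800000000000000000000000000000000000000001a000280000000000000000<|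
 b 0x00000180006800000000000000000000000000000000000000000c043c0070000000000000000000000000000000000000000000000007000007800000000000000000000000000000000000000000000000000000000000000000008000000156a00000000000000000000000000000000000000000000b000004800000000000000000000000000000000000000000002000038000000000000000000000000000000000000000000000000000000000000000000000000700000001e0000000000000000000000000000000000000000000000000000000000000000000000000000000000000602000000000000f001c000000000000000000000000000000000000000000000000000000000000000000000000000000000000000000000000000000000000000400000000b00000000000000000000000000000000000000000000058000024000000000000000000000000000039e000000000000000042c000000000000000000000002c090000000000000000000000008300000000000000000000000000000000000000000000000000000000000000000000000000000000000f00000001400000000000000000280000016000000000000000000000000000000000000000000000000000000000000000000000000000000000000000000000000000000000000000000000000<|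
 b 0x000000000000000000000000038000014000000000000000000000000000000000000000000000000000000000000000000000000001e050000000000000000000000000000000000000000000001c00001e0000004000b000000000000000000000000000000000000000000000000000000000000200000000070000000000000000000000000000000000000000000000000000000180000000024000000000000000000000000000000000000000000000000000000000000e003c000000821c005800002000300000000000000000000000000000000000000000000000000000000000000070000500000800000010000000010001000000000000000000000000000000000000000000000000000000000000010002c00000000000000000000000000000000000000000000000000000000000000000000000000000000000000000000004000006000000000000000000000000000000000000000000000300000001a0000000000000000000000000000000000000000000000000000000000000000000000018000680000000000000000000000000000000000000000000000000340c000000000000000000000000000000000000000000000080000000060000000000000000000000000000000000000000000000000000000000000000000000000000000000000000000000<|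
 b 0x0000000000000000000000000000000000000000000000000050000b0000000000000000000001ef0380a0000001c0f00000000000000000000000000000000000000000000000000000000000f700000000000000781c0028030000d00000000000000000000680000500000000000e0701e5000000000000000000000000000007000007800000000000a050000014000280000000000000000000000ab40000000000000000000000682a000000000000000000000000000000000000000000000000060001a0000000000000000000000000000000000000000000000001a0a00000000000000000000000000000000000000000000001a0050000000000000000000000000000000000000000000000000000000000000000000000000000000000000000000000000000000000000000000000000000000c036800001200000000000000000000000000000000000000000001400240000000000000000000000340c002800000000000000000000000000000000000000000000000000000000000000000002413000000000003d400000000000000000000000000000000000000000000000000a002c00000000000000000000003c0e0000002c00000090000000000000000000000000000000000000000000000240005c00000000000000000001e00380000000000000000000000<|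
 b 0x1c0078000000000000000000001e00014000000000000000000000000000000000000000000000000000000000000000000000000000071400000000000000000000000000000000000000000000000701e00000000000000000000000000000000000000000000000000000000000000000000000000000000000000000000000000000000000000000000000000000003c00000005000000000000000000f0000a0000000000000000000002800002c0000000000000000000000000000000000000000000000000000000000000000000000e03d400001600000000000000000000<|f))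

/-- a certificate -/
noncomputable def nT : Nd where
  b := 15
  σ := fun i => i
  R := (beta% delta% lq26057adeea fun b _ _ f _ _ _ _ _ _ _ _ _ =>
 (b f<|b (b 0<|f)<|b (b 2<|f)<|b (b 0<|b 1<|f)<|b (b 1<|b 2<|f)<|b (b 2<|b 0<|f)<|b (b 2<|b 3<|f)<|b (b 0<|b 1<|b 2<|f)<|b (b 1<|b 2<|b 3<|f)<|b (b 2<|b 3<|b 0<|f)<|b (b 3<|b 0<|b 1<|f)<|b (b 0<|b 1<|b 2<|b 3<|f)<|b (b 2<|b 1<|b 2<|b 1<|f)<|b (b 0<|
 b 2<|b 1<|b 2<|b 1<|f)<|b (b 1<|b 2<|b 3<|b 1<|b 2<|f)<|b (b 0<|b 1<|b 2<|b 3<|b 1<|b 2<|f)<|b (b 0<|b 1<|b 2<|b 3<|b 0<|b 2<|b 1<|b 2<|f)<|b (b 2<|b 1<|b 0<|b 2<|b 1<|b 2<|b 0<|b 1<|b 0<|f)<|b (b 3<|b 2<|b 1<|b 2<|b 3<|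
 b 2<|b 1<|b 2<|b 1<|f)<|b (b 0<|b 1<|b 2<|b 3<|b 1<|b 0<|b 2<|b 1<|b 2<|b 1<|f)<|b (b 0<|b 3<|b 2<|b 1<|b 2<|b 3<|b 2<|b 1<|b 2<|b 1<|f)<|b (b 0<|b 1<|b 2<|b 1<|b 0<|b 3<|b 2<|b 1<|b 2<|b 3<|b 1<|b 2<|f)<|b (b 0<|b 1<|
 b 2<|b 1<|b 0<|b 3<|b 2<|b 1<|b 2<|b 3<|b 2<|b 1<|b 2<|b 1<|f)<|b (b 0<|b 1<|b 2<|b 3<|b 2<|b 1<|b 0<|b 2<|b 1<|b 2<|b 3<|b 0<|b 2<|b 1<|b 2<|b 1<|f)<|b (b 3<|b 2<|b 1<|b 0<|b 2<|b 1<|b 2<|b 3<|b 2<|b 1<|b 0<|
 b 2<|b 1<|b 2<|b 3<|b 2<|b 1<|b 0<|b 2<|b 1<|b 2<|b 0<|b 1<|b 0<|f)<|f))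
  cj := (beta% delta% lq26057adeea fun b _ e f _ _ _ _ _ _ p q _ =>
 p (q 10) (let d:=(let d:=(let d:=(let d:=(let d:=(let d:=(let d:=(let d:=(e 421473<|e 448609<|e 27748<|
 e 23396<|e 1<|f);
 (e 493284<|e 1935073<|e 30235<|e 7012<|d));
 (let d:=(e 1161606<|e 123316<|e 124644<|e 1685894<|e 1500696<|d);
 (e 452120<|
 e 493281<|e 30828<|e 7707<|d)));
 (let d:=(let d:=(e 113030<|e 1947<|e 7788<|e 31156<|e 375174<|d);
 (e 123316<|e 120929<|e 7268<|e 124641<|d));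
 (let d:=(e 1892<|e 93793<|e 30817<|e 123313<|e 483761<|d);
 (e 31153<|e 7777<|e 31156<|
 e 1935044<|d))));
 (let d:=(let d:=(let d:=(e 484<|e 124612<|e 28257<|e 31108<|e 493252<|d);
 (e 31110<|e 124440<|e 123313<|e 7788<|d));
 (let d:=(e 1672929<|e 26139<|e 31153<|e 483761<|e 31153<|d);
 (e 418233<|e 418233<|e 1672929<|e 1672921<|
 d)));
 (let d:=(let d:=(e 421401<|e 1685016<|e 1601049<|e 1500696<|e 5659<|d);
 (e 1563<|e 1685017<|e 1973017<|e 421401<|d));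
 (let d:=(e 498457<|e 498457<|e 421400<|e 452120<|
 e 1672929<|d);
 (e 1808484<|e 113030<|e 411<|e 1993825<|d)))));
 (let d:=(let d:=(let d:=(let d:=(e 105241<|e 420961<|e 100068<|e 1685016<|e 18148<|d);
 (e 1600609<|e 5860<|
 e 1994118<|e 421400<|d));
 (let d:=(e 1973126<|e 493281<|e 448620<|e 1601048<|e 26340<|d);
 (e 105316<|e 1764<|e 124641<|e 498566<|d)));
 (let d:=(let d:=(e 1808481<|e 421473<|e 484<|e 109<|e 1601121<|d);
 (e 1448729<|e 374296<|e 26139<|e 421473<|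
 d));
 (let d:=(e 362209<|e 5659<|e 1994265<|e 1160729<|e 374297<|d);
 (e 26340<|e 1160728<|e 374296<|e 100068<|d))));
 (let d:=(let d:=(let d:=(e 123313<|e 93281<|e 18148<|
 e 362209<|e 362201<|d);
 (e 289889<|e 90553<|e 90553<|e 493254<|d));
 (let d:=(e 374296<|e 290329<|e 31153<|e 124614<|e 5860<|d);
 (e 29<|e 290401<|e 362209<|e 283<|d)));
 (let d:=(let d:=(e 113<|e 91<|e 1448801<|e 93721<|
 e 93721<|d);
 (e 31110<|e 93720<|e 124440<|e 93793<|d));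
 (let d:=(e 93720<|e 23321<|e 93793<|e 497761<|e 497764<|d);
 (e 23396<|e 484<|e 120940<|e 290328<|d))))));
 (let d:=(let d:=(let d:=(let d:=(let d:=(e 112152<|e 1600609<|e 7707<|e 400153<|e 400153<|
 d);
 (e 1563<|e 290182<|e 25012<|e 112153<|d));
 (let d:=(e 483761<|e 72580<|e 112152<|e 100065<|e 6252<|d);
 (e 27745<|e 100065<|
 e 1935046<|e 100057<|d)));
 (let d:=(let d:=(e 25017<|e 124612<|e 25017<|e 498456<|e 72545<|d);
 (e 72601<|e 1161313<|e 1132<|e 1764<|d));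
 (let d:=(e 25<|e 400225<|e 100065<|e 112152<|e 6<|d);
 (e 27<|e 28185<|e 28257<|
 e 28185<|d))));
 (let d:=(let d:=(let d:=(e 28184<|e 28257<|e 28184<|e 123313<|e 124440<|d);
 (e 6937<|e 1892<|e 72600<|e 72600<|d));
 (let d:=(e 105241<|e 105241<|e 30828<|e 28184<|e 7012<|d);
 (e 448612<|e 28038<|e 1947<|e 420961<|
 d)));
 (let d:=(let d:=(e 28038<|e 411<|e 1644<|e 6580<|e 93574<|d);
 (e 1672934<|e 23428<|e 1935044<|e 26337<|d));
 (let d:=(e 23393<|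
 e 1973016<|e 26337<|e 7009<|e 26329<|d);
 (e 6585<|e 7044<|e 6585<|e 493252<|d)))));
 (let d:=(let d:=(let d:=(let d:=(e 26337<|e 23449<|e 24<|e 364<|e 374881<|d);
 (e 112737<|e 105313<|e 116<|e 26337<|d));
 (let d:=(e 23448<|e 31153<|e 7065<|e 108<|e 7065<|d);
 (e 7064<|e 23448<|e 7064<|e 31153<|
 d)));
 (let d:=(let d:=(e 7788<|e 1753<|e 27748<|e 23448<|e 411<|d);
 (e 400260<|e 1600902<|e 4532<|e 7064<|d));
 (let d:=(e 72473<|
 e 72473<|e 1994264<|e 400225<|e 1993825<|d);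
 (e 5<|e 72545<|e 1935073<|e 1134<|d))));
 (let d:=(let d:=(let d:=(e 18137<|e 1<|e 18137<|e 289889<|e 4536<|d);
 (e 7705<|e 30233<|e 30232<|e 493281<|d));
 (let d:=(e 1132<|e 283<|e 7777<|e 7704<|e 7777<|d);
 (e 283<|e 400280<|e 1448856<|e 18137<|
 d)));
 (let d:=(let d:=(e 1817<|e 31110<|e 4537<|e 30232<|e 18145<|d);
 (e 4537<|e 7265<|e 18145<|e 1892<|d));
 (let d:=(e 18145<|e 30232<|e 124440<|e 7704<|e 484<|d);
 (e 400280<|e 7704<|e 7<|e 7705<|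
 d)))))));
 (let d:=(let d:=(let d:=(let d:=(let d:=(let d:=(e 1448838<|e 105348<|e 362209<|e 1460<|e 421254<|d);
 (e 1685601<|e 23321<|e 23321<|e 105313<|d));
 (let d:=(e 1464<|e 93281<|e 23393<|e 17<|e 366<|d);
 (e 5849<|e 124641<|e 5849<|e 4<|
 d)));
 (let d:=(let d:=(e 30817<|e 1945<|e 30817<|e 120932<|e 7558<|d);
 (e 362214<|e 91<|e 364<|e 1944<|d));
 (let d:=(e 5857<|e 7558<|e 105368<|e 91<|e 5849<|d);
 (e 473<|e 7268<|e 1465<|
 e 124441<|d))));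
 (let d:=(let d:=(let d:=(e 31160<|e 1465<|e 1924<|e 5857<|e 1889<|d);
 (e 28<|e 5857<|e 5857<|e 1944<|d));
 (let d:=(e 22625<|e 1124<|e 1944<|e 105368<|e 1945<|d);
 (e 6241<|e 25009<|
 e 90545<|e 25012<|d)));
 (let d:=(let d:=(e 25009<|e 374881<|e 4532<|e 1935073<|e 1935065<|d);
 (e 493273<|e 90545<|e 18116<|e 100038<|d));
 (let d:=(e 18118<|e 4529<|e 112737<|e 493281<|e 362182<|d);
 (e 450948<|e 1133<|e 1<|e 4534<|
 d)))));
 (let d:=(let d:=(let d:=(let d:=(e 100038<|e 362182<|e 18137<|e 418225<|e 4532<|d);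
 (e 4534<|e 1121<|e 4529<|e 104557<|d));
 (let d:=(e 22637<|e 18118<|e 1<|e 6253<|e 120940<|d);
 (e 30828<|e 281<|e 5<|e 1133<|
 d)));
 (let d:=(let d:=(e 483761<|e 123268<|e 6253<|e 30817<|e 123313<|d);
 (e 105350<|e 400262<|e 100065<|e 493252<|d));
 (let d:=(e 68<|e 1973089<|e 421252<|e 436<|e 26337<|d);
 (e 110<|e 6937<|e 7009<|e 6937<|
 d))));
 (let d:=(let d:=(let d:=(e 440<|e 1753<|e 27745<|e 498529<|e 20<|d);
 (e 1926<|e 120929<|e 120929<|e 1753<|d));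
 (let d:=(e 27<|e 100070<|e 486<|e 30820<|e 7780<|d);
 (e 1753<|e 27<|
 e 26342<|e 108<|d)));
 (let d:=(let d:=(e 1761<|e 121<|e 1926<|e 29060<|e 25017<|d);
 (e 481<|e 6585<|e 7556<|e 441<|d));
 (let d:=(e 421476<|e 116<|e 441<|e 1761<|e 486<|d);
 (e 441<|e 1761<|e 441<|e 1761<|d))))));
 (let d:=(let d:=(let d:=(let d:=(let d:=(e 1633<|e 6580<|e 362180<|e 356<|
 e 23393<|d);
 (e 1672900<|e 483769<|e 483769<|e 6577<|d));
 (let d:=(e 5828<|e 362180<|e 6577<|e 26310<|e 1460<|d);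
 (e 124641<|e 28257<|e 124633<|e 1448728<|d)));
 (let d:=(let d:=(e 113028<|e 1462<|e 4<|e 1457<|e 5830<|
 d);
 (e 362214<|e 1460<|e 1672900<|e 365<|d));
 (let d:=(e 1457<|e 353<|e 26310<|e 26139<|e 5849<|d);
 (e 1645<|e 4<|e 1462<|e 483764<|d))));
 (let d:=(let d:=(let d:=(e 7788<|e 365<|e 24<|e 5830<|
 e 5659<|d);
 (e 31108<|e 31153<|e 7777<|e 89<|d));
 (let d:=(e 388<|e 1497185<|e 483768<|e 124612<|e 1645<|d);
 (e 448609<|e 448609<|e 1994337<|e 100<|d)));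
 (let d:=(let d:=(e 4537<|e 7<|e 18150<|e 72582<|
 e 18145<|d);
 (e 28<|e 5857<|e 23430<|e 110980<|d));
 (let d:=(e 93572<|e 116<|e 1465<|e 28036<|e 5862<|d);
 (e 1766<|e 1761<|e 441<|e 7046<|d)))));
 (let d:=(let d:=(let d:=(let d:=(e 118<|e 473<|
 e 7265<|e 1889<|e 1817<|d);
 (e 7265<|e 30<|e 1817<|e 93796<|d));
 (let d:=(e 473<|e 120<|e 121<|e 481<|e 28260<|d);
 (e 121<|e 481<|e 1889<|e 112740<|d)));
 (let d:=(let d:=(e 481<|e 121<|e 481<|e 473<|e 7<|d);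
 (e 7009<|e 6532<|
 e 100036<|e 121<|d));
 (let d:=(e 105240<|e 418228<|e 1644<|e 100<|e 26308<|d);
 (e 436<|e 123321<|e 26308<|e 123321<|d))));
 (let d:=(let d:=(let d:=(e 1732<|e 31161<|e 100036<|e 104556<|e 400152<|d);
 (e 1734<|e 375172<|e 20<|
 e 31161<|d));
 (let d:=(e 104556<|e 100070<|e 438<|e 433<|e 109<|d);
 (e 1753<|e 436<|e 26342<|e 418228<|d)));
 (let d:=(let d:=(e 433<|e 411<|e 97<|e 20<|e 123316<|d);
 (e 1563<|e 31156<|e 68<|e 438<|d));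
 (let d:=(e 31160<|e 7064<|e 109<|e 1734<|e 25<|
 d);
 (e 411<|e 31160<|e 123320<|e 1563<|d))))))));
 (let d:=(let d:=(let d:=(let d:=(let d:=(let d:=(let d:=(e 90545<|e 6577<|e 6534<|e 26136<|e 25009<|d);
 (e 1561<|e 5657<|e 5656<|e 6577<|d));
 (let d:=(e 22628<|e 1414<|e 1633<|
 e 1560<|e 1633<|d);
 (e 408<|e 6241<|e 409<|e 6241<|d)));
 (let d:=(let d:=(e 6244<|e 1636<|e 390<|e 22625<|e 22625<|d);
 (e 5657<|e 1414<|e 6253<|e 102<|d));
 (let d:=(e 1636<|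
 e 1561<|e 1644<|e 408<|e 1645<|d);
 (e 411<|e 390<|e 6580<|e 22637<|d))));
 (let d:=(let d:=(let d:=(e 1563<|e 5659<|e 25012<|e 409<|e 6244<|d);
 (e 100068<|e 105316<|e 102<|e 102<|d));
 (let d:=(e 23320<|e 90548<|e 26340<|e 108<|e 27<|d);
 (e 93796<|e 100<|e 22636<|
 e 72472<|d)));
 (let d:=(let d:=(e 30829<|e 22636<|e 18150<|e 1412<|e 18116<|d);
 (e 90548<|e 5828<|e 1889<|e 7<|d));
 (let d:=(e 364<|e 20<|e 7789<|e 28<|e 5862<|d);
 (e 5<|e 283<|e 91<|e 17<|d)))));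
 (let d:=(let d:=(let d:=(let d:=(e 1944<|e 7789<|e 18116<|e 5828<|
 e 30829<|d);
 (e 454<|e 116<|e 30829<|e 7788<|d));
 (let d:=(e 7789<|e 452<|e 30828<|e 283<|e 29<|d);
 (e 91<|e 7788<|e 118<|e 113<|d)));
 (let d:=(let d:=(e 454<|e 118<|e 113<|e 473<|e 116<|d);
 (e 6534<|e 23320<|e 26136<|e 29<|
 d));
 (let d:=(e 5656<|e 4529<|e 23393<|e 104545<|e 104548<|d);
 (e 356<|e 281<|e 6534<|e 1133<|d))));
 (let d:=(let d:=(let d:=(e 1124<|e 365<|e 26137<|e 1457<|e 1414<|d);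
 (e 104557<|e 1457<|
 e 418225<|e 89<|d));
 (let d:=(e 353<|e 281<|e 26139<|e 4532<|e 1460<|d);
 (e 23396<|e 22<|e 89<|e 1121<|d)));
 (let d:=(let d:=(e 18148<|e 356<|e 70<|e 353<|e 280<|d);
 (e 1124<|e 88<|e 1121<|e 7<|d));
 (let d:=(e 364<|e 88<|
 e 5860<|e 28<|e 22<|d);
 (e 22<|e 283<|e 91<|e 70<|d))))));
 (let d:=(let d:=(let d:=(let d:=(let d:=(e 6936<|e 28260<|e 25012<|e 356<|e 18136<|d);
 (e 4532<|e 120941<|e 18136<|e 6252<|d));
 (let d:=(e 116<|e 25012<|e 6252<|e 388<|e 29<|d);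
 (e 1766<|e 1732<|
 e 1947<|e 481<|d)));
 (let d:=(let d:=(e 108<|e 1<|e 4<|e 1132<|e 68<|d);
 (e 120941<|e 7780<|e 4532<|e 27<|d));
 (let d:=(e 1132<|e 1816<|e 1947<|e 1732<|e 31156<|d);
 (e 7<|e 28<|e 120940<|e 120941<|d))));
 (let d:=(let d:=(let d:=(e 1947<|e 27<|e 108<|
 e 7790<|e 452<|d);
 (e 28<|e 486<|e 452<|e 30<|d));
 (let d:=(e 5848<|e 1124<|e 30<|e 121<|e 7<|d);
 (e 1752<|e 1644<|e 6580<|e 112740<|d)));
 (let d:=(let d:=(e 1644<|e 1460<|e 120<|e 5848<|e 30235<|d);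
 (e 7707<|e 6580<|e 452<|
 e 100<|d));
 (let d:=(e 20<|e 364<|e 436<|e 1752<|e 121<|d);
 (e 27<|e 108<|e 1<|e 4<|d)))));
 (let d:=(let d:=(let d:=(let d:=(e 7707<|e 30235<|e 123316<|e 1460<|e 30820<|d);
 (e 120942<|e 472<|e 364<|e 436<|d));
 (let d:=(e 116<|e 30830<|e 7<|e 28<|
 e 30235<|d);
 (e 7707<|e 120<|e 29<|e 108<|d)));
 (let d:=(let d:=(e 120<|e 7<|e 28<|e 116<|e 472<|d);
 (e 6936<|e 25009<|e 26136<|e 481<|d));
 (let d:=(e 1121<|e 4529<|e 18136<|e 6936<|e 7009<|d);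
 (e 26136<|e 1560<|e 100<|e 1133<|
 d))));
 (let d:=(let d:=(let d:=(e 433<|e 25<|e 390<|e 4484<|e 100056<|d);
 (e 104557<|e 18116<|e 418225<|e 109<|d));
 (let d:=(e 6<|e 281<|e 436<|e 433<|e 104556<|d);
 (e 25<|
 e 97<|e 7012<|e 1121<|d)));
 (let d:=(let d:=(e 97<|e 25<|e 70<|e 72580<|e 280<|d);
 (e 281<|e 6<|e 4484<|e 100<|d));
 (let d:=(e 1132<|e 280<|e 6<|e 24<|e 1764<|d);
 (e 27<|e 108<|e 6<|e 24<|d)))))));
 (let d:=(let d:=(let d:=(let d:=(let d:=(let d:=(e 5848<|e 1752<|e 6577<|e 5848<|e 6577<|d);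
 (e 388<|e 1457<|e 353<|
 e 1752<|d));
 (let d:=(e 26328<|e 1412<|e 408<|e 6584<|e 365<|d);
 (e 109<|e 433<|e 102<|e 97<|d)));
 (let d:=(let d:=(e 1732<|e 26139<|e 104558<|e 418232<|e 5828<|d);
 (e 27748<|e 89<|e 24<|e 109<|d));
 (let d:=(e 88<|e 23428<|e 25<|e 97<|e 353<|
 d);
 (e 25<|e 388<|e 22<|e 88<|d))));
 (let d:=(let d:=(let d:=(e 24<|e 89<|e 7044<|e 1412<|e 24<|d);
 (e 24<|e 88<|e 364<|e 6<|d));
 (let d:=(e 6241<|e 25009<|e 27<|e 108<|e 6<|d);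
 (e 100036<|e 90545<|
 e 24964<|e 18136<|d)));
 (let d:=(let d:=(e 1560<|e 1<|e 1561<|e 4529<|e 5656<|d);
 (e 454<|e 1889<|e 1816<|e 400260<|d));
 (let d:=(e 18116<|e 1816<|e 1<|e 4532<|e 1892<|d);
 (e 484<|e 481<|e 5<|e 390<|d)))));
 (let d:=(let d:=(let d:=(let d:=(e 1560<|e 5<|e 70<|
 e 20<|e 6253<|d);
 (e 22637<|e 5656<|e 280<|e 6252<|d));
 (let d:=(e 29<|e 113<|e 1<|e 4<|e 22636<|d);
 (e 7<|e 28<|e 116<|e 113<|d)));
 (let d:=(let d:=(e 4<|e 20<|e 17<|e 5<|e 17<|d);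
 (e 6532<|e 6577<|e 1633<|e 1<|d));
 (let d:=(e 1457<|e 1457<|e 90552<|e 26308<|
 e 5848<|d);
 (e 408<|e 105348<|e 409<|e 4<|d))));
 (let d:=(let d:=(let d:=(e 4<|e 118<|e 7268<|e 472<|e 1457<|d);
 (e 17<|e 472<|e 5828<|e 1460<|d));
 (let d:=(e 1645<|e 68<|e 121<|e 1924<|e 102<|d);
 (e 408<|e 1644<|e 22<|e 17<|
 d)));
 (let d:=(let d:=(e 4<|e 5659<|e 22638<|e 88<|e 1464<|d);
 (e 452<|e 29<|e 113<|e 1<|d));
 (let d:=(e 5<|e 17<|e 7<|e 28<|e 29<|d);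
 (e 1<|e 4<|e 5<|e 68<|d))))));
 (let d:=(let d:=(let d:=(let d:=(let d:=(e 6584<|
 e 25016<|e 6532<|e 6584<|e 1752<|d);
 (e 433<|e 421252<|e 20<|e 1752<|d));
 (let d:=(e 20<|e 29060<|e 109<|e 433<|e 109<|d);
 (e 30<|e 120<|e 436<|e 433<|d)));
 (let d:=(let d:=(e 120<|e 109<|e 1732<|e 7556<|e 68<|d);
 (e 17<|e 1646<|e 68<|e 30<|d));
 (let d:=(e 20<|e 6254<|e 6<|e 411<|e 110<|
 d);
 (e 1563<|e 24<|e 5<|e 440<|d))));
 (let d:=(let d:=(let d:=(e 7<|e 29<|e 120<|e 30<|e 120<|d);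
 (e 68<|e 20<|e 17<|e 7<|d));
 (let d:=(e 93572<|e 100<|e 1<|e 1<|e 5<|d);
 (e 28036<|e 388<|e 100<|e 110980<|d)));
 (let d:=(let d:=(e 1134<|e 366<|e 388<|e 1464<|e 472<|
 d);
 (e 120<|e 4536<|e 1412<|e 100<|d));
 (let d:=(e 472<|e 1464<|e 110<|e 440<|e 30<|d);
 (e 109<|e 440<|e 25<|e 120<|d)))));
 (let d:=(let d:=(let d:=(let d:=(e 28<|e 116<|e 113<|e 29<|e 113<|d);
 (e 452<|e 29<|e 113<|
 e 7<|d));
 (let d:=(e 116<|e 113<|e 7<|e 28<|e 29<|d);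
 (e 6<|e 6<|e 29<|e 452<|d)));
 (let d:=(let d:=(e 27<|e 283<|e 4<|e 1<|e 91<|d);
 (e 97<|e 89<|e 1<|e 27<|d));
 (let d:=(e 89<|e 20<|e 25<|e 97<|e 25<|d);
 (e 5<|e 70<|e 22<|e 17<|d))));
 (let d:=(let d:=(let d:=(e 25<|e 1<|e 4<|e 102<|
 e 68<|d);
 (e 4<|e 20<|e 88<|e 6<|d));
 (let d:=(e 5<|e 17<|e 97<|e 24<|e 1<|d);
 (e 1<|e 4<|e 20<|e 17<|d)));
 (let d:=(let d:=(e 4<|e 5<|e 68<|e 5<|e 17<|d);
 (e 24<|e 6<|e 24<|e 1<|d));
 (let d:=(e 1<|e 5<|e 1<|e 1<|e 5<|d);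
 (b 1<|b 1<|b 17<|b 4<|d))))))))))
  T := tabT
  m := 20386
  M := (beta% delta% lq26057adeea fun b _ _ f _ _ _ _ _ _ _ _ _ =>
 (b (b 0<|b 12<|b 12<|b 0<|b 0<|b 0<|b 0<|b 0<|b 0<|b 0<|b 0<|b 0<|b 0<|b 0<|b 0<|b 0<|b 0<|b 0<|b 0<|b 0<|b 0<|b 0<|b 0<|b 0<|b 0<|f)<|b (b 1<|b 0<|b 0<|b 8<|b 6<|b 6<|b 0<|b 0<|b 0<|b 0<|b 0<|b 0<|b 3<|b 0<|
 b 0<|b 0<|b 0<|b 0<|b 0<|b 0<|b 0<|b 0<|b 0<|b 0<|b 0<|f)<|b (b 1<|b 0<|b 0<|b 0<|b 6<|b 6<|b 8<|b 0<|b 0<|b 0<|b 0<|b 0<|b 3<|b 0<|b 0<|b 0<|b 0<|b 0<|b 0<|b 0<|b 0<|b 0<|b 0<|b 0<|b 0<|f)<|b (b 0<|b 3<|b 0<|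
 b 0<|b 0<|b 0<|b 0<|b 9<|b 0<|b 0<|b 3<|b 0<|b 0<|b 9<|b 0<|b 0<|b 0<|b 0<|b 0<|b 0<|b 0<|b 0<|b 0<|b 0<|b 0<|f)<|b (b 0<|b 2<|b 2<|b 0<|b 0<|b 0<|b 0<|b 8<|b 8<|b 0<|b 0<|b 0<|b 0<|b 2<|b 2<|b 0<|b 0<|b 0<|
 b 0<|b 0<|b 0<|b 0<|b 0<|b 0<|b 0<|f)<|b (b 0<|b 1<|b 1<|b 0<|b 0<|b 0<|b 0<|b 4<|b 4<|b 4<|b 4<|b 0<|b 0<|b 2<|b 2<|b 0<|b 0<|b 1<|b 1<|b 0<|b 0<|b 0<|b 0<|b 0<|b 0<|f)<|b (b 0<|b 0<|b 3<|b 0<|b 0<|b 0<|b 0<|
 b 0<|b 9<|b 3<|b 0<|b 0<|b 0<|b 0<|b 9<|b 0<|b 0<|b 0<|b 0<|b 0<|b 0<|b 0<|b 0<|b 0<|b 0<|f)<|b (b 0<|b 0<|b 0<|b 3<|b 3<|b 3<|b 0<|b 0<|b 0<|b 0<|b 0<|b 6<|b 0<|b 0<|b 0<|b 6<|b 2<|b 0<|b 0<|b 0<|b 1<|b 0<|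
 b 0<|b 0<|b 0<|f)<|b (b 0<|b 0<|b 0<|b 0<|b 3<|b 3<|b 3<|b 0<|b 0<|b 0<|b 0<|b 6<|b 0<|b 0<|b 0<|b 6<|b 2<|b 0<|b 0<|b 1<|b 0<|b 0<|b 0<|b 0<|b 0<|f)<|b (b 0<|b 0<|b 0<|b 0<|b 0<|b 3<|b 1<|b 0<|b 0<|b 0<|b 0<|
 b 6<|b 0<|b 0<|b 0<|b 6<|b 0<|b 0<|b 0<|b 3<|b 0<|b 0<|b 3<|b 2<|b 0<|f)<|b (b 0<|b 0<|b 0<|b 1<|b 0<|b 3<|b 0<|b 0<|b 0<|b 0<|b 0<|b 6<|b 0<|b 0<|b 0<|b 6<|b 0<|b 0<|b 0<|b 0<|b 3<|b 0<|b 3<|b 2<|b 0<|f)<|
 b (b 0<|b 0<|b 0<|b 0<|b 0<|b 0<|b 0<|b 6<|b 6<|b 6<|b 6<|b 0<|b 0<|b 0<|b 0<|b 0<|b 0<|b 0<|b 0<|b 0<|b 0<|b 0<|b 0<|b 0<|b 0<|f)<|b (b 0<|b 2<|b 2<|b 0<|b 0<|b 0<|b 0<|b 0<|b 0<|b 0<|b 0<|b 0<|b 0<|b 8<|b 8<|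
 b 0<|b 0<|b 2<|b 2<|b 0<|b 0<|b 0<|b 0<|b 0<|b 0<|f)<|b (b 0<|b 0<|b 0<|b 4<|b 1<|b 2<|b 0<|b 0<|b 0<|b 0<|b 0<|b 0<|b 2<|b 0<|b 0<|b 8<|b 0<|b 0<|b 0<|b 0<|b 4<|b 2<|b 1<|b 0<|b 0<|f)<|b (b 0<|b 0<|b 0<|b 0<|
 b 1<|b 2<|b 4<|b 0<|b 0<|b 0<|b 0<|b 0<|b 2<|b 0<|b 0<|b 8<|b 0<|b 0<|b 0<|b 4<|b 0<|b 2<|b 1<|b 0<|b 0<|f)<|b (b 0<|b 0<|b 0<|b 0<|b 0<|b 0<|b 0<|b 4<|b 4<|b 4<|b 4<|b 0<|b 0<|b 4<|b 4<|b 0<|b 0<|b 0<|b 0<|
 b 0<|b 0<|b 0<|b 0<|b 0<|b 0<|f)<|b (b 0<|b 0<|b 0<|b 0<|b 0<|b 0<|b 0<|b 12<|b 12<|b 0<|b 0<|b 0<|b 0<|b 0<|b 0<|b 0<|b 0<|b 0<|b 0<|b 0<|b 0<|b 0<|b 0<|b 0<|b 0<|f)<|b (b 0<|b 0<|b 0<|b 0<|b 0<|b 6<|b 0<|b 0<|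
 b 0<|b 0<|b 0<|b 0<|b 3<|b 0<|b 0<|b 0<|b 0<|b 0<|b 0<|b 8<|b 0<|b 0<|b 6<|b 0<|b 1<|f)<|b (b 0<|b 0<|b 0<|b 0<|b 0<|b 6<|b 0<|b 0<|b 0<|b 0<|b 0<|b 0<|b 3<|b 0<|b 0<|b 0<|b 0<|b 0<|b 0<|b 0<|b 8<|b 0<|b 6<|
 b 0<|b 1<|f)<|b (b 0<|b 0<|b 0<|b 0<|b 0<|b 0<|b 0<|b 0<|b 3<|b 9<|b 0<|b 0<|b 0<|b 0<|b 9<|b 0<|b 0<|b 3<|b 0<|b 0<|b 0<|b 0<|b 0<|b 0<|b 0<|f)<|b (b 0<|b 0<|b 0<|b 0<|b 0<|b 0<|b 0<|b 3<|b 0<|b 0<|b 9<|b 0<|
 b 0<|b 9<|b 0<|b 0<|b 0<|b 0<|b 3<|b 0<|b 0<|b 0<|b 0<|b 0<|b 0<|f)<|b (b 0<|b 0<|b 0<|b 0<|b 0<|b 0<|b 0<|b 0<|b 0<|b 0<|b 0<|b 0<|b 0<|b 12<|b 12<|b 0<|b 0<|b 0<|b 0<|b 0<|b 0<|b 0<|b 0<|b 0<|b 0<|f)<|b (b 0<|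
 b 0<|b 0<|b 0<|b 0<|b 0<|b 0<|b 0<|b 0<|b 8<|b 8<|b 0<|b 0<|b 2<|b 2<|b 0<|b 0<|b 2<|b 2<|b 0<|b 0<|b 0<|b 0<|b 0<|b 0<|f)<|b (b 0<|b 0<|b 0<|b 0<|b 0<|b 0<|b 0<|b 0<|b 0<|b 12<|b 12<|b 0<|b 0<|b 0<|b 0<|
 b 0<|b 0<|b 0<|b 0<|b 0<|b 0<|b 0<|b 0<|b 0<|b 0<|f)<|b (b 0<|b 0<|b 0<|b 0<|b 0<|b 0<|b 0<|b 0<|b 0<|b 0<|b 0<|b 0<|b 0<|b 0<|b 0<|b 0<|b 0<|b 12<|b 12<|b 0<|b 0<|b 0<|b 0<|b 0<|b 0<|f)<|f))
  rel := (beta% delta% lq26057adeea fun b _ _ f g _ _ _ _ _ _ _ _ =>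
 (b (g 0<|g (b 0<|b 1<|b 2<|f)<|g 1<|g (b 6<|b (-6)<|b 8<|b (-8)<|b 12<|b (-12)<|b 24<|b (-24)<|f) 191102976)<|b (g 0<|g (b 2<|b 3<|b 0<|f)<|g 1<|g (b 6<|b (-6)<|b 8<|b (-8)<|b 12<|b (-12)<|b 24<|b (-24)<|f)
 191102976)<|b (g 0<|g (b 0<|b 1<|b 2<|b 3<|f)<|g 1<|g (b 6<|b (-6)<|b 8<|b (-8)<|b 12<|b (-12)<|b 24<|b (-24)<|f) 191102976)<|b (g 0<|g (b 2<|b 1<|b 2<|b 1<|f)<|g 1<|g (b 6<|b (-6)<|b 8<|b (-8)<|b 12<|
 b (-12)<|b 24<|b (-24)<|f) 191102976)<|b (g 0<|g (b 0<|b 2<|b 1<|b 2<|b 1<|f)<|g 1<|g (b 6<|b (-6)<|b 8<|b (-8)<|b 12<|b (-12)<|b 24<|b (-24)<|f) 191102976)<|b (g 0<|g (b 0<|b 1<|b 2<|b 3<|b 1<|b 2<|f)<|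
 g 1<|g (b 6<|b (-6)<|b 8<|b (-8)<|b 12<|b (-12)<|b 24<|b (-24)<|f) 191102976)<|b (g 0<|g (b 0<|b 1<|b 2<|b 3<|b 0<|b 2<|b 1<|b 2<|f)<|g 1<|g (b 6<|b (-6)<|b 8<|b (-8)<|b 12<|b (-12)<|b 24<|b (-24)<|f)
 191102976)<|b (g 0<|g (b 0<|b 1<|b 2<|b 1<|b 0<|b 3<|b 2<|b 1<|b 2<|b 3<|b 1<|b 2<|f)<|g 1<|g (b 6<|b (-6)<|b 8<|b (-8)<|b 12<|b (-12)<|b 24<|b (-24)<|f) 191102976)<|b (g 1<|g (b 2<|f)<|g 1<|g (b 6<|b (-6)<|
 b 8<|b (-8)<|b 12<|b (-12)<|b 24<|b (-24)<|f) 191102976)<|b (g 1<|g (b 2<|b 3<|f)<|g 1<|g (b 6<|b (-6)<|b 8<|b (-8)<|b 12<|b (-12)<|b 24<|b (-24)<|f) 191102976)<|b (g 1<|g (b 1<|b 0<|b 2<|b 1<|b 2<|b 3<|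
 b 0<|b 1<|f)<|g 1<|g (b 6<|b (-6)<|b 8<|b (-8)<|b 12<|b (-12)<|b 24<|b (-24)<|f) 191102976)<|b (g 5<|g f<|g 1<|g (b 6<|b (-6)<|b 8<|b (-8)<|b 12<|b (-12)<|b 24<|b (-24)<|f) 191102976)<|b (g 0<|g (b 2<|f)<|
 g 1<|g (b 0<|b (-6)<|b 8<|b (-8)<|b 12<|b (-12)<|b 24<|b (-24)<|f) (-117573120))<|b (g 0<|g (b 0<|b 1<|f)<|g 1<|g (b 0<|b (-6)<|b 8<|b (-8)<|b 12<|b (-12)<|b 24<|b (-24)<|f) (-117573120))<|b (g 0<|g (b 2<|
 b 3<|f)<|g 1<|g (b 0<|b (-6)<|b 8<|b (-8)<|b 12<|b (-12)<|b 24<|b (-24)<|f) (-117573120))<|b (g 0<|g (b 2<|f)<|g 1<|g (b 0<|b 6<|b 8<|b (-8)<|b 12<|b (-12)<|b 24<|b (-24)<|f) (-117573120))<|b (g 0<|g (b 0<|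
 b 1<|f)<|g 1<|g (b 0<|b 6<|b 8<|b (-8)<|b 12<|b (-12)<|b 24<|b (-24)<|f) (-117573120))<|b (g 0<|g (b 2<|b 3<|f)<|g 1<|g (b 0<|b 6<|b 8<|b (-8)<|b 12<|b (-12)<|b 24<|b (-24)<|f) (-117573120))<|b (g 0<|g (b 1<|
 b 2<|f)<|g 1<|g (b 0<|b 6<|b (-6)<|b (-8)<|b 12<|b (-12)<|b 24<|b (-24)<|f) 146800640)<|b (g 0<|g (b 1<|b 2<|f)<|g 1<|g (b 0<|b 6<|b (-6)<|b 8<|b 12<|b (-12)<|b 24<|b (-24)<|f) 146800640)<|b (g 0<|g (b 0<|f)<|
 g 1<|g (b 0<|b 6<|b (-6)<|b 8<|b (-8)<|b (-12)<|b 24<|b (-24)<|f) (-1074954240))<|b (g 0<|g (b 0<|b 1<|f)<|g 1<|g (b 0<|b 6<|b (-6)<|b 8<|b (-8)<|b (-12)<|b 24<|b (-24)<|f) (-1074954240))<|b (g 0<|g (b 1<|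
 b 2<|f)<|g 1<|g (b 0<|b 6<|b (-6)<|b 8<|b (-8)<|b (-12)<|b 24<|b (-24)<|f) (-1074954240))<|b (g 0<|g (b 2<|b 3<|f)<|g 1<|g (b 0<|b 6<|b (-6)<|b 8<|b (-8)<|b (-12)<|b 24<|b (-24)<|f) (-1074954240))<|b (g 0<|
 g (b 0<|f)<|g 1<|g (b 0<|b 6<|b (-6)<|b 8<|b (-8)<|b 12<|b 24<|b (-24)<|f) (-1074954240))<|b (g 0<|g (b 0<|b 1<|f)<|g 1<|g (b 0<|b 6<|b (-6)<|b 8<|b (-8)<|b 12<|b 24<|b (-24)<|f) (-1074954240))<|b (g 0<|g (b 1<|
 b 2<|f)<|g 1<|g (b 0<|b 6<|b (-6)<|b 8<|b (-8)<|b 12<|b 24<|b (-24)<|f) (-1074954240))<|b (g 0<|g (b 2<|b 3<|f)<|g 1<|g (b 0<|b 6<|b (-6)<|b 8<|b (-8)<|b 12<|b 24<|b (-24)<|f) (-1074954240))<|b (g 0<|g f<|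
 g 1<|g (b 0<|b 6<|b (-6)<|b 8<|b (-8)<|b 12<|b (-12)<|b (-24)<|f) 137594142720)<|b (g 0<|g f<|g 1<|g (b 0<|b 6<|b (-6)<|b 8<|b (-8)<|b 12<|b (-12)<|b 24<|f) 137594142720)<|f))
  d := 963158999040
  U := (beta% delta% lq26057adeea fun b _ _ f _ _ _ _ _ _ _ _ _ =>
 (b (b 0<|b 0<|b 0<|b 0<|b 0<|b 0<|b 0<|b 0<|b 0<|b 0<|b 0<|b 0<|b 1<|b (-1)<|b (-2)<|b 0<|b 0<|b 0<|b 0<|b 0<|b 0<|b 0<|b 0<|b 0<|b 0<|b 0<|b 0<|b 0<|b 0<|b 0<|f)<|b (b 0<|b 0<|b 0<|b 0<|b 0<|b 0<|b 0<|b 0<|b 0<|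
 b 0<|b 0<|b 0<|b 1<|b (-2)<|b (-3)<|b 0<|b 0<|b 0<|b 0<|b 0<|b 0<|b 0<|b 0<|b 0<|b 0<|b 0<|b 0<|b 0<|b 0<|b 0<|f)<|b (b 0<|b 0<|b 0<|b 0<|b 0<|b 0<|b 0<|b 0<|b 0<|b 0<|b 0<|b 0<|b 0<|b 0<|b 0<|b (-1)<|b (-1)<|
 b (-2)<|b 0<|b 0<|b 0<|b 0<|b 0<|b 0<|b 0<|b 0<|b 0<|b 0<|b 0<|b 0<|f)<|b (b 0<|b 0<|b 0<|b 0<|b 0<|b 0<|b 0<|b 0<|b 0<|b 0<|b 0<|b 0<|b 0<|b 0<|b 0<|b (-1)<|b (-2)<|b (-3)<|b 0<|b 0<|b 0<|b 0<|b 0<|b 0<|b 0<|b 0<|
 b 0<|b 0<|b 0<|b 0<|f)<|b (b 0<|b 0<|b 0<|b 0<|b 0<|b 0<|b 0<|b 0<|b 0<|b 0<|b 0<|b 0<|b 0<|b 0<|b 0<|b 0<|b 0<|b 0<|b 1<|b 0<|b 0<|b 0<|b 0<|b 0<|b 0<|b 0<|b 0<|b 0<|b 0<|b 0<|f)<|b (b 0<|b 0<|b 0<|b 0<|b 0<|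
 b 0<|b 0<|b 0<|b 0<|b 0<|b 0<|b 0<|b 0<|b 0<|b 0<|b 0<|b 0<|b 0<|b 0<|b 1<|b 0<|b 0<|b 0<|b 0<|b 0<|b 0<|b 0<|b 0<|b 0<|b 0<|f)<|b (b 0<|b 0<|b 0<|b 0<|b 0<|b 0<|b 0<|b 0<|b 0<|b 0<|b 0<|b 0<|b 0<|b 0<|b 0<|
 b 0<|b 0<|b 0<|b 0<|b 0<|b (-1)<|b 1<|b 1<|b 0<|b 0<|b 0<|b 0<|b 0<|b 0<|b 0<|f)<|b (b 0<|b 0<|b 0<|b 0<|b 0<|b 0<|b 0<|b 0<|b 0<|b 0<|b 0<|b 0<|b 0<|b 0<|b 0<|b 0<|b 0<|b 0<|b 0<|b 0<|b (-1)<|b 1<|b 0<|b 1<|
 b 0<|b 0<|b 0<|b 0<|b 0<|b 0<|f)<|b (b 0<|b 0<|b 0<|b 0<|b 0<|b 0<|b 0<|b 0<|b 0<|b 0<|b 0<|b 0<|b 0<|b 0<|b 0<|b 0<|b 0<|b 0<|b 0<|b 0<|b (-1)<|b 2<|b 0<|b 1<|b 0<|b 0<|b 0<|b 0<|b 0<|b 0<|f)<|b (b 0<|b 0<|b 0<|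
 b 0<|b 0<|b 0<|b 0<|b 0<|b 0<|b 0<|b 0<|b 0<|b 0<|b 0<|b 0<|b 0<|b 0<|b 0<|b 0<|b 0<|b 0<|b 0<|b 0<|b 0<|b 1<|b 1<|b 1<|b 0<|b 0<|b 0<|f)<|b (b 0<|b 0<|b 0<|b 0<|b 0<|b 0<|b 0<|b 0<|b 0<|b 0<|b 0<|b 0<|b 0<|
 b 0<|b 0<|b 0<|b 0<|b 0<|b 0<|b 0<|b 0<|b 0<|b 0<|b 0<|b (-1)<|b (-1)<|b 0<|b (-1)<|b 0<|b 0<|f)<|b (b 0<|b 0<|b 0<|b 0<|b 0<|b 0<|b 0<|b 0<|b 0<|b 0<|b 0<|b 0<|b 0<|b 0<|b 0<|b 0<|b 0<|b 0<|b 0<|b 0<|b 0<|b 0<|
 b 0<|b 0<|b 1<|b 2<|b 0<|b 1<|b 0<|b 0<|f)<|b (b 0<|b 0<|b 0<|b 0<|b 0<|b 0<|b 0<|b 0<|b 0<|b 0<|b 0<|b 0<|b 0<|b 0<|b 0<|b 0<|b 0<|b 0<|b 0<|b 0<|b 0<|b 0<|b 0<|b 0<|b 0<|b 0<|b 0<|b 0<|b 1<|b 0<|f)<|b (b 0<|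
 b 0<|b 0<|b 0<|b 0<|b 0<|b 0<|b 0<|b 0<|b 0<|b 0<|b 0<|b 0<|b 0<|b 0<|b 0<|b 0<|b 0<|b 0<|b 0<|b 0<|b 0<|b 0<|b 0<|b 0<|b 0<|b 0<|b 0<|b 0<|b 1<|f)<|b (b 0<|b (-1)<|b 0<|b 0<|b 1<|b 0<|b 0<|b 0<|b 0<|b 0<|b 0<|
 b 0<|b 0<|b 0<|b 0<|b 0<|b 0<|b 0<|b 0<|b 0<|b 0<|b 0<|b 0<|b 0<|b 0<|b 0<|b 0<|b 0<|b 0<|b 0<|f)<|b (b 0<|b 0<|b 0<|b 0<|b (-1)<|b 0<|b 0<|b 0<|b 0<|b 0<|b 0<|b 0<|b 0<|b 0<|b 0<|b 0<|b 0<|b 0<|b 0<|b 0<|b 0<|
 b 0<|b 0<|b 0<|b 0<|b 0<|b 0<|b 0<|b 0<|b 0<|f)<|b (b 0<|b (-3)<|b (-9)<|b 3<|b 0<|b (-5)<|b (-3)<|b 1<|b 0<|b 7<|b 1<|b 3<|b 0<|b 0<|b 0<|b 0<|b 0<|b 0<|b 0<|b 0<|b 0<|b 0<|b 0<|b 0<|b 0<|b 0<|b 0<|b 0<|b 0<|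
 b 0<|f)<|b (b 0<|b (-1)<|b (-3)<|b 1<|b 0<|b (-3)<|b (-1)<|b 0<|b 0<|b 1<|b 0<|b 1<|b 0<|b 0<|b 0<|b 0<|b 0<|b 0<|b 0<|b 0<|b 0<|b 0<|b 0<|b 0<|b 0<|b 0<|b 0<|b 0<|b 0<|b 0<|f)<|b (b (-5)<|b (-1)<|b 0<|b 1<|b (-3)<|b 0<|
 b 0<|b 0<|b 3<|b 4<|b 3<|b 1<|b 0<|b 0<|b 0<|b 0<|b 0<|b 0<|b 0<|b 0<|b 0<|b 0<|b 0<|b 0<|b 0<|b 0<|b 0<|b 0<|b 0<|b 0<|f)<|b (b 4<|b 1<|b 0<|b (-1)<|b 3<|b 0<|b 0<|b 0<|b (-3)<|b (-4)<|b (-3)<|b (-1)<|b 0<|b 0<|
 b 0<|b 0<|b 0<|b 0<|b 0<|b 0<|b 0<|b 0<|b 0<|b 0<|b 0<|b 0<|b 0<|b 0<|b 0<|b 0<|f)<|b (b (-3)<|b (-1)<|b 0<|b 1<|b (-2)<|b 0<|b 0<|b 0<|b 2<|b 4<|b 3<|b 1<|b 0<|b 0<|b 0<|b 0<|b 0<|b 0<|b 0<|b 0<|b 0<|b 0<|b 0<|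
 b 0<|b 0<|b 0<|b 0<|b 0<|b 0<|b 0<|f)<|b (b 0<|b 0<|b 0<|b 0<|b 0<|b 0<|b 0<|b 0<|b 0<|b 1<|b 0<|b 0<|b 0<|b 0<|b 0<|b 0<|b 0<|b 0<|b 0<|b 0<|b 0<|b 0<|b 0<|b 0<|b 0<|b 0<|b 0<|b 0<|b 0<|b 0<|f)<|b (b 0<|b 0<|
 b 0<|b 0<|b 0<|b 1<|b 0<|b 0<|b 0<|b 0<|b 0<|b 0<|b 0<|b 0<|b 0<|b 0<|b 0<|b 0<|b 0<|b 0<|b 0<|b 0<|b 0<|b 0<|b 0<|b 0<|b 0<|b 0<|b 0<|b 0<|f)<|b (b 0<|b 0<|b 0<|b 0<|b 0<|b 0<|b 0<|b 0<|b 0<|b 1<|b 1<|b 0<|
 b 0<|b 0<|b 0<|b 0<|b 0<|b 0<|b 0<|b 0<|b 0<|b 0<|b 0<|b 0<|b 0<|b 0<|b 0<|b 0<|b 0<|b 0<|f)<|b (b (-3)<|b (-1)<|b (-1)<|b 1<|b (-2)<|b (-1)<|b 0<|b 0<|b 2<|b 4<|b 3<|b 1<|b 0<|b 0<|b 0<|b 0<|b 0<|b 0<|b 0<|b 0<|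
 b 0<|b 0<|b 0<|b 0<|b 0<|b 0<|b 0<|b 0<|b 0<|b 0<|f)<|f))
  B := (beta% delta% lq26057adeea fun b _ _ f _ _ _ _ _ _ _ _ _ =>
 (b (b 8<|b (-8)<|b 8<|b (-8)<|b 9<|b 9<|b 0<|b 2<|b 4<|b 0<|b (-2)<|b 4<|b 1<|b 1<|b 1<|b 4<|b 0<|b 0<|b (-9)<|b 9<|b 6<|b (-4)<|b 0<|b (-12)<|b 0<|f)<|b (b 0<|b (-4)<|b 0<|b 4<|b 3<|b (-3)<|b 0<|b 0<|b 2<|b 0<|b 0<|
 b (-2)<|b 1<|b (-1)<|b (-1)<|b 2<|b 0<|b 0<|b 3<|b 3<|b 0<|b 0<|b 0<|b 0<|b 0<|f)<|b (b 4<|b 0<|b (-4)<|b 0<|b 3<|b (-3)<|b 0<|b 2<|b 2<|b 0<|b 2<|b (-2)<|b 1<|b (-1)<|b 1<|b (-2)<|b 0<|b 0<|b (-3)<|b (-3)<|b 0<|b 0<|b 0<|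
 b 0<|b 0<|f)<|b (b (-1)<|b (-2)<|b (-1)<|b (-2)<|b 0<|b 0<|b 0<|b (-1)<|b 1<|b 0<|b 1<|b 1<|b 1<|b 1<|b 1<|b 1<|b 0<|b 0<|b 0<|b 0<|b 0<|b 2<|b 0<|b 0<|b 0<|f)<|b (b 0<|b 0<|b 0<|b 0<|b 1<|b 1<|b 1<|b 1<|b 1<|b 1<|
 b (-1)<|b 1<|b 1<|b 1<|b 0<|b (-1)<|b 0<|b 0<|b 0<|b 0<|b 0<|b (-2)<|b 0<|b 2<|b 0<|f)<|b (b 0<|b 0<|b 0<|b 0<|b 1<|b 1<|b 0<|b 0<|b 0<|b 0<|b 0<|b 0<|b 1<|b 1<|b (-1)<|b 0<|b 0<|b 0<|b 1<|b (-1)<|b (-2)<|b 0<|b 0<|
 b 0<|b 0<|f)<|b (b 2<|b 1<|b 2<|b 1<|b 0<|b 0<|b 0<|b 2<|b 1<|b 0<|b (-2)<|b 1<|b 1<|b 1<|b 1<|b 1<|b 0<|b 0<|b 0<|b 0<|b 0<|b 2<|b 0<|b 0<|b 0<|f)<|b (b (-1)<|b 0<|b 1<|b 0<|b 0<|b 0<|b 1<|b 0<|b 0<|b (-1)<|b 0<|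
 b 0<|b 1<|b (-1)<|b 0<|b 0<|b 0<|b 0<|b (-1)<|b (-1)<|b 0<|b 0<|b 0<|b 0<|b 0<|f)<|b (b 0<|b 1<|b 0<|b (-1)<|b 0<|b 0<|b 1<|b 1<|b 0<|b (-1)<|b 1<|b 0<|b 1<|b (-1)<|b 0<|b 0<|b 0<|b 0<|b 1<|b 1<|b 0<|b 0<|b 0<|b 0<|
 b 0<|f)<|b (b 0<|b (-1)<|b 0<|b 1<|b 0<|b 0<|b 0<|b 0<|b (-1)<|b 0<|b 0<|b 1<|b 1<|b (-1)<|b (-1)<|b (-1)<|b 0<|b 0<|b 0<|b 0<|b 0<|b 0<|b 0<|b 0<|b 0<|f)<|b (b 1<|b 0<|b (-1)<|b 0<|b 0<|b 0<|b 0<|b (-1)<|b (-1)<|b 0<|
 b (-1)<|b 1<|b 1<|b (-1)<|b 1<|b 1<|b 0<|b 0<|b 0<|b 0<|b 0<|b 0<|b 0<|b 0<|b 0<|f)<|b (b 0<|b 0<|b 0<|b 0<|b 0<|b 0<|b 1<|b 0<|b (-1)<|b 1<|b 0<|b (-1)<|b 1<|b 1<|b 0<|b 0<|b 0<|b 0<|b 0<|b 0<|b 1<|b 0<|b (-1)<|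
 b 0<|b (-1)<|f)<|b (b 0<|b 0<|b 0<|b 0<|b 1<|b 1<|b (-2)<|b 0<|b 2<|b (-2)<|b 0<|b 2<|b 1<|b 1<|b (-1)<|b (-2)<|b 0<|b 0<|b 1<|b (-1)<|b 2<|b 0<|b 0<|b 0<|b 0<|f)<|b (b 0<|b 0<|b 0<|b 0<|b (-1)<|b 1<|b (-1)<|b (-1)<|b 1<|
 b 1<|b (-1)<|b (-1)<|b 1<|b (-1)<|b 0<|b (-1)<|b 0<|b 0<|b 0<|b 0<|b 0<|b 0<|b 0<|b 0<|b 0<|f)<|b (b 0<|b 0<|b 0<|b 0<|b (-1)<|b 1<|b (-1)<|b 1<|b 1<|b 1<|b 1<|b (-1)<|b 1<|b (-1)<|b 0<|b 1<|b 0<|b 0<|b 0<|b 0<|b 0<|
 b 0<|b 0<|b 0<|b 0<|f)<|b (b 0<|b 0<|b 0<|b 0<|b (-1)<|b (-1)<|b 0<|b 0<|b 0<|b 0<|b 0<|b 0<|b 1<|b 1<|b 0<|b 0<|b 0<|b 0<|b 0<|b 0<|b 0<|b 0<|b 1<|b 0<|b 0<|f)<|b (b (-2)<|b 2<|b (-2)<|b 2<|b 0<|b 0<|b 2<|b 1<|b 0<|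
 b 2<|b (-1)<|b 0<|b 1<|b 1<|b 0<|b 0<|b 0<|b (-1)<|b (-1)<|b 1<|b 0<|b 0<|b 0<|b (-3)<|b 3<|f)<|b (b (-4)<|b 0<|b 4<|b 0<|b 3<|b (-3)<|b (-2)<|b 0<|b 0<|b 2<|b 0<|b 0<|b 1<|b (-1)<|b 3<|b 0<|b 0<|b 0<|b (-1)<|b (-1)<|b 0<|
 b 0<|b 0<|b 0<|b 0<|f)<|b (b 0<|b 4<|b 0<|b (-4)<|b 3<|b (-3)<|b (-2)<|b (-2)<|b 0<|b 2<|b (-2)<|b 0<|b 1<|b (-1)<|b (-3)<|b 0<|b 0<|b 0<|b 1<|b 1<|b 0<|b 0<|b 0<|b 0<|b 0<|f)<|b (b (-2)<|b (-1)<|b (-2)<|b (-1)<|b 0<|b 0<|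
 b (-1)<|b 1<|b 0<|b (-1)<|b (-1)<|b 0<|b 1<|b 1<|b 0<|b 0<|b 0<|b 2<|b (-1)<|b 1<|b 0<|b 0<|b 0<|b 0<|b 0<|f)<|b (b 1<|b 2<|b 1<|b 2<|b 0<|b 0<|b (-1)<|b (-2)<|b 0<|b (-1)<|b 2<|b 0<|b 1<|b 1<|b 0<|b 0<|b 0<|b 2<|
 b (-1)<|b 1<|b 0<|b 0<|b 0<|b 0<|b 0<|f)<|b (b 0<|b 0<|b 0<|b 0<|b (-3)<|b (-3)<|b (-2)<|b 0<|b 2<|b (-2)<|b 0<|b 2<|b 1<|b 1<|b 0<|b 0<|b 1<|b (-3)<|b 0<|b 0<|b 0<|b (-3)<|b (-4)<|b (-1)<|b 0<|f)<|b (b 0<|b 0<|b 0<|b 0<|
 b 1<|b 1<|b (-1)<|b (-1)<|b (-1)<|b (-1)<|b 1<|b (-1)<|b 1<|b 1<|b 0<|b 1<|b (-2)<|b (-2)<|b 0<|b 0<|b 0<|b 0<|b 0<|b 0<|b 0<|f)<|b (b 2<|b (-2)<|b 2<|b (-2)<|b 0<|b 0<|b 0<|b (-1)<|b (-2)<|b 0<|b 1<|b (-2)<|b 1<|b 1<|b 1<|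
 b (-2)<|b 3<|b 0<|b 0<|b 0<|b 0<|b (-1)<|b 0<|b 0<|b 3<|f)<|b (b (-8)<|b 8<|b (-8)<|b 8<|b 9<|b 9<|b (-4)<|b (-2)<|b 0<|b (-4)<|b 2<|b 0<|b 1<|b 1<|b 9<|b 0<|b 12<|b (-4)<|b (-1)<|b 1<|b 6<|b 0<|b 0<|b 0<|b 0<|f)<|f))
  c := 102172785
  rw := (beta% delta% lq26057adeea fun b _ _ f g _ _ _ _ _ _ _ _ =>
 (b (g 117703048320<|g 2<|g 1 f)<|b (g 117703048320<|g 2<|g 1 (b 0<|f))<|b (g 117703048320<|g 2<|g 1 (b 0<|b 0<|f))<|b (g 117703048320<|g 2<|g 1 (b 0<|b 0<|b 0<|f))<|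
 b (g 117703048320<|g 2<|g 1 (b 0<|b 0<|b 0<|b 0<|f))<|b (g 117703048320<|g 2<|g 1 (b 0<|b 0<|b 0<|b 0<|b 0<|f))<|b (g 58851524160<|g 2<|g 1 (b 0<|b 0<|b 0<|b 0<|b 0<|b 0<|f))<|
 b (g 19617174720<|g 2<|g 2 (b 0<|b 0<|b 0<|b 0<|b 0<|b 0<|b 1<|f))<|b (g 9808587360<|g 2<|g 3 (b 0<|b 0<|b 0<|b 0<|b 0<|b 0<|b (-1)<|b 1<|f))<|b (g 58851524160<|g 2<|g 1 (b 0<|b 0<|b 0<|
 b 0<|b 0<|b 0<|b 0<|b 0<|b 0<|f))<|b (g 19617174720<|g 2<|g 2 (b 0<|b 0<|b 0<|b 0<|b 0<|b 0<|b 0<|b 0<|b 0<|b (-1)<|f))<|b (g 9808587360<|g 2<|g 3 (b 0<|b 0<|b 0<|b 0<|b 0<|b 0<|b 0<|b 0<|b 0<|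
 b (-1)<|b (-1)<|f))<|b (g 117703048320<|g 2<|g 1 (b 0<|b 0<|b 0<|b 0<|b 0<|b 0<|b 0<|b 0<|b 0<|b 0<|b 0<|b 0<|f))<|b (g 117703048320<|g 2<|g 1 (b 0<|b 0<|b 0<|b 0<|b 0<|b 0<|b 0<|b 0<|b 0<|b 0<|
 b 0<|b 0<|b 0<|f))<|b (g 29425762080<|g 3<|g 1 (b 0<|b 0<|b 0<|b 0<|b 0<|b 0<|b 0<|b 0<|b 0<|b 0<|b 0<|b 0<|b 0<|b 0<|f))<|b (g 9808587360<|g 2<|g 2 (b 0<|b 0<|b 0<|b 0<|b 0<|b 0<|b 0<|b 0<|b 0<|
 b 0<|b 0<|b 0<|b 0<|b 0<|b 1<|f))<|b (g 7356440520<|g 3<|g 2 (b 0<|b 0<|b 0<|b 0<|b 0<|b 0<|b 0<|b 0<|b 0<|b 0<|b 0<|b 0<|b 0<|b 0<|b 1<|b 0<|f))<|b (g 133753464<|g 2<|g 16 (b 0<|b 0<|b 0<|b 0<|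
 b 0<|b 0<|b 0<|b 0<|b 0<|b 0<|b 0<|b 0<|b 0<|b 0<|b (-5)<|b (-8)<|b 6<|f))<|b (g 1632384<|g 2<|g 165 (b 0<|b 0<|b 0<|b 0<|b 0<|b 0<|b 0<|b 0<|b 0<|b 0<|b 0<|b 0<|b 0<|b 0<|b (-65)<|b (-16)<|b 12<|
 b (-78)<|f))<|b (g 308880<|g 2<|g 437 (b 0<|b 0<|b 0<|b 0<|b 0<|b 0<|b 0<|b 0<|b 0<|b 0<|b 0<|b 0<|b 0<|b 0<|b (-59)<|b 167<|b (-16)<|b 104<|b 217<|f))<|b (g 999856<|g 2<|g 218 (b 0<|b 0<|b 0<|
 b 0<|b 0<|b 0<|b 0<|b 0<|b 0<|b 0<|b 0<|b 0<|b 0<|b 0<|b 89<|b (-45)<|b 50<|b 2<|b (-65)<|b 65<|f))<|b (g 2476916<|g 2<|g 135 (b 0<|b 0<|b 0<|b 0<|b 0<|b 0<|b 0<|b 0<|b 0<|b 0<|b 0<|b 0<|b 0<|b 0<|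
 b 37<|b 45<|b (-5)<|b 16<|b 20<|b (-20)<|b (-11)<|f))<|b (g 5144364<|g 2<|g 88 (b 0<|b 0<|b 0<|b 0<|b 0<|b 0<|b 0<|b 0<|b 0<|b 0<|b 0<|b 0<|b 0<|b 0<|b (-3)<|b 13<|b (-21)<|b 32<|b (-4)<|b 4<|b (-11)<|
 b 39<|f))<|b (g 9431334<|g 2<|g 65 (b 0<|b 0<|b 0<|b 0<|b 0<|b 0<|b 0<|b 0<|b 0<|b 0<|b 0<|b 0<|b 0<|b 0<|b 1<|b (-26)<|b 7<|b 11<|b 23<|b (-23)<|b (-18)<|b (-13)<|b 14<|f))<|b (g 613036710<|g 2<|
 g 8 (b 0<|b 0<|b 0<|b 0<|b 0<|b 0<|b 0<|b 0<|b 0<|b 0<|b 0<|b 0<|b 0<|b 0<|b 1<|b (-2)<|b 3<|b (-1)<|b (-1)<|b 1<|b (-2)<|b (-1)<|b 2<|b (-3)<|f))<|f))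

/-- the bad vectors -/
def bad : Fin 3 → List (List ℤ) := (beta% delta% lq26057adeea fun b _ _ f _ h _ l m _ _ _ _ =>
 (l (let d:=(let d:=(let d:=(h (b 10<|b 0<|b 0<|b (-2)<|b 0<|b 2<|b (-2)<|b 0<|b 0<|b 0<|b 0<|b 0<|b (-2)<|b 0<|b 0<|b 0<|b 0<|b 0<|b 0<|b 0<|b 0<|b 4<|b 0<|b (-2)<|
 b (-6)<|f)<|h (b 10<|b 0<|b 0<|b (-2)<|b 2<|b (-2)<|b (-2)<|b 0<|b 0<|b 0<|b 0<|b 0<|b 2<|b 0<|b 0<|b 1<|b 0<|b 0<|b 0<|b 0<|b 0<|b (-1)<|b 0<|b 1<|b 6<|f)<|h (b 10<|b 0<|b 0<|b (-2)<|b 2<|b (-2)<|b (-2)<|b 0<|b 0<|b 0<|b 0<|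
 b 1<|b 2<|b 0<|b 0<|b 0<|b 0<|b 0<|b 0<|b 0<|b 0<|b 3<|b 0<|b 1<|b 6<|f)<|h (b 10<|b 2<|b (-2)<|b 1<|b (-1)<|b (-2)<|b 1<|b 0<|b 0<|b (-1)<|b 1<|b 0<|b 0<|b (-1)<|b 1<|b 0<|b 3<|b 0<|b 0<|b 0<|b 0<|b 0<|b 1<|b 1<|
 b 6<|f)<|h (b 10<|b 2<|b (-2)<|b 1<|b (-1)<|b (-2)<|b 1<|b 0<|b 0<|b (-1)<|b 1<|b 1<|b 0<|b (-1)<|b 1<|b 0<|b 0<|b 0<|b 0<|b 0<|b 0<|b 0<|b 1<|b (-2)<|b 6<|f)<|f);
 (h (b 5<|b 1<|
 b (-1)<|b (-1)<|b 2<|b (-1)<|b (-1)<|b 0<|b 0<|b 1<|b (-1)<|b 0<|b (-1)<|b 0<|b 0<|b 1<|b (-3)<|b (-3)<|b 3<|b 0<|b 0<|b (-1)<|b 0<|b (-1)<|b 9<|f)<|h (b 5<|b 3<|b (-3)<|b 2<|b (-2)<|b (-1)<|b 2<|b (-1)<|b 1<|b 0<|b 0<|b 0<|b (-1)<|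
 b 0<|b 0<|b 0<|b 1<|b (-1)<|b 1<|b 1<|b 1<|b (-3)<|b 0<|b (-1)<|b 1<|f)<|h (b 10<|b (-2)<|b 2<|b 1<|b (-1)<|b (-2)<|b 1<|b 0<|b 0<|b 1<|b (-1)<|b 0<|b 0<|b 1<|b (-1)<|b 0<|b 3<|b 0<|b 0<|b 0<|b 0<|b 0<|b 1<|b 1<|b 6<|f)<|
 h (b 10<|b (-2)<|b 2<|b 1<|b (-1)<|b (-2)<|b 1<|b 0<|b 0<|b 1<|b (-1)<|b 1<|b 0<|b 1<|b (-1)<|b 0<|b 0<|b 0<|b 0<|b 0<|b 0<|b 0<|b 1<|b (-2)<|b 6<|f)<|h (b 10<|b 0<|b 0<|b (-2)<|b 0<|b 2<|b (-2)<|b 0<|b 0<|b 0<|b 0<|b (-1)<|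
 b (-2)<|b 0<|b 0<|b 1<|b 0<|b 0<|b 0<|b 0<|b 0<|b 0<|b 0<|b (-2)<|b (-6)<|f)<|d));
 (let d:=(h (b 5<|b 1<|b (-1)<|b (-1)<|b 1<|b (-1)<|b (-1)<|b (-1)<|b 1<|b 1<|b (-1)<|b 1<|b 1<|b 1<|b (-1)<|b 0<|b (-1)<|b (-1)<|b 1<|
 b (-1)<|b (-1)<|b 3<|b 1<|b (-1)<|b 5<|f)<|h (b 5<|b 1<|b (-1)<|b (-1)<|b 2<|b (-1)<|b (-1)<|b 0<|b 0<|b 1<|b (-1)<|b (-1)<|b (-1)<|b 0<|b 0<|b 1<|b 0<|b (-3)<|b 3<|b 0<|b 0<|b (-1)<|b 0<|b 2<|b 9<|f)<|h (b 5<|b 1<|b (-1)<|b (-1)<|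
 b 2<|b (-1)<|b (-1)<|b 0<|b 0<|b 1<|b (-1)<|b 0<|b (-1)<|b 0<|b 0<|b 0<|b (-1)<|b (-3)<|b 3<|b 2<|b 2<|b (-1)<|b 0<|b (-1)<|b (-7)<|f)<|h (b 5<|b 1<|b (-1)<|b (-1)<|b 2<|b (-1)<|b (-1)<|b 0<|b 0<|b 1<|b (-1)<|b 0<|b (-1)<|b 0<|b 0<|
 b 0<|b 0<|b (-3)<|b 3<|b 0<|b 0<|b 2<|b 2<|b (-1)<|b (-3)<|f)<|h (b 5<|b 1<|b (-1)<|b (-1)<|b 2<|b (-1)<|b (-1)<|b 0<|b 0<|b 1<|b (-1)<|b 0<|b (-1)<|b 0<|b 0<|b 0<|b 0<|b (-3)<|b 3<|b 0<|b 0<|b 3<|b 0<|b 2<|b 9<|f)<|d);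
 (h (b 5<|b 1<|b (-1)<|
 b (-1)<|b 0<|b (-1)<|b (-1)<|b 0<|b 0<|b 1<|b (-1)<|b 1<|b 3<|b 0<|b 0<|b 0<|b 0<|b (-3)<|b 3<|b 0<|b 0<|b 1<|b (-2)<|b 2<|b 9<|f)<|h (b 5<|b 1<|b (-1)<|b (-1)<|b 1<|b (-1)<|b (-1)<|b (-1)<|b 1<|b 1<|b (-1)<|b 0<|b 1<|b 1<|
 b (-1)<|b 0<|b 1<|b (-1)<|b 1<|b 1<|b 1<|b (-1)<|b 1<|b (-1)<|b (-11)<|f)<|h (b 5<|b 1<|b (-1)<|b (-1)<|b 1<|b (-1)<|b (-1)<|b (-1)<|b 1<|b 1<|b (-1)<|b 0<|b 1<|b 1<|b (-1)<|b 0<|b 2<|b (-1)<|b 1<|b (-1)<|b (-1)<|b 3<|b 1<|b 2<|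
 b 5<|f)<|h (b 5<|b 1<|b (-1)<|b (-1)<|b 1<|b (-1)<|b (-1)<|b (-1)<|b 1<|b 1<|b (-1)<|b 0<|b 1<|b 1<|b (-1)<|b 1<|b (-1)<|b (-1)<|b 1<|b (-1)<|b (-1)<|b (-1)<|b 1<|b (-1)<|b 5<|f)<|h (b 5<|b 1<|b (-1)<|b (-1)<|b 1<|b (-1)<|b (-1)<|b (-1)<|
 b 1<|b 1<|b (-1)<|b 1<|b 1<|b 1<|b (-1)<|b 0<|b (-2)<|b (-1)<|b 1<|b 1<|b 1<|b 0<|b (-1)<|b (-1)<|b 1<|f)<|d)));
 (let d:=(let d:=(h (b 5<|b (-1)<|b 1<|b (-1)<|b 2<|b (-1)<|b (-1)<|b 0<|b 0<|b (-1)<|b 1<|b 0<|b (-1)<|b 0<|b 0<|b 0<|b 0<|b 3<|b (-3)<|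
 b 0<|b 0<|b 3<|b 0<|b 2<|b 9<|f)<|h (b 5<|b (-1)<|b 1<|b (-1)<|b 2<|b (-1)<|b (-1)<|b 0<|b 0<|b (-1)<|b 1<|b 0<|b (-1)<|b 0<|b 0<|b 1<|b (-3)<|b 3<|b (-3)<|b 0<|b 0<|b (-1)<|b 0<|b (-1)<|b 9<|f)<|h (b 5<|b 1<|b (-1)<|b (-1)<|b 0<|
 b (-1)<|b (-1)<|b 0<|b 0<|b 1<|b (-1)<|b 0<|b 3<|b 0<|b 0<|b 0<|b 3<|b (-3)<|b 3<|b 0<|b 0<|b 0<|b 0<|b 2<|b (-3)<|f)<|h (b 5<|b 1<|b (-1)<|b (-1)<|b 0<|b (-1)<|b (-1)<|b 0<|b 0<|b 1<|b (-1)<|b 0<|b 3<|b 0<|b 0<|b 1<|b 0<|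
 b (-3)<|b 3<|b 0<|b 0<|b (-4)<|b 0<|b (-1)<|b (-3)<|f)<|h (b 5<|b 1<|b (-1)<|b (-1)<|b 0<|b (-1)<|b (-1)<|b 0<|b 0<|b 1<|b (-1)<|b 1<|b 3<|b 0<|b 0<|b 0<|b 0<|b (-3)<|b 3<|b 0<|b 0<|b 0<|b 0<|b (-1)<|b (-3)<|f)<|d);
 (h (b 5<|
 b (-1)<|b 1<|b (-1)<|b 1<|b (-1)<|b (-1)<|b 1<|b (-1)<|b (-1)<|b 1<|b 1<|b 1<|b (-1)<|b 1<|b 0<|b (-2)<|b 1<|b (-1)<|b 1<|b 1<|b 0<|b (-1)<|b (-1)<|b 1<|f)<|h (b 5<|b (-1)<|b 1<|b (-1)<|b 1<|b (-1)<|b (-1)<|b 1<|b (-1)<|b (-1)<|b 1<|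
 b 1<|b 1<|b (-1)<|b 1<|b 0<|b (-1)<|b 1<|b (-1)<|b (-1)<|b (-1)<|b 3<|b 1<|b (-1)<|b 5<|f)<|h (b 5<|b (-1)<|b 1<|b (-1)<|b 2<|b (-1)<|b (-1)<|b 0<|b 0<|b (-1)<|b 1<|b (-1)<|b (-1)<|b 0<|b 0<|b 1<|b 0<|b 3<|b (-3)<|b 0<|b 0<|b (-1)<|
 b 0<|b 2<|b 9<|f)<|h (b 5<|b (-1)<|b 1<|b (-1)<|b 2<|b (-1)<|b (-1)<|b 0<|b 0<|b (-1)<|b 1<|b 0<|b (-1)<|b 0<|b 0<|b 0<|b (-1)<|b 3<|b (-3)<|b 2<|b 2<|b (-1)<|b 0<|b (-1)<|b (-7)<|f)<|h (b 5<|b (-1)<|b 1<|b (-1)<|b 2<|b (-1)<|b (-1)<|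
 b 0<|b 0<|b (-1)<|b 1<|b 0<|b (-1)<|b 0<|b 0<|b 0<|b 0<|b 3<|b (-3)<|b 0<|b 0<|b 2<|b 2<|b (-1)<|b (-3)<|f)<|d));
 (let d:=(h (b 5<|b (-3)<|b 3<|b 2<|b (-2)<|b (-1)<|b 2<|b 1<|b (-1)<|b 0<|b 0<|b 0<|b (-1)<|b 0<|b 0<|b 0<|b 1<|b 1<|b (-1)<|b 1<|
 b 1<|b (-3)<|b 0<|b (-1)<|b 1<|f)<|h (b 5<|b (-1)<|b 1<|b (-1)<|b 0<|b (-1)<|b (-1)<|b 0<|b 0<|b (-1)<|b 1<|b 1<|b 3<|b 0<|b 0<|b 0<|b 0<|b 3<|b (-3)<|b 0<|b 0<|b 1<|b (-2)<|b 2<|b 9<|f)<|h (b 5<|b (-1)<|b 1<|b (-1)<|b 1<|b (-1)<|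
 b (-1)<|b 1<|b (-1)<|b (-1)<|b 1<|b 0<|b 1<|b (-1)<|b 1<|b 0<|b 1<|b 1<|b (-1)<|b 1<|b 1<|b (-1)<|b 1<|b (-1)<|b (-11)<|f)<|h (b 5<|b (-1)<|b 1<|b (-1)<|b 1<|b (-1)<|b (-1)<|b 1<|b (-1)<|b (-1)<|b 1<|b 0<|b 1<|b (-1)<|b 1<|b 0<|
 b 2<|b 1<|b (-1)<|b (-1)<|b (-1)<|b 3<|b 1<|b 2<|b 5<|f)<|h (b 5<|b (-1)<|b 1<|b (-1)<|b 1<|b (-1)<|b (-1)<|b 1<|b (-1)<|b (-1)<|b 1<|b 0<|b 1<|b (-1)<|b 1<|b 1<|b (-1)<|b 1<|b (-1)<|b (-1)<|b (-1)<|b (-1)<|b 1<|b (-1)<|b 5<|f)<|d);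
 (b (b 5<|b (-1)<|b 1<|b (-1)<|b 0<|b (-1)<|b (-1)<|b 0<|b 0<|b (-1)<|b 1<|b 0<|b 3<|b 0<|b 0<|b 0<|b 3<|b 3<|b (-3)<|b 0<|b 0<|b 0<|b 0<|b 2<|b (-3)<|f)<|b (b 5<|b (-1)<|b 1<|b (-1)<|b 0<|b (-1)<|b (-1)<|b 0<|b 0<|b (-1)<|b 1<|
 b 0<|b 3<|b 0<|b 0<|b 1<|b 0<|b 3<|b (-3)<|b 0<|b 0<|b (-4)<|b 0<|b (-1)<|b (-3)<|f)<|b (b 5<|b (-1)<|b 1<|b (-1)<|b 0<|b (-1)<|b (-1)<|b 0<|b 0<|b (-1)<|b 1<|b 1<|b 3<|b 0<|b 0<|b 0<|b 0<|b 3<|b (-3)<|b 0<|b 0<|b 0<|b 0<|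
 b (-1)<|b (-3)<|f)<|b (b 5<|b (-1)<|b 1<|b (-1)<|b 1<|b (-1)<|b (-1)<|b 1<|b (-1)<|b (-1)<|b 1<|b 0<|b 1<|b (-1)<|b 1<|b 0<|b 1<|b 1<|b (-1)<|b 1<|b 1<|b 0<|b (-1)<|b 2<|b 1<|f)<|b (b 5<|b 1<|b (-1)<|b (-1)<|b 1<|b (-1)<|b (-1)<|b (-1)<|
 b 1<|b 1<|b (-1)<|b 0<|b 1<|b 1<|b (-1)<|b 0<|b 1<|b (-1)<|b 1<|b 1<|b 1<|b 0<|b (-1)<|b 2<|b 1<|f)<|d))))<|
 l (let d:=(let d:=(let d:=(h (b 9<|b (-3)<|b 3<|b 0<|b 0<|b (-1)<|b 0<|b 1<|b (-1)<|b 0<|b 0<|b 0<|b (-1)<|b 0<|b 0<|b 1<|b (-1)<|b 1<|b (-1)<|b (-1)<|b (-1)<|b (-1)<|b 2<|b (-3)<|b 5<|f)<|h (b 9<|b 3<|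
 b (-3)<|b 0<|b (-2)<|b (-1)<|b 0<|b (-1)<|b 1<|b 0<|b 0<|b 1<|b 3<|b 0<|b 0<|b 0<|b 2<|b (-1)<|b 1<|b (-1)<|b (-1)<|b 1<|b 0<|b 0<|b 5<|f)<|h (b 9<|b 3<|b (-3)<|b 0<|b 0<|b (-1)<|b 0<|b (-1)<|b 1<|b 0<|b 0<|b (-1)<|b (-1)<|b 0<|
 b 0<|b 1<|b 2<|b (-1)<|b 1<|b (-1)<|b (-1)<|b (-1)<|b 2<|b 0<|b 5<|f)<|h (b 9<|b 3<|b (-3)<|b 0<|b 0<|b (-1)<|b 0<|b (-1)<|b 1<|b 0<|b 0<|b 0<|b (-1)<|b 0<|b 0<|b 0<|b 2<|b (-1)<|b 1<|b (-1)<|b (-1)<|b 3<|b 2<|b 0<|b 5<|f)<|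
 h (b 9<|b 3<|b (-3)<|b 0<|b 0<|b (-1)<|b 0<|b (-1)<|b 1<|b 0<|b 0<|b 0<|b (-1)<|b 0<|b 0<|b 1<|b (-1)<|b (-1)<|b 1<|b (-1)<|b (-1)<|b (-1)<|b 2<|b (-3)<|b 5<|f)<|f);
 (h (b 6<|b 0<|b 0<|b 0<|b 1<|b (-2)<|b 0<|
 b 1<|b (-1)<|b 0<|b 0<|b 0<|b 0<|b (-1)<|b 1<|b 0<|b 1<|b (-2)<|b 2<|b 1<|b 1<|b 0<|b (-1)<|b 3<|b 10<|f)<|h (b 6<|b 0<|b 0<|b 0<|b 1<|b (-2)<|b 0<|b 1<|b (-1)<|b 0<|b 0<|b 1<|b 0<|b (-1)<|b 1<|b 0<|b (-2)<|b (-2)<|b 2<|
 b 1<|b 1<|b 0<|b (-1)<|b 0<|b 10<|f)<|h (b 9<|b (-3)<|b 3<|b 0<|b (-2)<|b (-1)<|b 0<|b 1<|b (-1)<|b 0<|b 0<|b 1<|b 3<|b 0<|b 0<|b 0<|b 2<|b 1<|b (-1)<|b (-1)<|b (-1)<|b 1<|b 0<|b 0<|b 5<|f)<|h (b 9<|b (-3)<|b 3<|b 0<|b 0<|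
 b (-1)<|b 0<|b 1<|b (-1)<|b 0<|b 0<|b (-1)<|b (-1)<|b 0<|b 0<|b 1<|b 2<|b 1<|b (-1)<|b (-1)<|b (-1)<|b (-1)<|b 2<|b 0<|b 5<|f)<|h (b 9<|b (-3)<|b 3<|b 0<|b 0<|b (-1)<|b 0<|b 1<|b (-1)<|b 0<|b 0<|b 0<|b (-1)<|b 0<|b 0<|b 0<|b 2<|
 b 1<|b (-1)<|b (-1)<|b (-1)<|b 3<|b 2<|b 0<|b 5<|f)<|d));
 (let d:=(h (b 5<|b 1<|b (-1)<|b (-1)<|b 1<|b (-1)<|b (-1)<|b (-1)<|b 1<|b 1<|b (-1)<|b 1<|b 1<|b 1<|b (-1)<|b 0<|b (-1)<|b (-1)<|b 1<|b (-1)<|
 b (-1)<|b 3<|b 1<|b (-1)<|b 5<|f)<|h (b 6<|b 0<|b 0<|b 0<|b 0<|b (-2)<|b 0<|b 0<|b 0<|b 0<|b 0<|b 0<|b 2<|b 0<|b 0<|b 1<|b 1<|b 0<|b 0<|b (-2)<|b (-2)<|b (-1)<|b 2<|b 0<|b 10<|f)<|h (b 6<|b 0<|b 0<|b 0<|b 0<|b (-2)<|b 0<|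
 b 0<|b 0<|b 0<|b 0<|b 1<|b 2<|b 0<|b 0<|b 0<|b 1<|b 0<|b 0<|b (-2)<|b (-2)<|b 3<|b 2<|b 0<|b 10<|f)<|h (b 6<|b 0<|b 0<|b 0<|b 1<|b (-2)<|b 0<|b (-1)<|b 1<|b 0<|b 0<|b 0<|b 0<|b 1<|b (-1)<|b 0<|b 1<|b 2<|b (-2)<|b 1<|
 b 1<|b 0<|b (-1)<|b 3<|b 10<|f)<|h (b 6<|b 0<|b 0<|b 0<|b 1<|b (-2)<|b 0<|b (-1)<|b 1<|b 0<|b 0<|b 1<|b 0<|b 1<|b (-1)<|b 0<|b (-2)<|b 2<|b (-2)<|b 1<|b 1<|b 0<|b (-1)<|b 0<|b 10<|f)<|d);
 (h (b 5<|b (-1)<|b 1<|b (-1)<|b 1<|
 b (-1)<|b (-1)<|b 1<|b (-1)<|b (-1)<|b 1<|b 0<|b 1<|b (-1)<|b 1<|b 0<|b 2<|b 1<|b (-1)<|b (-1)<|b (-1)<|b 3<|b 1<|b 2<|b 5<|f)<|h (b 5<|b (-1)<|b 1<|b (-1)<|b 1<|b (-1)<|b (-1)<|b 1<|b (-1)<|b (-1)<|b 1<|b 0<|b 1<|b (-1)<|b 1<|b 1<|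
 b (-1)<|b 1<|b (-1)<|b (-1)<|b (-1)<|b (-1)<|b 1<|b (-1)<|b 5<|f)<|h (b 5<|b (-1)<|b 1<|b (-1)<|b 1<|b (-1)<|b (-1)<|b 1<|b (-1)<|b (-1)<|b 1<|b 1<|b 1<|b (-1)<|b 1<|b 0<|b (-1)<|b 1<|b (-1)<|b (-1)<|b (-1)<|b 3<|b 1<|b (-1)<|b 5<|f)<|
 h (b 5<|b 1<|b (-1)<|b (-1)<|b 1<|b (-1)<|b (-1)<|b (-1)<|b 1<|b 1<|b (-1)<|b 0<|b 1<|b 1<|b (-1)<|b 0<|b 2<|b (-1)<|b 1<|b (-1)<|b (-1)<|b 3<|b 1<|b 2<|b 5<|f)<|h (b 5<|b 1<|b (-1)<|b (-1)<|b 1<|b (-1)<|b (-1)<|b (-1)<|b 1<|b 1<|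
 b (-1)<|b 0<|b 1<|b 1<|b (-1)<|b 1<|b (-1)<|b (-1)<|b 1<|b (-1)<|b (-1)<|b (-1)<|b 1<|b (-1)<|b 5<|f)<|d)));
 (let d:=(let d:=(h (b (-3)<|b 3<|b (-3)<|b 0<|b 2<|b (-1)<|b 0<|b (-1)<|b 1<|b 0<|b 0<|b 0<|b (-1)<|b 0<|b 0<|b 0<|b (-1)<|b (-1)<|b 1<|b (-1)<|b (-1)<|b 2<|
 b 2<|b 0<|b 5<|f)<|h (b 1<|b (-1)<|b 1<|b 1<|b (-1)<|b (-1)<|b 1<|b 1<|b (-1)<|b (-1)<|b 1<|b 1<|b 1<|b (-1)<|b 1<|b 0<|b (-1)<|b 1<|b (-1)<|b (-1)<|b (-1)<|b 0<|b 1<|b (-2)<|b 5<|f)<|h (b 1<|b (-1)<|b 1<|b 1<|b 0<|b (-1)<|b 1<|b 0<|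
 b 0<|b (-1)<|b 1<|b 0<|b (-1)<|b 0<|b 0<|b 0<|b (-1)<|b 3<|b (-3)<|b 2<|b 2<|b (-3)<|b (-2)<|b 1<|b 5<|f)<|h (b 1<|b 1<|b (-1)<|b 1<|b (-1)<|b (-1)<|b 1<|b (-1)<|b 1<|b 1<|b (-1)<|b 1<|b 1<|b 1<|b (-1)<|b 0<|b (-1)<|b (-1)<|b 1<|
 b (-1)<|b (-1)<|b 0<|b 1<|b (-2)<|b 5<|f)<|h (b 1<|b 1<|b (-1)<|b 1<|b 0<|b (-1)<|b 1<|b 0<|b 0<|b 1<|b (-1)<|b 0<|b (-1)<|b 0<|b 0<|b 0<|b (-1)<|b (-3)<|b 3<|b 2<|b 2<|b (-3)<|b (-2)<|b 1<|b 5<|f)<|d);
 (h (b (-3)<|b (-3)<|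
 b 3<|b 0<|b 0<|b (-1)<|b 0<|b 1<|b (-1)<|b 0<|b 0<|b 1<|b 3<|b 0<|b 0<|b 0<|b (-1)<|b 1<|b (-1)<|b (-1)<|b (-1)<|b 0<|b 0<|b 0<|b 5<|f)<|h (b (-3)<|b (-3)<|b 3<|b 0<|b 2<|b (-1)<|b 0<|b 1<|b (-1)<|b 0<|b 0<|b 0<|b (-1)<|b 0<|
 b 0<|b 0<|b (-1)<|b 1<|b (-1)<|b (-1)<|b (-1)<|b 2<|b 2<|b 0<|b 5<|f)<|h (b (-3)<|b 3<|b (-3)<|b 0<|b 0<|b (-1)<|b 0<|b (-1)<|b 1<|b 0<|b 0<|b 0<|b 3<|b 0<|b 0<|b 0<|b 2<|b (-1)<|b 1<|b (-1)<|b (-1)<|b 0<|b 0<|b 3<|b 5<|f)<|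
 h (b (-3)<|b 3<|b (-3)<|b 0<|b 0<|b (-1)<|b 0<|b (-1)<|b 1<|b 0<|b 0<|b 0<|b 3<|b 0<|b 0<|b 1<|b (-1)<|b (-1)<|b 1<|b (-1)<|b (-1)<|b (-4)<|b 0<|b 0<|b 5<|f)<|h (b (-3)<|b 3<|b (-3)<|b 0<|b 0<|b (-1)<|b 0<|b (-1)<|b 1<|b 0<|b 0<|
 b 1<|b 3<|b 0<|b 0<|b 0<|b (-1)<|b (-1)<|b 1<|b (-1)<|b (-1)<|b 0<|b 0<|b 0<|b 5<|f)<|d));
 (let d:=(h (b (-11)<|b 1<|b (-1)<|b 1<|b 1<|b (-1)<|b 1<|b (-1)<|b 1<|b 1<|b (-1)<|b 0<|b 1<|b 1<|b (-1)<|b 0<|b (-1)<|b (-1)<|b 1<|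
 b (-1)<|b (-1)<|b (-1)<|b 1<|b 1<|b 5<|f)<|h (b (-7)<|b (-3)<|b 3<|b 2<|b 0<|b (-1)<|b 2<|b 1<|b (-1)<|b 0<|b 0<|b 0<|b (-1)<|b 0<|b 0<|b 0<|b (-1)<|b 1<|b (-1)<|b (-1)<|b (-1)<|b (-1)<|b 2<|b (-1)<|b 5<|f)<|h (b (-7)<|b 3<|b (-3)<|b 2<|
 b 0<|b (-1)<|b 2<|b (-1)<|b 1<|b 0<|b 0<|b 0<|b (-1)<|b 0<|b 0<|b 0<|b (-1)<|b (-1)<|b 1<|b (-1)<|b (-1)<|b (-1)<|b 2<|b (-1)<|b 5<|f)<|h (b (-6)<|b 0<|b 0<|b 0<|b 0<|b 2<|b 0<|b 0<|b 0<|b 0<|b 0<|b (-1)<|b (-2)<|b 0<|b 0<|b 1<|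
 b (-2)<|b 0<|b 0<|b (-2)<|b (-2)<|b 0<|b 0<|b 0<|b 10<|f)<|h (b (-6)<|b 0<|b 0<|b 0<|b 0<|b 2<|b 0<|b 0<|b 0<|b 0<|b 0<|b 0<|b (-2)<|b 0<|b 0<|b 0<|b (-2)<|b 0<|b 0<|b (-2)<|b (-2)<|b 4<|b 0<|b 0<|b 10<|f)<|d);
 (b (b (-11)<|b (-1)<|b 1<|b 1<|b 1<|b (-1)<|b 1<|b 1<|b (-1)<|b (-1)<|b 1<|b 0<|b 1<|b (-1)<|b 1<|b 0<|b (-1)<|b 1<|b (-1)<|b (-1)<|b (-1)<|b (-1)<|b 1<|b 1<|b 5<|f)<|b (b (-3)<|b (-3)<|b 3<|b 0<|b 0<|b (-1)<|b 0<|b 1<|b (-1)<|b 0<|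
 b 0<|b 0<|b 3<|b 0<|b 0<|b 0<|b 2<|b 1<|b (-1)<|b (-1)<|b (-1)<|b 0<|b 0<|b 3<|b 5<|f)<|b (b (-3)<|b (-3)<|b 3<|b 0<|b 0<|b (-1)<|b 0<|b 1<|b (-1)<|b 0<|b 0<|b 0<|b 3<|b 0<|b 0<|b 1<|b (-1)<|b 1<|b (-1)<|b (-1)<|b (-1)<|b (-4)<|
 b 0<|b 0<|b 5<|f)<|b (b 1<|b (-1)<|b 1<|b 1<|b (-1)<|b (-1)<|b 1<|b 1<|b (-1)<|b (-1)<|b 1<|b 0<|b 1<|b (-1)<|b 1<|b 0<|b 2<|b 1<|b (-1)<|b (-1)<|b (-1)<|b 0<|b 1<|b 1<|b 5<|f)<|b (b 1<|b 1<|b (-1)<|b 1<|b (-1)<|b (-1)<|b 1<|b (-1)<|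
 b 1<|b 1<|b (-1)<|b 0<|b 1<|b 1<|b (-1)<|b 0<|b 2<|b (-1)<|b 1<|b (-1)<|b (-1)<|b 0<|b 1<|b 1<|b 5<|f)<|d))))<|
 l (b (b 0<|b 0<|b 0<|b 0<|b 0<|b 0<|b 0<|b 0<|b 0<|b 0<|b 0<|b 1<|b 0<|b 0<|b 0<|b (-1)<|b 0<|b 0<|b 0<|b 0<|b 0<|b 5<|b (-2)<|b 3<|b 12<|f)<|b (b 12<|b 0<|b 0<|b 0<|b (-2)<|b 0<|b 0<|b 0<|b 0<|b 0<|b 0<|b 1<|b 0<|
 b 0<|b 0<|b (-1)<|b 3<|b 0<|b 0<|b 0<|b 0<|b 5<|b 0<|b 0<|b 0<|f)<|f)<|m))

/-- the numbers of the classes of the Sylow tori -/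
def t0 : Fin 3 → ℕ := ![0, 24, 21]

theorem t0_lt : ∀ d, t0 d < 25 := by decide

/-- the test at the leaves -/
noncomputable def pT (x : List ℤ) (s : ℤ) : Bool :=
  (s == 0 || decide (nT.bd < 4 * s)) && (List.finRange 3).all fun d => gI (dotL (nT.B.getD (t0 d) []) x) fun m =>
    m % 5 != 0 || m == 0 || (decide (nT.bd < 2 * s) && gL (mv nT.B x) fun Y => (bad d).elem Y || (bad d).elem (Y.map (-·)))

theorem nT_cl : nT.clB = true := by decide +kernel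

theorem nT_la : nT.laB = true := by decide +kernel

theorem nT_to : nT.toB [0, 6, -6, 8, -8, 12, -12, 24, -24] = true := by decide +kernel

theorem nT_fp : fp pT nT.bd nT.rw [] 0 = true := by decide +kernel

/-- the representatives of the classes -/
noncomputable def rep (i : ℕ) : W4 := el (nT.R.getD i [])

theorem exists_rep (u : W4) : ∃ i < 25, ∃ v, rep i * v = v * u := by
  obtain ⟨L, -, rfl⟩ := exists_el u
  obtain ⟨h1, v, -, h2⟩ := Nd.exists_cj nT_cl (L := L) (inB_top L)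
  exact ⟨_, h1, el v, by rw [h2, rep, show v.map nT.σ = v from List.map_id' v]⟩

/-- **The unipotent label.** -/
theorem top [Fintype W4] {y : W4 → ℂ} (h1 : Lv c4 1 Set.univ 1 y) (h2 : ∀ x u, y (x * u * x⁻¹) = y u)
    {ν : ℝ} (hν : ν = (Fintype.card W4 : ℝ)⁻¹ * ∑ x, ‖y x‖ ^ 2) (h4 : ν ≤ 1) :
    (ν = 0 ∨ 1 / 4 < ν) ∧ ∀ (d : Fin 3) (m : ℤ), y (rep (t0 d)) = m → m ≠ 0 → 5 ∣ m → 1 / 2 < ν ∧
      ∃ b ∈ bad d, ∃ ε : ℤ, (ε = 1 ∨ ε = -1) ∧ ∀ i < 25, y (rep i) = (ε * b.getD i 0 : ℤ) := by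
  classical
  have h5 : Lv c4 1 (sB nT.b) 1 y := sB_top ▸ h1
  have h6 : Inv nT.b y := fun x _ => h2 x
  have h7 : WJ c4 (sB nT.b) = ⊤ := (congrArg _ sB_top).trans (WJ_univ c4)
  obtain ⟨x, s, e1, e2, e3, e4⟩ := Nd.node nT_cl nT_la nT_fp (fun i _ => by rw [one_mul, mul_one]; rfl) h5 h6
    (Nd.gs_top nT_cl nT_to h5 h6) (ν := ν) (by
      rw [hν, h7, Subgroup.card_top, Nat.card_eq_fintype_card, ← Finset.sum_subtype Finset.univ (by simp)
        fun x => ‖y (x * 1)‖ ^ 2]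
      simp only [_root_.mul_one]) h4
  simp only [pT, gI_eq, gL_eq, Bool.and_eq_true, Bool.or_eq_true, beq_iff_eq, decide_eq_true_eq, List.all_eq_true,
    List.mem_finRange, true_imp_iff, bne_iff_ne, List.elem_iff] at e1
  have e5 : (0 : ℝ) < nT.bd := by exact_mod_cast e2
  have e6 : ∀ i < 25, y (rep i) = (mv nT.B x).getD i 0 := fun i hi => by simpa only [mul_one, rep] using e4 i hi
  refine ⟨e1.1.imp (fun e => ?_) fun e => ?_, fun d m hm h0 hd => ?_⟩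
  · rw [e, Int.cast_zero] at e3
    exact (mul_eq_zero.1 e3.symm).resolve_left e5.ne'
  · have e6 : (nT.bd : ℝ) < 4 * s := by exact_mod_cast e
    rw [e3] at e6
    nlinarith only [e5, e6]
  · have e7 := e1.2 d
    rw [e6 _ (t0_lt d), getD_mv, Int.cast_inj] at hm
    rw [hm] at e7
    obtain ⟨e8, e9⟩ := e7.resolve_left (by omega)
    have e10 : (nT.bd : ℝ) < 2 * s := by exact_mod_cast e8
    rw [e3] at e10
    refine ⟨by nlinarith only [e5, e10], ?_⟩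
    rcases e9 with e | e
    · exact ⟨_, e, 1, .inl rfl, fun i hi => by rw [e6 i hi, one_mul]⟩
    · refine ⟨_, e, -1, .inr rfl, fun i hi => ?_⟩
      have e11 := List.getD_map (mv nT.B x) 0 (n := i) (-·)
      rw [neg_zero] at e11
      rw [e6 i hi, e11, neg_one_mul, neg_neg]

end Cfsg.Agent.LV.F4
end

-- part: LV/F4/Fac
section
/-!
# LV, `F₄`: finite facts on the Weyl group (helper84)

`fa_ck` : the orders of the tori; `fus` : fusion of the Sylow tori in the cosets; `cub_ck` : the cubic identity.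
-/

set_option autoImplicit false
set_option linter.unusedSectionVars false
set_option maxRecDepth 100000

namespace Cfsg.Agent.LV.F4

open CoxeterSystem Cfsg Cfsg.Lie Cfsg.Agent.KZ.DatX Cfsg.Agent.KZ.McX Cfsg.Agent.LV.T Cfsg.Agent.Tits.Core
  Cfsg.Agent.Tits.Exchange Cfsg.Agent.ChevalleyStructure.CoxeterGeomTypes

/-! ### polynomials -/

/-- the value of a polynomial -/
def evL (L : List ℤ) (t : ℤ) : ℤ := L.foldr (fun a s => a + t * s) 0

theorem evL_cons (a : ℤ) (L : List ℤ) (t : ℤ) : evL (a :: L) t = a + t * evL L t := rfl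

theorem evL_axpy (c : ℤ) (a b : List ℤ) (t : ℤ) : evL (axpy c a b) t = c * evL a t + evL b t := by
  induction a generalizing b with
  | nil => rw [show evL [] t = 0 from rfl, mul_zero, zero_add]; rfl
  | cons u a ih =>
    cases b with
    | nil =>
      rw [show axpy c (u :: a) [] = c * u :: axpy c a [] from rfl, evL_cons, evL_cons, ih, show evL [] t = 0 from rfl]
      ring
    | cons v b =>
      rw [show axpy c (u :: a) (v :: b) = (c * u + v) :: axpy c a b from rfl, evL_cons, evL_cons, evL_cons, ih]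
      ring

/-- the product of two polynomials -/
noncomputable def mulL (a b : List ℤ) : List ℤ := a.foldr (fun c s => axpy c b (0 :: s)) []

theorem evL_mulL (a b : List ℤ) (t : ℤ) : evL (mulL a b) t = evL a t * evL b t := by
  induction a with
  | nil => exact (zero_mul _).symm
  | cons u a ih =>
    rw [show mulL (u :: a) b = axpy u b (0 :: mulL a b) from rfl, evL_axpy, evL_cons, evL_cons, ih]
    ring

/-- `a ^ n * g` -/
noncomputable def pwm (a : List ℤ) (n : ℕ) (g : List ℤ) : List ℤ := Nat.rec g (fun _ s => mulL a s) n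

theorem evL_pwm (a : List ℤ) (n : ℕ) (g : List ℤ) (t : ℤ) : evL (pwm a n g) t = evL a t ^ n * evL g t := by
  induction n with
  | zero => rw [pow_zero, one_mul]; rfl
  | succ n ih => rw [show pwm a (n + 1) g = mulL a (pwm a n g) from rfl, evL_mulL, ih, pow_succ', mul_assoc]

theorem evL_mod (L : List ℤ) {m s t : ℤ} (h : s ≡ t [ZMOD m]) : evL L s ≡ evL L t [ZMOD m] := by
  induction L with
  | nil => rfl
  | cons a L ih => exact (h.mul ih).add_left a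

/-- the coefficients of `det (t • x - 1)` -/
def cpl (x : Matrix (Fin 4) (Fin 4) ℤ) : List ℤ := [1, -(cp4 x).1, (cp4 x).2.1, -(cp4 x).2.2.1, (cp4 x).2.2.2]

theorem evL_cpl (x : Matrix (Fin 4) (Fin 4) ℤ) (t : ℤ) : evL (cpl x) t = (t • x - 1).det := by
  rw [det_cp4]
  simp only [cpl, evL, List.foldr]
  ring

/-! ### the data -/

/-- the triples -/
def tri : Fin 3 → List (ℕ × ℕ × ℕ) := (beta% delta% lq26057adeea fun b _ _ f g _ k l m _ _ _ _ =>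
 (l (let d:=(let d:=(let d:=(k (g 3<|g 3 11)<|k (g 3<|g 4
 11)<|k (g 3<|g 4 15)<|k (g 3<|g 4 21)<|k (g 3<|g 5 11)<|f);
 (k (g 1<|g 7 21)<|k (g 1<|g 9 11)<|k (g 3<|g 3 3)<|k (g 3<|g 3 4)<|d));
 (let d:=(k (g 1<|
 g 4 21)<|k (g 1<|g 5 11)<|k (g 1<|g 7 11)<|k (g 1<|g 7 15)<|k (g 1<|g 7 16)<|d);
 (k (g 1<|g 3 21)<|k (g 1<|g 4 11)<|k (g 1<|g 4 15)<|k (g 1<|g 4 16)<|d)));
 (let d:=(let d:=(k (g 1<|g 3 7)<|k (g 1<|g 3 9)<|k (g 1<|g 3 11)<|k (g 1<|g 3 15)<|k (g 1<|g 3 16)<|d);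
 (k (g 1<|g 1 16)<|k (g 1<|g 1 21)<|k (g 1<|g 3
 3)<|k (g 1<|g 3 4)<|d));
 (let d:=(k (g 1<|g 1 7)<|k (g 1<|g 1 9)<|k (g 1<|g 1 11)<|k (g 1<|g 1 15)<|d);
 (b (g 1<|g 1 1)<|b (g 1<|g 1 3)<|b (g 1<|g 1 4)<|b (g 1<|g 1 5)<|d))))<|
 l (let d:=(let d:=(let d:=(k (g 12<|
 g 17 0)<|k (g 12<|g 17 3)<|k (g 12<|g 17 11)<|k (g 12<|g 17 15)<|k (g 17<|g 19 11)<|f);
 (k (g 5<|g 17 15)<|k (g 5<|g 19 11)<|k (g 5<|g 19 15)<|k (g 7<|g 17 11)<|d));
 (let d:=(k (g 5<|g 12 11)<|k (g 5<|g 12 15)<|k (g 5<|g 17 0)<|k (g 5<|g 17 3)<|k (g 5<|g 17 11)<|d);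
 (k (g 5<|g 5 16)<|k (g 5<|g 12 0)<|k (g 5<|g 12 1)<|k (g 5<|g 12
 4)<|d)));
 (let d:=(let d:=(k (g 5<|g 5 4)<|k (g 5<|g 5 5)<|k (g 5<|g 5 7)<|k (g 5<|g 5 11)<|k (g 5<|g 5 15)<|d);
 (k (g 1<|g 17 15)<|k (g 1<|g 17 16)<|
 k (g 5<|g 5 0)<|k (g 5<|g 5 3)<|d));
 (let d:=(k (g 1<|g 17 5)<|k (g 1<|g 17 7)<|k (g 1<|g 17 9)<|k (g 1<|g 17 11)<|d);
 (b (g 1<|g 17 0)<|b (g 1<|g 17 1)<|b (g 1<|g 17 3)<|b (g 1<|g 17 4)<|d))))<|
 l (b (g 4<|g 4 0)<|b (g 22<|g 22 11)<|f)<|m))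

/-- the combinations -/
def cmb : Fin 3 → List (List ℤ) := (beta% delta% lq26057adeea fun b c _ f _ h _ l m _ _ _ _ =>
 (l (let d:=(let d:=(let d:=(h (let d:=(let d:=(let d:=(c 4<|c 0<|c 0<|c 0<|c 1<|f);
 (c 0<|c 2<|c 1<|c 1<|d));
 (let d:=(c 0<|c 0<|c 0<|c 0<|c 0<|d);
 (c 0<|c 0<|c 0<|c 0<|d)));
 (let d:=(let d:=(c 0<|c 0<|c 0<|c 0<|c 0<|d);
 (c 0<|c 0<|c 0<|c 0<|d));
 (let d:=(c 0<|c 0<|c 3<|c 0<|d);
 (b 0<|b 4<|b 4<|b 0<|
 d))))<|h (let d:=(let d:=(let d:=(c 1<|c 0<|c 0<|c 0<|c 1<|f);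
 (c 0<|c 1<|c 0<|c 4<|d));
 (let d:=(c 0<|c 0<|c 0<|c 0<|c 0<|d);
 (c 0<|c 0<|c 0<|c 0<|d)));
 (let d:=(let d:=(c 0<|c 4<|c 0<|c 0<|c 0<|d);
 (c 0<|c 0<|
 c 0<|c 0<|d));
 (let d:=(c 0<|c 0<|c 2<|c 0<|d);
 (b 0<|b 2<|b 1<|b 4<|d))))<|h (let d:=(let d:=(let d:=(c 4<|c 0<|c 0<|c 0<|c 4<|f);
 (c 0<|c 4<|c 0<|c 0<|d));
 (let d:=(c 0<|c 0<|c 0<|c 0<|c 0<|d);
 (c 0<|c 0<|c 0<|c 0<|d)));
 (let d:=(let d:=(c 0<|c 0<|c 0<|c 0<|
 c 0<|d);
 (c 0<|c 0<|c 0<|c 0<|d));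
 (let d:=(c 0<|c 0<|c 3<|c 0<|d);
 (b 0<|b 0<|b 0<|b 0<|d))))<|h (let d:=(let d:=(let d:=(c 0<|c 0<|c 0<|c 0<|c 0<|f);
 (c 0<|c 1<|c 0<|c 0<|d));
 (let d:=(c 0<|
 c 1<|c 0<|c 0<|c 0<|d);
 (c 0<|c 0<|c 0<|c 0<|d)));
 (let d:=(let d:=(c 0<|c 3<|c 4<|c 0<|c 0<|d);
 (c 0<|c 0<|c 4<|c 0<|d));
 (let d:=(c 0<|c 0<|c 4<|c 0<|d);
 (b 1<|b 4<|b 0<|b 3<|d))))<|h (let d:=(let d:=(let d:=(c 0<|c 0<|c 0<|c 0<|c 0<|f);
 (c 0<|c 4<|
 c 0<|c 0<|d));
 (let d:=(c 0<|c 4<|c 0<|c 0<|c 0<|d);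
 (c 0<|c 0<|c 0<|c 0<|d)));
 (let d:=(let d:=(c 0<|c 0<|c 1<|c 0<|c 0<|d);
 (c 0<|c 0<|c 0<|c 0<|d));
 (let d:=(c 0<|c 0<|c 1<|c 0<|d);
 (b 0<|b 0<|b 0<|b 0<|d))))<|f);
 (h (let d:=(let d:=(let d:=(c 0<|c 0<|c 0<|c 0<|c 0<|f);
 (c 0<|c 2<|c 0<|c 0<|d));
 (let d:=(c 0<|c 0<|c 3<|c 3<|c 0<|d);
 (c 0<|c 3<|c 3<|c 0<|d)));
 (let d:=(let d:=(c 4<|c 1<|c 3<|c 3<|
 c 0<|d);
 (c 0<|c 0<|c 4<|c 4<|d));
 (let d:=(c 4<|c 1<|c 1<|c 3<|d);
 (b 3<|b 2<|b 4<|b 0<|d))))<|h (let d:=(let d:=(let d:=(c 0<|c 0<|c 0<|c 0<|c 0<|f);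
 (c 0<|c 0<|c 0<|c 0<|d));
 (let d:=(c 0<|
 c 0<|c 0<|c 0<|c 0<|d);
 (c 0<|c 0<|c 0<|c 0<|d)));
 (let d:=(let d:=(c 0<|c 1<|c 0<|c 0<|c 0<|d);
 (c 0<|c 0<|c 3<|c 0<|d));
 (let d:=(c 0<|c 1<|c 0<|c 0<|d);
 (b 1<|b 2<|b 0<|b 2<|d))))<|h (let d:=(let d:=(let d:=(c 0<|c 0<|c 0<|c 0<|c 0<|f);
 (c 0<|c 1<|
 c 0<|c 0<|d));
 (let d:=(c 0<|c 4<|c 0<|c 0<|c 0<|d);
 (c 0<|c 0<|c 0<|c 0<|d)));
 (let d:=(let d:=(c 0<|c 3<|c 1<|c 0<|c 0<|d);
 (c 0<|c 0<|c 1<|c 0<|d));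
 (let d:=(c 0<|c 0<|c 4<|c 0<|d);
 (b 4<|b 4<|b 0<|b 3<|d))))<|h (let d:=(let d:=(let d:=(c 0<|c 0<|c 0<|c 0<|
 c 0<|f);
 (c 0<|c 4<|c 0<|c 0<|d));
 (let d:=(c 0<|c 1<|c 0<|c 0<|c 0<|d);
 (c 0<|c 0<|c 0<|c 0<|d)));
 (let d:=(let d:=(c 0<|c 0<|c 4<|c 0<|c 0<|d);
 (c 0<|c 0<|c 0<|c 0<|d));
 (let d:=(c 0<|c 0<|c 1<|c 0<|d);
 (b 0<|b 0<|b 0<|b 0<|d))))<|h (let d:=(let d:=(let d:=(c 1<|c 0<|c 0<|c 0<|c 4<|f);
 (c 0<|c 3<|c 0<|c 0<|d));
 (let d:=(c 0<|c 0<|c 0<|c 0<|c 0<|d);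
 (c 0<|c 0<|c 0<|c 0<|d)));
 (let d:=(let d:=(c 0<|c 0<|c 0<|c 0<|c 0<|d);
 (c 0<|c 0<|c 0<|c 0<|d));
 (let d:=(c 0<|c 0<|c 2<|c 0<|d);
 (b 0<|b 0<|b 0<|b 0<|d))))<|d));
 (let d:=(h (let d:=(let d:=(let d:=(c 1<|c 2<|c 2<|c 3<|c 1<|f);
 (c 1<|c 0<|
 c 0<|c 2<|d));
 (let d:=(c 3<|c 4<|c 3<|c 3<|c 3<|d);
 (c 1<|c 1<|c 1<|c 3<|d)));
 (let d:=(let d:=(c 0<|c 4<|c 3<|c 2<|c 1<|d);
 (c 0<|c 1<|c 3<|c 4<|d));
 (let d:=(c 4<|c 3<|c 2<|c 4<|d);
 (b 2<|b 0<|b 3<|b 1<|d))))<|h (let d:=(let d:=(let d:=(c 0<|c 0<|c 0<|c 0<|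
 c 0<|f);
 (c 0<|c 3<|c 0<|c 0<|d));
 (let d:=(c 0<|c 0<|c 2<|c 0<|c 0<|d);
 (c 0<|c 2<|c 0<|c 0<|d)));
 (let d:=(let d:=(c 1<|c 4<|c 2<|c 0<|c 0<|d);
 (c 0<|c 0<|c 1<|c 1<|d));
 (let d:=(c 1<|c 4<|c 4<|c 0<|d);
 (b 2<|b 3<|b 1<|b 0<|d))))<|h (let d:=(let d:=(let d:=(c 0<|c 0<|c 0<|c 0<|c 0<|f);
 (c 0<|c 0<|c 0<|c 0<|d));
 (let d:=(c 0<|c 0<|c 1<|c 1<|c 2<|d);
 (c 0<|c 1<|c 1<|c 2<|d)));
 (let d:=(let d:=(c 3<|c 1<|c 1<|c 1<|c 2<|d);
 (c 2<|c 0<|c 3<|c 3<|d));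
 (let d:=(c 3<|c 2<|c 1<|c 1<|d);
 (b 1<|b 0<|b 3<|b 0<|d))))<|h (let d:=(let d:=(let d:=(c 0<|c 0<|c 0<|c 0<|c 0<|f);
 (c 2<|c 0<|c 0<|c 0<|d));
 (let d:=(c 2<|c 0<|c 1<|c 4<|c 2<|d);
 (c 2<|c 1<|c 4<|c 2<|d)));
 (let d:=(let d:=(c 2<|c 4<|c 1<|c 4<|c 2<|d);
 (c 2<|c 2<|c 2<|c 2<|d));
 (let d:=(c 1<|c 4<|c 1<|c 4<|d);
 (b 2<|b 0<|b 1<|b 4<|
 d))))<|h (let d:=(let d:=(let d:=(c 0<|c 0<|c 0<|c 0<|c 0<|f);
 (c 3<|c 0<|c 0<|c 0<|d));
 (let d:=(c 3<|c 0<|c 3<|c 2<|c 1<|d);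
 (c 3<|c 3<|c 2<|c 1<|d)));
 (let d:=(let d:=(c 1<|c 4<|c 3<|c 2<|c 1<|d);
 (c 1<|c 3<|
 c 1<|c 1<|d));
 (let d:=(c 0<|c 0<|c 3<|c 2<|d);
 (b 0<|b 1<|b 0<|b 1<|d))))<|d);
 (h (let d:=(let d:=(let d:=(c 0<|c 0<|c 2<|c 3<|c 0<|f);
 (c 3<|c 0<|c 0<|c 2<|d));
 (let d:=(c 0<|c 0<|c 0<|c 2<|c 0<|d);
 (c 0<|c 0<|c 0<|c 0<|d)));
 (let d:=(let d:=(c 4<|c 1<|c 0<|c 0<|c 0<|d);
 (c 0<|c 1<|c 4<|c 4<|d));
 (let d:=(c 4<|c 1<|c 0<|c 4<|d);
 (b 3<|b 4<|b 2<|b 3<|d))))<|h (let d:=(let d:=(let d:=(c 0<|c 0<|c 2<|c 3<|c 0<|f);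
 (c 1<|c 0<|c 0<|c 2<|d));
 (let d:=(c 3<|c 0<|c 3<|c 2<|c 1<|d);
 (c 1<|c 3<|c 0<|c 1<|d)));
 (let d:=(let d:=(c 4<|c 1<|c 1<|c 0<|c 2<|d);
 (c 0<|c 1<|c 1<|c 1<|d));
 (let d:=(c 0<|c 2<|c 0<|c 4<|d);
 (b 4<|b 4<|b 1<|b 1<|
 d))))<|h (let d:=(let d:=(let d:=(c 0<|c 3<|c 1<|c 2<|c 0<|f);
 (c 4<|c 1<|c 0<|c 2<|d));
 (let d:=(c 2<|c 1<|c 3<|c 4<|c 4<|d);
 (c 4<|c 0<|c 3<|c 4<|d)));
 (let d:=(let d:=(c 2<|c 1<|c 4<|c 1<|c 3<|d);
 (c 0<|c 4<|
 c 0<|c 2<|d));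
 (let d:=(c 0<|c 1<|c 0<|c 2<|d);
 (b 3<|b 4<|b 3<|b 0<|d))))<|h (let d:=(let d:=(let d:=(c 4<|c 0<|c 2<|c 0<|c 4<|f);
 (c 0<|c 4<|c 0<|c 1<|d));
 (let d:=(c 0<|c 0<|c 0<|c 4<|c 0<|d);
 (c 0<|c 0<|c 2<|c 0<|d)));
 (let d:=(let d:=(c 0<|c 1<|c 0<|c 4<|
 c 0<|d);
 (c 0<|c 0<|c 0<|c 0<|d));
 (let d:=(c 0<|c 0<|c 3<|c 4<|d);
 (b 0<|b 3<|b 4<|b 1<|d))))<|h (let d:=(let d:=(let d:=(c 0<|c 0<|c 3<|c 2<|c 0<|f);
 (c 4<|c 0<|c 0<|c 3<|d));
 (let d:=(c 2<|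
 c 0<|c 1<|c 2<|c 2<|d);
 (c 4<|c 1<|c 4<|c 2<|d)));
 (let d:=(let d:=(c 2<|c 4<|c 2<|c 3<|c 4<|d);
 (c 0<|c 4<|c 4<|c 3<|d));
 (let d:=(c 3<|c 0<|c 0<|c 1<|d);
 (b 2<|b 1<|b 4<|b 4<|d))))<|d)));
 (let d:=(let d:=(h (let d:=(let d:=(let d:=(c 1<|c 0<|c 1<|c 2<|c 1<|f);
 (c 0<|c 1<|c 0<|c 2<|d));
 (let d:=(c 2<|c 0<|c 3<|c 3<|c 1<|d);
 (c 2<|c 2<|c 3<|c 4<|d)));
 (let d:=(let d:=(c 3<|c 1<|c 2<|c 3<|c 4<|d);
 (c 1<|c 2<|
 c 4<|c 4<|d));
 (let d:=(c 0<|c 0<|c 0<|c 4<|d);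
 (b 0<|b 2<|b 0<|b 2<|d))))<|h (let d:=(let d:=(let d:=(c 0<|c 2<|c 2<|c 0<|c 0<|f);
 (c 0<|c 1<|c 0<|c 1<|d));
 (let d:=(c 0<|c 0<|c 0<|c 0<|c 0<|d);
 (c 0<|c 2<|c 2<|c 0<|d)));
 (let d:=(let d:=(c 1<|c 0<|c 2<|c 2<|
 c 0<|d);
 (c 0<|c 0<|c 1<|c 1<|d));
 (let d:=(c 1<|c 4<|c 1<|c 2<|d);
 (b 2<|b 1<|b 0<|b 1<|d))))<|h (let d:=(let d:=(let d:=(c 0<|c 2<|c 2<|c 0<|c 0<|f);
 (c 0<|c 4<|c 0<|c 1<|d));
 (let d:=(c 0<|
 c 0<|c 2<|c 2<|c 0<|d);
 (c 0<|c 0<|c 0<|c 0<|d)));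
 (let d:=(let d:=(c 2<|c 4<|c 0<|c 0<|c 0<|d);
 (c 0<|c 0<|c 0<|c 0<|d));
 (let d:=(c 0<|c 0<|c 0<|c 4<|d);
 (b 0<|b 4<|b 1<|b 1<|d))))<|h (let d:=(let d:=(let d:=(c 1<|c 0<|c 3<|c 0<|c 1<|f);
 (c 0<|c 1<|
 c 0<|c 4<|d));
 (let d:=(c 0<|c 0<|c 0<|c 3<|c 0<|d);
 (c 0<|c 0<|c 0<|c 0<|d)));
 (let d:=(let d:=(c 0<|c 4<|c 0<|c 0<|c 0<|d);
 (c 0<|c 0<|c 0<|c 0<|d));
 (let d:=(c 0<|c 0<|c 2<|c 1<|d);
 (b 0<|b 2<|b 1<|b 4<|d))))<|h (let d:=(let d:=(let d:=(c 4<|c 3<|c 3<|c 2<|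
 c 4<|f);
 (c 2<|c 0<|c 0<|c 3<|d));
 (let d:=(c 0<|c 0<|c 3<|c 3<|c 0<|d);
 (c 0<|c 0<|c 0<|c 0<|d)));
 (let d:=(let d:=(c 0<|c 0<|c 0<|c 0<|c 0<|d);
 (c 0<|c 4<|c 0<|c 0<|d));
 (let d:=(c 0<|c 0<|c 3<|c 1<|d);
 (b 0<|b 3<|b 2<|b 2<|d))))<|d);
 (h (let d:=(let d:=(let d:=(c 0<|c 0<|c 2<|c 3<|c 0<|f);
 (c 0<|c 0<|c 0<|c 2<|d));
 (let d:=(c 3<|
 c 0<|c 1<|c 1<|c 2<|d);
 (c 1<|c 4<|c 1<|c 3<|d)));
 (let d:=(let d:=(c 3<|c 3<|c 3<|c 2<|c 1<|d);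
 (c 0<|c 1<|c 1<|c 2<|d));
 (let d:=(c 2<|c 0<|c 0<|c 4<|d);
 (b 3<|b 3<|b 1<|b 0<|d))))<|h (let d:=(let d:=(let d:=(c 4<|c 3<|c 3<|c 2<|c 4<|f);
 (c 0<|c 0<|
 c 0<|c 3<|d));
 (let d:=(c 2<|c 1<|c 4<|c 4<|c 3<|d);
 (c 4<|c 4<|c 4<|c 2<|d)));
 (let d:=(let d:=(c 0<|c 4<|c 2<|c 3<|c 4<|d);
 (c 0<|c 4<|c 2<|c 1<|d));
 (let d:=(c 1<|c 2<|c 3<|c 1<|d);
 (b 3<|b 1<|b 2<|b 0<|d))))<|h (let d:=(let d:=(let d:=(c 4<|c 3<|c 0<|c 0<|
 c 4<|f);
 (c 0<|c 3<|c 0<|c 0<|d));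
 (let d:=(c 0<|c 0<|c 0<|c 0<|c 0<|d);
 (c 0<|c 3<|c 0<|c 0<|d)));
 (let d:=(let d:=(c 4<|c 1<|c 3<|c 0<|c 0<|d);
 (c 0<|c 0<|c 4<|c 4<|d));
 (let d:=(c 4<|c 1<|c 2<|c 0<|d);
 (b 3<|b 2<|b 4<|b 0<|d))))<|h (let d:=(let d:=(let d:=(c 0<|c 0<|c 0<|c 0<|c 0<|f);
 (c 0<|c 0<|c 0<|c 0<|d));
 (let d:=(c 0<|c 0<|c 1<|c 1<|c 2<|d);
 (c 0<|c 4<|c 4<|c 3<|d)));
 (let d:=(let d:=(c 3<|c 1<|c 4<|c 4<|c 3<|d);
 (c 2<|c 0<|c 2<|c 2<|d));
 (let d:=(c 2<|c 3<|c 1<|c 1<|d);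
 (b 4<|b 0<|b 3<|b 0<|d))))<|h (let d:=(let d:=(let d:=(c 0<|c 0<|c 2<|c 3<|c 0<|f);
 (c 0<|c 0<|c 0<|c 2<|d));
 (let d:=(c 3<|c 0<|c 1<|c 1<|c 2<|d);
 (c 3<|c 4<|c 1<|c 3<|d)));
 (let d:=(let d:=(c 0<|c 1<|c 4<|c 1<|c 3<|d);
 (c 2<|c 3<|c 3<|c 3<|d));
 (let d:=(c 4<|c 1<|c 1<|c 3<|d);
 (b 3<|b 1<|b 2<|b 2<|
 d))))<|d));
 (let d:=(h (let d:=(let d:=(let d:=(c 0<|c 0<|c 0<|c 0<|
 c 0<|f);
 (c 0<|c 0<|c 0<|c 0<|d));
 (let d:=(c 0<|c 0<|c 0<|c 0<|c 0<|d);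
 (c 0<|c 0<|c 0<|c 0<|d)));
 (let d:=(let d:=(c 0<|c 1<|c 0<|c 0<|c 0<|d);
 (c 0<|c 0<|c 2<|c 0<|d));
 (let d:=(c 0<|c 4<|c 0<|c 0<|d);
 (b 4<|b 2<|b 0<|b 2<|d))))<|h (let d:=(let d:=(let d:=(c 0<|c 0<|c 0<|c 0<|c 0<|f);
 (c 0<|c 0<|c 0<|c 0<|d));
 (let d:=(c 0<|c 0<|c 0<|c 0<|c 0<|d);
 (c 0<|c 0<|c 0<|c 0<|d)));
 (let d:=(let d:=(c 1<|c 4<|c 0<|c 0<|c 0<|d);
 (c 0<|c 0<|c 1<|c 1<|d));
 (let d:=(c 1<|c 4<|c 0<|c 0<|d);
 (b 2<|b 3<|b 1<|b 0<|d))))<|h (let d:=(let d:=(let d:=(c 0<|c 0<|c 3<|c 2<|c 0<|f);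
 (c 0<|c 0<|c 0<|c 3<|d));
 (let d:=(c 2<|c 0<|c 3<|c 3<|c 1<|d);
 (c 4<|c 2<|c 0<|c 4<|d)));
 (let d:=(let d:=(c 3<|c 2<|c 4<|c 0<|c 3<|d);
 (c 0<|c 4<|c 4<|c 4<|d));
 (let d:=(c 0<|c 3<|c 0<|c 1<|d);
 (b 1<|b 2<|b 4<|b 0<|
 d))))<|h (let d:=(let d:=(let d:=(c 0<|c 2<|c 4<|c 3<|c 0<|f);
 (c 0<|c 4<|c 0<|c 3<|d));
 (let d:=(c 3<|c 4<|c 2<|c 2<|c 4<|d);
 (c 1<|c 0<|c 2<|c 1<|d)));
 (let d:=(let d:=(c 2<|c 3<|c 1<|c 4<|c 2<|d);
 (c 0<|c 1<|
 c 0<|c 3<|d));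
 (let d:=(c 0<|c 4<|c 0<|c 3<|d);
 (b 2<|b 4<|b 2<|b 3<|d))))<|h (let d:=(let d:=(let d:=(c 1<|c 0<|c 3<|c 0<|c 1<|f);
 (c 0<|c 1<|c 0<|c 4<|d));
 (let d:=(c 0<|c 0<|c 0<|c 0<|c 0<|d);
 (c 0<|c 0<|c 3<|c 0<|d)));
 (let d:=(let d:=(c 0<|c 4<|c 0<|c 1<|
 c 0<|d);
 (c 0<|c 0<|c 0<|c 0<|d));
 (let d:=(c 0<|c 0<|c 2<|c 1<|d);
 (b 0<|b 2<|b 1<|b 4<|d))))<|d);
 (b f<|b f<|b f<|b f<|b f<|d))))<|
 l (let d:=(let d:=(let d:=(h (let d:=(let d:=(let d:=(c 0<|c 0<|c 1<|c 1<|c 4<|f);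
 (c 1<|c 1<|c 1<|c 0<|d));
 (let d:=(c 4<|c 4<|c 0<|c 0<|c 2<|d);
 (c 0<|c 2<|c 4<|c 2<|d)));
 (let d:=(let d:=(c 3<|c 3<|c 0<|c 3<|c 3<|d);
 (c 0<|c 0<|c 3<|c 2<|d));
 (let d:=(c 2<|c 2<|c 1<|c 0<|d);
 (b 4<|b 2<|b 1<|b 4<|
 d))))<|h (let d:=(let d:=(let d:=(c 4<|c 3<|c 0<|c 0<|c 0<|f);
 (c 0<|c 0<|c 0<|c 0<|d));
 (let d:=(c 0<|c 0<|c 1<|c 2<|c 0<|d);
 (c 0<|c 0<|c 4<|c 1<|d)));
 (let d:=(let d:=(c 0<|c 0<|c 4<|c 0<|c 0<|d);
 (c 0<|c 0<|
 c 0<|c 3<|d));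
 (let d:=(c 0<|c 0<|c 1<|c 0<|d);
 (b 0<|b 2<|b 1<|b 2<|d))))<|h (let d:=(let d:=(let d:=(c 0<|c 0<|c 1<|c 0<|c 4<|f);
 (c 0<|c 2<|c 2<|c 4<|d));
 (let d:=(c 0<|c 0<|c 0<|c 0<|c 2<|d);
 (c 0<|c 2<|c 4<|c 2<|d)));
 (let d:=(let d:=(c 3<|c 3<|c 0<|c 3<|
 c 3<|d);
 (c 0<|c 0<|c 3<|c 2<|d));
 (let d:=(c 2<|c 2<|c 1<|c 4<|d);
 (b 4<|b 2<|b 1<|b 4<|d))))<|h (let d:=(let d:=(let d:=(c 1<|c 2<|c 0<|c 1<|c 0<|f);
 (c 1<|c 4<|c 4<|c 1<|d));
 (let d:=(c 0<|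
 c 0<|c 3<|c 1<|c 0<|d);
 (c 3<|c 0<|c 1<|c 4<|d)));
 (let d:=(let d:=(c 3<|c 2<|c 2<|c 4<|c 4<|d);
 (c 1<|c 4<|c 3<|c 1<|d));
 (let d:=(c 4<|c 1<|c 1<|c 2<|d);
 (b 3<|b 3<|b 3<|b 1<|d))))<|h (let d:=(let d:=(let d:=(c 0<|c 0<|c 4<|c 4<|c 1<|f);
 (c 4<|c 4<|
 c 4<|c 0<|d));
 (let d:=(c 0<|c 0<|c 0<|c 0<|c 3<|d);
 (c 2<|c 0<|c 1<|c 0<|d)));
 (let d:=(let d:=(c 2<|c 4<|c 0<|c 3<|c 3<|d);
 (c 3<|c 4<|c 4<|c 0<|d));
 (let d:=(c 1<|c 3<|c 4<|c 3<|d);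
 (b 0<|b 3<|b 1<|b 1<|d))))<|f);
 (h (let d:=(let d:=(let d:=(c 0<|c 0<|c 0<|c 0<|c 1<|f);
 (c 0<|c 1<|c 1<|c 0<|d));
 (let d:=(c 0<|c 0<|c 0<|c 0<|c 4<|d);
 (c 0<|c 0<|c 0<|c 0<|d)));
 (let d:=(let d:=(c 4<|c 2<|c 4<|c 4<|
 c 4<|d);
 (c 0<|c 0<|c 4<|c 2<|d));
 (let d:=(c 4<|c 4<|c 3<|c 0<|d);
 (b 3<|b 2<|b 4<|b 3<|d))))<|h (let d:=(let d:=(let d:=(c 0<|c 0<|c 0<|c 0<|c 4<|f);
 (c 0<|c 4<|c 4<|c 0<|d));
 (let d:=(c 0<|
 c 0<|c 0<|c 0<|c 1<|d);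
 (c 0<|c 0<|c 0<|c 0<|d)));
 (let d:=(let d:=(c 0<|c 0<|c 0<|c 1<|c 1<|d);
 (c 0<|c 0<|c 0<|c 0<|d));
 (let d:=(c 0<|c 0<|c 0<|c 0<|d);
 (b 0<|b 0<|b 0<|b 0<|d))))<|h (let d:=(let d:=(let d:=(c 1<|c 2<|c 0<|c 0<|c 0<|f);
 (c 0<|c 0<|
 c 0<|c 0<|d));
 (let d:=(c 0<|c 0<|c 4<|c 3<|c 0<|d);
 (c 0<|c 0<|c 1<|c 1<|d)));
 (let d:=(let d:=(c 0<|c 3<|c 1<|c 0<|c 0<|d);
 (c 0<|c 0<|c 1<|c 0<|d));
 (let d:=(c 1<|c 0<|c 4<|c 0<|d);
 (b 2<|b 3<|b 0<|b 2<|d))))<|h (let d:=(let d:=(let d:=(c 0<|c 0<|c 4<|c 0<|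
 c 1<|f);
 (c 0<|c 4<|c 4<|c 0<|d));
 (let d:=(c 1<|c 0<|c 0<|c 0<|c 3<|d);
 (c 0<|c 3<|c 1<|c 3<|d)));
 (let d:=(let d:=(c 2<|c 2<|c 0<|c 2<|c 1<|d);
 (c 0<|c 0<|c 2<|c 3<|d));
 (let d:=(c 3<|c 3<|c 4<|c 0<|d);
 (b 1<|b 3<|b 4<|b 1<|d))))<|h (let d:=(let d:=(let d:=(c 4<|c 3<|c 0<|c 4<|c 0<|f);
 (c 4<|c 0<|c 0<|c 0<|d));
 (let d:=(c 0<|c 1<|c 2<|c 4<|c 0<|d);
 (c 0<|c 2<|c 4<|c 1<|d)));
 (let d:=(let d:=(c 3<|c 2<|c 3<|c 0<|c 1<|d);
 (c 4<|c 3<|c 1<|c 0<|d));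
 (let d:=(c 3<|c 4<|c 4<|c 4<|d);
 (b 4<|b 2<|b 4<|b 1<|d))))<|d));
 (let d:=(h (let d:=(let d:=(let d:=(c 0<|c 2<|c 1<|c 0<|c 1<|f);
 (c 0<|c 4<|
 c 4<|c 1<|d));
 (let d:=(c 4<|c 0<|c 0<|c 3<|c 3<|d);
 (c 0<|c 0<|c 3<|c 0<|d)));
 (let d:=(let d:=(c 0<|c 4<|c 0<|c 0<|c 1<|d);
 (c 0<|c 0<|c 3<|c 0<|d));
 (let d:=(c 2<|c 0<|c 0<|c 3<|d);
 (b 2<|b 1<|b 3<|b 1<|d))))<|h (let d:=(let d:=(let d:=(c 0<|c 0<|c 0<|c 0<|
 c 0<|f);
 (c 0<|c 2<|c 1<|c 3<|d));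
 (let d:=(c 0<|c 0<|c 0<|c 0<|c 0<|d);
 (c 4<|c 4<|c 0<|c 4<|d)));
 (let d:=(let d:=(c 0<|c 4<|c 0<|c 2<|c 1<|d);
 (c 4<|c 3<|c 4<|c 4<|d));
 (let d:=(c 1<|c 0<|c 0<|c 4<|d);
 (b 3<|b 0<|b 4<|b 0<|d))))<|h (let d:=(let d:=(let d:=(c 0<|c 0<|c 0<|c 0<|c 0<|f);
 (c 0<|c 3<|c 4<|c 2<|d));
 (let d:=(c 0<|c 0<|c 0<|c 0<|c 0<|d);
 (c 0<|c 0<|c 0<|c 0<|d)));
 (let d:=(let d:=(c 0<|c 0<|c 0<|c 0<|c 1<|d);
 (c 0<|c 0<|c 0<|c 0<|d));
 (let d:=(c 0<|c 0<|c 0<|c 0<|d);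
 (b 0<|b 0<|b 0<|b 0<|d))))<|h (let d:=(let d:=(let d:=(c 0<|c 0<|c 0<|c 0<|c 4<|f);
 (c 0<|c 1<|c 1<|c 0<|d));
 (let d:=(c 0<|c 0<|c 0<|c 0<|c 1<|d);
 (c 0<|c 0<|c 0<|c 0<|d)));
 (let d:=(let d:=(c 4<|c 2<|c 1<|c 4<|c 4<|d);
 (c 0<|c 0<|c 4<|c 2<|d));
 (let d:=(c 4<|c 1<|c 2<|c 0<|d);
 (b 3<|b 3<|b 4<|b 3<|
 d))))<|h (let d:=(let d:=(let d:=(c 0<|c 0<|c 0<|c 0<|c 1<|f);
 (c 0<|c 4<|c 4<|c 0<|d));
 (let d:=(c 0<|c 0<|c 0<|c 0<|c 4<|d);
 (c 0<|c 0<|c 0<|c 0<|d)));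
 (let d:=(let d:=(c 0<|c 0<|c 0<|c 1<|c 1<|d);
 (c 0<|c 0<|
 c 0<|c 0<|d));
 (let d:=(c 0<|c 0<|c 0<|c 0<|d);
 (b 0<|b 0<|b 0<|b 0<|d))))<|d);
 (h (let d:=(let d:=(let d:=(c 0<|c 0<|c 1<|c 1<|c 1<|f);
 (c 4<|c 4<|c 4<|c 0<|d));
 (let d:=(c 4<|c 4<|c 0<|c 0<|c 3<|d);
 (c 4<|c 1<|c 3<|c 1<|d)));
 (let d:=(let d:=(c 3<|c 2<|c 0<|c 4<|c 4<|d);
 (c 4<|c 3<|c 2<|c 1<|d));
 (let d:=(c 0<|c 1<|c 3<|c 4<|d);
 (b 0<|b 3<|b 4<|b 2<|d))))<|h (let d:=(let d:=(let d:=(c 0<|c 0<|c 0<|c 4<|c 0<|f);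
 (c 1<|c 3<|c 3<|c 2<|d));
 (let d:=(c 0<|c 1<|c 0<|c 0<|c 0<|d);
 (c 1<|c 1<|c 0<|c 1<|d)));
 (let d:=(let d:=(c 0<|c 1<|c 0<|c 3<|c 4<|d);
 (c 1<|c 2<|c 1<|c 1<|d));
 (let d:=(c 4<|c 0<|c 0<|c 1<|d);
 (b 2<|b 0<|b 1<|b 0<|
 d))))<|h (let d:=(let d:=(let d:=(c 0<|c 3<|c 4<|c 0<|c 4<|f);
 (c 0<|c 3<|c 3<|c 3<|d));
 (let d:=(c 1<|c 0<|c 0<|c 2<|c 2<|d);
 (c 0<|c 2<|c 2<|c 2<|d)));
 (let d:=(let d:=(c 3<|c 3<|c 0<|c 3<|c 2<|d);
 (c 0<|c 0<|
 c 3<|c 1<|d));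
 (let d:=(c 1<|c 0<|c 0<|c 0<|d);
 (b 0<|b 4<|b 2<|b 0<|d))))<|h (let d:=(let d:=(let d:=(c 0<|c 0<|c 4<|c 4<|c 4<|f);
 (c 1<|c 0<|c 0<|c 0<|d));
 (let d:=(c 1<|c 1<|c 0<|c 0<|c 2<|d);
 (c 3<|c 2<|c 2<|c 2<|d)));
 (let d:=(let d:=(c 1<|c 0<|c 0<|c 4<|
 c 4<|d);
 (c 0<|c 1<|c 1<|c 1<|d));
 (let d:=(c 0<|c 4<|c 2<|c 0<|d);
 (b 1<|b 2<|b 2<|b 1<|d))))<|h (let d:=(let d:=(let d:=(c 0<|c 0<|c 0<|c 1<|c 0<|f);
 (c 4<|c 1<|c 1<|c 4<|d));
 (let d:=(c 0<|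
 c 4<|c 0<|c 0<|c 0<|d);
 (c 2<|c 2<|c 0<|c 2<|d)));
 (let d:=(let d:=(c 0<|c 2<|c 0<|c 1<|c 0<|d);
 (c 0<|c 4<|c 2<|c 2<|d));
 (let d:=(c 3<|c 0<|c 0<|c 2<|d);
 (b 4<|b 0<|b 2<|b 0<|d))))<|d)));
 (let d:=(let d:=(h (let d:=(let d:=(let d:=(c 4<|c 1<|c 0<|c 0<|c 0<|f);
 (c 0<|c 0<|c 0<|c 0<|d));
 (let d:=(c 0<|c 0<|c 2<|c 2<|c 0<|d);
 (c 0<|c 0<|c 3<|c 1<|d)));
 (let d:=(let d:=(c 0<|c 4<|c 3<|c 0<|c 0<|d);
 (c 0<|c 0<|
 c 3<|c 1<|d));
 (let d:=(c 3<|c 2<|c 1<|c 0<|d);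
 (b 1<|b 4<|b 2<|b 4<|d))))<|h (let d:=(let d:=(let d:=(c 0<|c 2<|c 0<|c 0<|c 0<|f);
 (c 0<|c 0<|c 0<|c 0<|d));
 (let d:=(c 0<|c 0<|c 0<|c 3<|c 0<|d);
 (c 0<|c 4<|c 0<|c 4<|d)));
 (let d:=(let d:=(c 1<|c 1<|c 0<|c 0<|
 c 0<|d);
 (c 0<|c 0<|c 1<|c 0<|d));
 (let d:=(c 0<|c 1<|c 3<|c 0<|d);
 (b 2<|b 2<|b 1<|b 2<|d))))<|h (let d:=(let d:=(let d:=(c 0<|c 0<|c 0<|c 0<|c 0<|f);
 (c 0<|c 0<|c 0<|c 0<|d));
 (let d:=(c 0<|
 c 0<|c 0<|c 0<|c 0<|d);
 (c 0<|c 0<|c 0<|c 0<|d)));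
 (let d:=(let d:=(c 0<|c 0<|c 0<|c 0<|c 0<|d);
 (c 2<|c 4<|c 0<|c 0<|d));
 (let d:=(c 3<|c 1<|c 4<|c 2<|d);
 (b 0<|b 2<|b 1<|b 1<|d))))<|h (let d:=(let d:=(let d:=(c 0<|c 3<|c 0<|c 0<|c 0<|f);
 (c 0<|c 0<|
 c 0<|c 0<|d));
 (let d:=(c 0<|c 0<|c 0<|c 2<|c 0<|d);
 (c 0<|c 4<|c 0<|c 4<|d)));
 (let d:=(let d:=(c 1<|c 2<|c 0<|c 0<|c 0<|d);
 (c 0<|c 0<|c 3<|c 4<|d));
 (let d:=(c 2<|c 4<|c 2<|c 0<|d);
 (b 1<|b 3<|b 4<|b 2<|d))))<|h (let d:=(let d:=(let d:=(c 0<|c 0<|c 0<|c 0<|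
 c 0<|f);
 (c 0<|c 0<|c 0<|c 0<|d));
 (let d:=(c 0<|c 0<|c 0<|c 0<|c 0<|d);
 (c 0<|c 0<|c 0<|c 0<|d)));
 (let d:=(let d:=(c 0<|c 0<|c 0<|c 0<|c 0<|d);
 (c 2<|c 4<|c 0<|c 0<|d));
 (let d:=(c 3<|c 4<|c 1<|c 2<|d);
 (b 0<|b 3<|b 1<|b 1<|d))))<|d);
 (h (let d:=(let d:=(let d:=(c 4<|c 3<|c 0<|c 0<|c 0<|f);
 (c 0<|c 0<|c 0<|c 0<|d));
 (let d:=(c 0<|
 c 0<|c 1<|c 2<|c 0<|d);
 (c 0<|c 2<|c 3<|c 1<|d)));
 (let d:=(let d:=(c 3<|c 0<|c 4<|c 0<|c 0<|d);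
 (c 0<|c 0<|c 2<|c 2<|d));
 (let d:=(c 1<|c 2<|c 2<|c 0<|d);
 (b 2<|b 4<|b 1<|b 2<|d))))<|h (let d:=(let d:=(let d:=(c 1<|c 4<|c 0<|c 0<|c 0<|f);
 (c 0<|c 0<|
 c 0<|c 0<|d));
 (let d:=(c 0<|c 0<|c 3<|c 3<|c 0<|d);
 (c 0<|c 0<|c 2<|c 1<|d)));
 (let d:=(let d:=(c 0<|c 1<|c 2<|c 0<|c 0<|d);
 (c 0<|c 0<|c 2<|c 4<|d));
 (let d:=(c 2<|c 3<|c 4<|c 0<|d);
 (b 4<|b 1<|b 3<|b 4<|d))))<|h (let d:=(let d:=(let d:=(c 0<|c 0<|c 0<|c 0<|
 c 0<|f);
 (c 0<|c 2<|c 2<|c 0<|d));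
 (let d:=(c 4<|c 4<|c 0<|c 0<|c 0<|d);
 (c 3<|c 2<|c 0<|c 2<|d)));
 (let d:=(let d:=(c 1<|c 4<|c 0<|c 0<|c 0<|d);
 (c 2<|c 1<|c 4<|c 2<|d));
 (let d:=(c 1<|c 0<|c 0<|c 2<|d);
 (b 4<|b 0<|b 0<|b 3<|d))))<|h (let d:=(let d:=(let d:=(c 0<|c 0<|c 0<|c 0<|c 0<|f);
 (c 0<|c 1<|c 1<|c 4<|d));
 (let d:=(c 0<|c 1<|c 0<|c 0<|c 0<|d);
 (c 2<|c 2<|c 0<|c 2<|d)));
 (let d:=(let d:=(c 0<|c 2<|c 0<|c 1<|c 2<|d);
 (c 3<|c 4<|c 2<|c 2<|d));
 (let d:=(c 3<|c 0<|c 0<|c 2<|d);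
 (b 4<|b 0<|b 2<|b 0<|d))))<|h (let d:=(let d:=(let d:=(c 1<|c 2<|c 0<|c 0<|c 0<|f);
 (c 0<|c 2<|c 2<|c 1<|d));
 (let d:=(c 1<|c 0<|c 4<|c 3<|c 0<|d);
 (c 0<|c 3<|c 2<|c 2<|d)));
 (let d:=(let d:=(c 2<|c 2<|c 1<|c 4<|c 3<|d);
 (c 0<|c 0<|c 2<|c 0<|d));
 (let d:=(c 3<|c 3<|c 3<|c 1<|d);
 (b 1<|b 1<|b 3<|b 4<|
 d))))<|d));
 (let d:=(h (let d:=(let d:=(let d:=(c 0<|c 0<|c 0<|c 0<|
 c 0<|f);
 (c 0<|c 0<|c 0<|c 0<|d));
 (let d:=(c 0<|c 0<|c 0<|c 0<|c 0<|d);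
 (c 0<|c 0<|c 0<|c 0<|d)));
 (let d:=(let d:=(c 0<|c 4<|c 0<|c 0<|c 0<|d);
 (c 0<|c 0<|c 3<|c 1<|d));
 (let d:=(c 3<|c 0<|c 0<|c 0<|d);
 (b 1<|b 0<|b 2<|b 0<|d))))<|h (let d:=(let d:=(let d:=(c 0<|c 3<|c 0<|c 0<|c 0<|f);
 (c 0<|c 0<|c 0<|c 0<|d));
 (let d:=(c 0<|c 0<|c 0<|c 3<|c 0<|d);
 (c 0<|c 0<|c 0<|c 0<|d)));
 (let d:=(let d:=(c 0<|c 0<|c 0<|c 0<|c 0<|d);
 (c 4<|c 3<|c 0<|c 3<|d));
 (let d:=(c 1<|c 1<|c 4<|c 4<|d);
 (b 0<|b 2<|b 0<|b 2<|d))))<|h (let d:=(let d:=(let d:=(c 0<|c 2<|c 0<|c 0<|c 0<|f);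
 (c 0<|c 0<|c 0<|c 0<|d));
 (let d:=(c 0<|c 0<|c 0<|c 2<|c 0<|d);
 (c 0<|c 0<|c 0<|c 0<|d)));
 (let d:=(let d:=(c 0<|c 0<|c 0<|c 0<|c 0<|d);
 (c 4<|c 3<|c 0<|c 3<|d));
 (let d:=(c 1<|c 4<|c 1<|c 4<|d);
 (b 0<|b 3<|b 0<|b 2<|
 d))))<|h (let d:=(let d:=(let d:=(c 0<|c 0<|c 0<|c 0<|c 0<|f);
 (c 0<|c 0<|c 1<|c 0<|d));
 (let d:=(c 0<|c 0<|c 0<|c 0<|c 0<|d);
 (c 0<|c 0<|c 0<|c 0<|d)));
 (let d:=(let d:=(c 0<|c 0<|c 0<|c 0<|c 4<|d);
 (c 0<|c 0<|
 c 0<|c 0<|d));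
 (let d:=(c 0<|c 0<|c 0<|c 0<|d);
 (b 0<|b 0<|b 0<|b 0<|d))))<|h (let d:=(let d:=(let d:=(c 0<|c 0<|c 0<|c 0<|c 0<|f);
 (c 0<|c 0<|c 4<|c 0<|d));
 (let d:=(c 0<|c 0<|c 0<|c 0<|c 0<|d);
 (c 4<|c 0<|c 0<|c 0<|d)));
 (let d:=(let d:=(c 2<|c 1<|c 0<|c 2<|
 c 3<|d);
 (c 4<|c 3<|c 1<|c 4<|d));
 (let d:=(c 2<|c 0<|c 0<|c 4<|d);
 (b 2<|b 0<|b 3<|b 4<|d))))<|d);
 (b f<|b f<|b f<|b f<|b f<|d))))<|
 l (b (b 0<|b 4<|f)<|b (b 2<|b 0<|f)<|f)<|m))

/-- the factorisations -/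
def fa : Fin 3 → List (ℕ × List ℤ) := (beta% delta% lq26057adeea fun b _ _ f g _ _ l m _ _ _ _ =>
 (l (b (g 4 (b 1<|f))<|b (g 3 (b (-1)<|b (-1)<|f))<|b (g 3 (b (-1)<|b (-1)<|f))<|b (g 2 (b 1<|b 1<|b 1<|f))<|b (g 2 (b 1<|b 0<|b 1<|f))<|b (g 2 (b 1<|b 2<|b 1<|f))<|b (g 2 (b 1<|b 1<|b 1<|f))<|b (g 1 (b (-1)<|b 0<|b 0<|
 b (-1)<|f))<|b (g 1 (b (-1)<|b 0<|b 0<|b (-1)<|f))<|b (g 1 (b (-1)<|b (-2)<|b (-2)<|b (-1)<|f))<|b (g 1 (b (-1)<|b (-2)<|b (-2)<|b (-1)<|f))<|b (g 0 (b 1<|b 0<|b (-1)<|b 0<|b 1<|f))<|b (g 2 (b 1<|b 2<|b 1<|f))<|b (g 1 (b (-1)<|b (-1)<|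
 b (-1)<|b (-1)<|f))<|b (g 1 (b (-1)<|b (-1)<|b (-1)<|b (-1)<|f))<|b (g 0 (b 1<|b 0<|b 0<|b 0<|b 1<|f))<|b (g 0 (b 1<|b (-2)<|b 3<|b (-2)<|b 1<|f))<|b (g 1 (b (-1)<|b (-3)<|b (-3)<|b (-1)<|f))<|b (g 1 (b (-1)<|b (-3)<|b (-3)<|b (-1)<|f))<|
 b (g 0 (b 1<|b 1<|b 0<|b 1<|b 1<|f))<|b (g 0 (b 1<|b 1<|b 0<|b 1<|b 1<|f))<|b (g 0 (b 1<|b 0<|b 2<|b 0<|b 1<|f))<|b (g 0 (b 1<|b 2<|b 2<|b 2<|b 1<|f))<|b (g 0 (b 1<|b 2<|b 3<|b 2<|b 1<|f))<|b (g 0 (b 1<|b 4<|b 6<|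
 b 4<|b 1<|f))<|f)<|
 l (b (g 0 (b 1<|b (-4)<|b 6<|b (-4)<|b 1<|f))<|b (g 1 (b 1<|b (-3)<|b 3<|b (-1)<|f))<|b (g 1 (b 1<|b (-3)<|b 3<|b (-1)<|f))<|b (g 0 (b 1<|b (-1)<|b 0<|b (-1)<|b 1<|f))<|b (g 0 (b 1<|b (-2)<|b 2<|b (-2)<|b 1<|f))<|b (g 2 (b 1<|
 b (-2)<|b 1<|f))<|b (g 0 (b 1<|b (-1)<|b 0<|b (-1)<|b 1<|f))<|b (g 1 (b 1<|b (-2)<|b 2<|b (-1)<|f))<|b (g 1 (b 1<|b (-2)<|b 2<|b (-1)<|f))<|b (g 1 (b 1<|b 0<|b 0<|b (-1)<|f))<|b (g 1 (b 1<|b 0<|b 0<|b (-1)<|f))<|b (g 0 (b 1<|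
 b 0<|b (-1)<|b 0<|b 1<|f))<|b (g 2 (b 1<|b (-2)<|b 1<|f))<|b (g 1 (b 1<|b (-1)<|b 1<|b (-1)<|f))<|b (g 1 (b 1<|b (-1)<|b 1<|b (-1)<|f))<|b (g 0 (b 1<|b 0<|b 0<|b 0<|b 1<|f))<|b (g 0 (b 1<|b (-2)<|b 3<|b (-2)<|b 1<|f))<|b (g 3
 (b 1<|b (-1)<|f))<|b (g 3 (b 1<|b (-1)<|f))<|b (g 2 (b 1<|b (-1)<|b 1<|f))<|b (g 2 (b 1<|b (-1)<|b 1<|f))<|b (g 0 (b 1<|b 0<|b 2<|b 0<|b 1<|f))<|b (g 2 (b 1<|b 0<|b 1<|f))<|b (g 0 (b 1<|b 2<|b 3<|b 2<|b 1<|f))<|b (g 4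
 (b 1<|f))<|f)<|
 l (b (g 0 (b 1<|b (-4)<|b 6<|b (-4)<|b 1<|f))<|b (g 0 (b 1<|b (-2)<|b 0<|b 2<|b (-1)<|f))<|b (g 0 (b 1<|b (-2)<|b 0<|b 2<|b (-1)<|f))<|b (g 0 (b 1<|b (-1)<|b 0<|b (-1)<|b 1<|f))<|b (g 1 (b 1<|b (-2)<|b 1<|f))<|b (g 0 (b 1<|b 0<|
 b (-2)<|b 0<|b 1<|f))<|b (g 0 (b 1<|b (-1)<|b 0<|b (-1)<|b 1<|f))<|b (g 0 (b 1<|b (-1)<|b 0<|b 1<|b (-1)<|f))<|b (g 0 (b 1<|b (-1)<|b 0<|b 1<|b (-1)<|f))<|b (g 0 (b 1<|b 1<|b 0<|b (-1)<|b (-1)<|f))<|b (g 0 (b 1<|b 1<|b 0<|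
 b (-1)<|b (-1)<|f))<|b (g 0 (b 1<|b 0<|b (-1)<|b 0<|b 1<|f))<|b (g 0 (b 1<|b 0<|b (-2)<|b 0<|b 1<|f))<|b (g 1 (b 1<|b 0<|b (-1)<|f))<|b (g 1 (b 1<|b 0<|b (-1)<|f))<|b (g 0 (b 1<|b 0<|b 0<|b 0<|b 1<|f))<|b (g 0 (b 1<|b (-2)<|
 b 3<|b (-2)<|b 1<|f))<|b (g 0 (b 1<|b 2<|b 0<|b (-2)<|b (-1)<|f))<|b (g 0 (b 1<|b 2<|b 0<|b (-2)<|b (-1)<|f))<|b (g 0 (b 1<|b 1<|b 0<|b 1<|b 1<|f))<|b (g 0 (b 1<|b 1<|b 0<|b 1<|b 1<|f))<|b (g 2 (b 1<|f))<|b (g 1 (b 1<|b 2<|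
 b 1<|f))<|b (g 0 (b 1<|b 2<|b 3<|b 2<|b 1<|f))<|b (g 0 (b 1<|b 4<|b 6<|b 4<|b 1<|f))<|f)<|m))

/-- the classes of the Sylow tori -/
def cla : Fin 3 → List Wd := (beta% delta% lq26057adeea fun b _ _ f _ _ _ l m _ _ _ _ =>
 (l (b f<|f)<|l (b (b 3<|b 2<|b 1<|b 0<|b 2<|b 1<|b 2<|b 3<|b 2<|b 1<|b 0<|b 2<|b 1<|b 2<|b 3<|b 2<|b 1<|b 0<|b 2<|b 1<|b 2<|b 0<|b 1<|b 0<|f)<|f)<|
 l (b (b 3<|b 2<|b 1<|b 2<|b 3<|b 0<|b 2<|b 1<|b 2<|b 0<|b 1<|b 0<|f)<|b (b 3<|b 2<|b 1<|b 2<|b 3<|b 1<|b 0<|b 2<|b 1<|b 2<|b 1<|b 0<|f)<|b (b 0<|b 3<|b 2<|b 1<|b 2<|b 3<|b 0<|b 2<|b 1<|b 2<|b 0<|b 1<|f)<|b (b 0<|b 3<|b 2<|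
 b 1<|b 2<|b 3<|b 1<|b 0<|b 2<|b 1<|b 2<|b 1<|f)<|b (b 1<|b 0<|b 3<|b 2<|b 1<|b 2<|b 3<|b 0<|b 2<|b 1<|b 2<|b 0<|f)<|b (b 1<|b 0<|b 3<|b 2<|b 1<|b 2<|b 3<|b 1<|b 0<|b 2<|b 1<|b 2<|f)<|b (b 2<|b 1<|b 0<|b 3<|b 2<|b 1<|
 b 2<|b 3<|b 2<|b 0<|b 1<|b 0<|f)<|b (b 2<|b 1<|b 0<|b 3<|b 2<|b 1<|b 2<|b 3<|b 1<|b 2<|b 0<|b 1<|f)<|b (b 1<|b 2<|b 1<|b 0<|b 3<|b 2<|b 1<|b 2<|b 3<|b 2<|b 1<|b 0<|f)<|b (b 1<|b 2<|b 1<|b 0<|b 3<|b 2<|b 1<|b 2<|b 3<|
 b 1<|b 2<|b 0<|f)<|b (b 0<|b 1<|b 2<|b 1<|b 0<|b 3<|b 2<|b 1<|b 2<|b 3<|b 2<|b 1<|f)<|b (b 0<|b 1<|b 2<|b 1<|b 0<|b 3<|b 2<|b 1<|b 2<|b 3<|b 1<|b 2<|f)<|f)<|m))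

/-- the cyclotomic polynomials -/
def cy : Fin 3 → List ℤ := (beta% delta% lq26057adeea fun b _ _ f _ _ _ l m _ _ _ _ =>
 (l (b (-1)<|b 1<|f)<|l (b 1<|b 1<|f)<|l (b 1<|b 0<|b 1<|f)<|m))

/-- the residues -/
def rs : Fin 3 → List ℤ := ![[1], [4], [2, 3]]

/-- the multiplicity of the cyclotomic polynomial -/
def mu (d : Fin 3) (i : ℕ) : ℕ := ((fa d).getD i (0, [])).1

theorem exists_rs {q : ℤ} (h : ¬ 5 ∣ q) : ∃ d, q % 5 ∈ rs d := by
  rcases (by omega : q % 5 = 1 ∨ q % 5 = 2 ∨ q % 5 = 3 ∨ q % 5 = 4) with e | e | e | e <;> rw [e] <;> decide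

theorem fa_ck : ∀ d, ∀ i < 25, pwm (cy d) (mu d i) ((fa d).getD i (0, [])).2 = cpl (mW (nT.R.getD i []) 1) ∧
    mu d i ≤ mu d (t0 d) ∧ ∀ ρ ∈ rs d, ¬ 5 ∣ evL ((fa d).getD i (0, [])).2 ρ := by decide +kernel

theorem tri_ck : ∀ d, ∀ t ∈ tri d, t.1 < 25 ∧ t.2.1 < 25 ∧ t.2.2 < 25 ∧ mu d (t0 d) ≤ mu d t.1 + mu d t.2.1 := by
  decide +kernel

theorem bad_ck : ∀ d, ∀ b ∈ bad d, b.length ≤ 25 ∧ ¬ 25 ∣ b.getD (t0 d) 0 := by decide +kernel

theorem cub_ck : ∀ d, killB 5 (cubT (bad d) (t0 d) (tri d)) (cmb d) = true := by decide +kernel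

/-- the valuations of the orders of the tori -/
theorem val_det {q : ℤ} {d : Fin 3} (hd : q % 5 ∈ rs d) {i : ℕ} (hi : i < 25) (h0 : (q • ph (rep i) - 1).det.natAbs ≠ 0) :
    (q • ph (rep i) - 1).det.natAbs.factorization 5 = mu d i * (evL (cy d) q).natAbs.factorization 5 := by
  obtain ⟨h1, -, h2⟩ := fa_ck d i hi
  rw [rep, ph_el, ← mul_one (List.prod _), ← mW_eq, ← evL_cpl, ← h1, evL_pwm, Int.natAbs_mul, Int.natAbs_pow] at h0 ⊢
  rw [Nat.factorization_mul (left_ne_zero_of_mul h0) (right_ne_zero_of_mul h0), Finsupp.add_apply, Nat.factorization_pow,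
    Nat.factorization_eq_zero_of_not_dvd fun e => h2 _ hd ?_, add_zero]
  · rfl
  · exact (evL_mod _ (Int.mod_modEq q 5)).dvd_iff.2 (Int.natCast_dvd.2 e)

/-! ### fusion -/

theorem cla_ck : ∀ d, ky (nT.R.getD (t0 d) []) ∈ (cla d).map ky ∧ ∀ L ∈ cla d, ∀ i, ky (i :: (L ++ [i])) ∈ (cla d).map ky := by
  decide +kernel

theorem exists_cla (d : Fin 3) (v : W4) : ∃ L ∈ cla d, el L = v * rep (t0 d) * v⁻¹ := by
  obtain ⟨V, rfl⟩ := c4.wordProd_surjective v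
  induction V with
  | nil =>
    obtain ⟨L, h1, h2⟩ := List.mem_map.1 (cla_ck d).1
    exact ⟨L, h1, by rw [el_eq_iff.2 h2, wordProd_nil, one_mul, inv_one, mul_one, rep]⟩
  | cons j V ih =>
    obtain ⟨t, h2, h3⟩ := ih
    obtain ⟨t', h4, h5⟩ := List.mem_map.1 ((cla_ck d).2 t h2 j)
    refine ⟨t', h4, ?_⟩
    rw [el_eq_iff.2 h5, el_cons, el_append, el_one, h3, wordProd_cons, _root_.mul_inv_rev, c4.inv_simple]
    simp only [mul_assoc]

theorem fus_ck : ∀ b < 15, ∀ d, ∀ X ∈ cla d,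
    (∀ i : Fin 4, Nat.testBit b i = true → ky (X ++ i :: X.reverse) ∈ (EB b).map ky) →
    ∀ X' ∈ cla d, ky (X' ++ X.reverse) ∈ (EB b).map ky → ∃ u ∈ EB b, ky (X ++ u) = ky (u ++ X') := by decide +kernel

theorem ky_mem {b : ℕ} (hb : b < 15) {L : Wd} (h : el L ∈ WJ c4 (sB b)) : ky L ∈ (EB b).map ky := by
  obtain ⟨L', h1, h2⟩ := exists_EB (hb.trans (by decide)) h
  exact List.mem_map.2 ⟨L', h1, el_eq_iff.1 h2⟩

/-- two Sylow types in a coset are conjugate under the parabolic subgroup -/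
theorem fus {b : ℕ} (hb : b < 15) {d : Fin 3} {w w' v v' : W4} (h1 : w = v * rep (t0 d) * v⁻¹)
    (h2 : w' = v' * rep (t0 d) * v'⁻¹) (h3 : ∀ i ∈ sB b, w * c4.simple i * w⁻¹ ∈ WJ c4 (sB b))
    (h4 : w' * w⁻¹ ∈ WJ c4 (sB b)) : ∃ u ∈ WJ c4 (sB b), w * u = u * w' := by
  obtain ⟨X, h5, e⟩ := exists_cla d v
  obtain ⟨X', h6, e'⟩ := exists_cla d v'
  obtain rfl := e.trans h1.symm
  obtain rfl := e'.trans h2.symm
  obtain ⟨u, h7, h8⟩ := fus_ck b hb d X h5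
    (fun i hi => ky_mem hb (by rw [el_append, el_cons, el_reverse, ← mul_assoc]; exact h3 i hi)) X' h6
    (ky_mem hb (by rw [el_append, el_reverse]; exact h4))
  exact ⟨el u, el_mem (inB_of_mem h7), by rw [← el_append, ← el_append, el_eq_iff.2 h8]⟩

theorem cartan_inv : ∀ j : Fin 4, ∑ i, (beta% delta% lq26057adeea fun _ _ _ _ _ _ _ l m _ _ _ r =>
 (@_root_.Matrix.of (Fin 4) (Fin 4) _ (l (l 2<|l 3<|l 4<|l 2<|m)
 (l (l 3<|l 6<|l 8<|l 4<|m)
 (l (l 2<|l 4<|l 6<|l 3<|m)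
 (l (l 1<|l 2<|l 3<|l (2 :type_of% (r _))<|m)
 m))))) j i :
 ℤ) • cartanOf chevF4 4 i =
    Pi.single j 1 := by decide +kernel

end Cfsg.Agent.LV.F4
end

private theorem dce_64ac3170fb43 : _root_.True := by
  try have : _root_.True := by simp only [_root_.Cfsg.Agent.LV.F4.evL.eq_1]
  try have : _root_.True := by simp only [_root_.Cfsg.Agent.LV.F4.pT.eq_1]
  try have : _root_.True := by simp only [_root_.Cfsg.Agent.LV.F4.rep.eq_1]
  try have : _root_.True := by simp only [_root_.Cfsg.Agent.LV.F4.cpl.eq_1]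
  exact _root_.True.intro
end

-- part: LV/Cl/Cert
section
set_option linter.all false

section
/-! # LV, classical groups: certificate data (generated by `notes/LV/py/cert`; helper58, repacked by helper44) -/

set_option autoImplicit false
set_option linter.dupNamespace false
set_option maxRecDepth 100000

namespace Cfsg.Agent.LV.Cl.Cert

/-- data -/
noncomputable def Bb1 : List (ℕ) := [
  824097373696, 549219728897]

theorem both_b1 : Both true 1 false :=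
  both_of' (W := []) (Bb1.map dB) [] [] (tab 1) inVb1 (all2_nil _) okX1 (by decide +kernel)

/-- data -/
noncomputable def Bb2 : List (ℕ) := [
  961536327168, 106296741813838269442287468913831391745, 549220253188]

theorem both_b2 : Both true 2 false :=
  both_of' (W := []) (Bb2.map dB) [] [] (tab 2) inVb2 (all2_nil _) okX2 (by decide +kernel)

/-- data -/
noncomputable def Bb3 : List (ℕ) := [
  1030255803904, 116930565780188923048875308089271398913, 824097766916, 1373853449733, 191367333544633826893044919416559186438,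
  549221301769]

theorem both_b3 : Both true 3 false :=
  both_of' (W := []) (Bb3.map dB) [] [] (tab 3) inVb3 (all2_nil _) okX3 (by decide +kernel)

/-- data -/
noncomputable def Bb4 : List (ℕ) := [
  1064615542272, 122247477763364249852169227676991402497, 138198213712887812411564670989831123460, 1511292403207,
  202001157510984480499632758591999193608, 1373853580811, 824098291212, 191367353827048266381732712358042874381,
  361508517006224941794559820422014775824, 549223398931]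

theorem both_b4 : Both true 4 false :=
  both_of' (W := []) (Bb4.map dB) [] [] (tab 4) inVb4 (all2_nil _) okX4 (by decide +kernel)

/-- data -/
noncomputable def Bb5 : List (ℕ) := [
  1081795411456, 124905933754951913253816187470851404289, 143515125696063139214858590577551127044, 1580011879943,
  207318069494159807302926678179719197192, 961536785931, 138198233995302251900252464481070363148, 223268805443683369862322121492558918159,
  202001177793398919988320551533482881554, 372142340972575595401147659597454782997, 191367363968253068275590293378464428568, 824099339803,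
  2473365601820, 361508537288639381283247613363498463773, 701790883929407171597589622432925954592, 549227593251]

theorem both_b5 : Both true 5 false :=
  both_of' (W := []) (Bb5.map dB) [] [] (tab 5) inVb5 (all2_nil _) okX5 (by decide +kernel)

/-- data -/
noncomputable def Bb6 : List (ℕ) := [
  1090385346048, 126235161750745744954639667367781405185, 146173581687650802616505550371411128836, 1614371618311,
  209976525485747470704573637973579198984, 154148949662412583896203272027830989323, 143515145978477578703546384068790366734,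
  228585717426858696665616041080278921745, 207318089776574246791614471121202885140, 377459252955750922204441579185174786583, 1511292599834,
  961537310235, 1786170441244, 393409988905274484763837022498014507559, 2610804555306, 372142361254990034889835452538938470955,
  712424707895757825204177461608365961774, 1373854367281, 2473365732914, 361508547429844183177105194383920017971, 824101436982,
  361508577853468260260623199246465839671, 701790904211821611086277415374409642554, 1382355617775771631203649226454748312125, 549235981888,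
  476383827677777296594053755545452514870429756608576402025076764936410837720290232453567649291764257232280045734815106580975719453]

theorem both_b6 : Both true 6 false :=
  both_of' (W := []) (Bb6.map dB) [] [] (tab 6) inVb6 (all2_nil _) okX6 (by decide +kernel)

/-- data -/
noncomputable def Bb7_0 : List (ℕ) := [
  1094680313344, 126899775748642660805051407316246405633, 147502809683444634317329030268341129732, 1631551487495,
  211305753481541302405397117870509199880, 156807405654000247297850231821690991115, 146173601970065242105193343862650368526,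
  231244173418446360067263000874138923537, 209976545768161910193261430915062886932, 380117708947338585606088538979034788375, 1030256295450,
  154148969944827023384891065519070229019, 239219541393208141346960722530558784030, 1854889917985, 398726900888449811567130942085734511148,
  2679524032047, 377459273238165361693129372126658474544, 717741619878933152007471381196085965363, 1786170506806,
  202001193005206122829106923064115212855, 961538358842, 223268835867305029095353810904784450107, 265804121591495588076388640235162055230,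
  223268866290926688328385501966276637249, 733692355828456714566866824508925686350, 372142401819818913867211038421905846865,
  712424728178172264692865254549849649748, 1392989441742122284810237065630188319319, 2473365995098, 1373855415899]

/-- data -/
noncomputable def Bb7_1 : List (ℕ) := [
  361508587994673062154480780266887393884, 701790914353026412980134996394831196767, 824105631330, 4672389906019,
  701790944776650490063653001257377018468, 1382355638058186070692337019396232000103, 2743485085468500550415768434498393027178,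
  549252759149,
  498045309663738907911771548906615517177050331836435112835296280273207971091856763977940114360242502972684325027928679413464568866,
  476384158205761701563443738621349079527480934311147530124352879784898118336017675210536502385260580965077317342307337376288740420]

/-- data -/
noncomputable def Bb7 : List (ℕ) := Bb7_0 ++ (Bb7_1)

theorem both_b7 : Both true 7 false :=
  both_of' (W := []) (Bb7.map dB) [] [] (tab 7) inVb7 (all2_nil _) okX7 (by decide +kernel)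

/-- data -/
noncomputable def Bb8_0 : List (ℕ) := [
  1096827796992, 127232082747591118730257277290478905857, 148167423681341550167740770216806130180, 1640141422087,
  211970367479438218255808857818974200328, 158136633649794078998673711718620992011, 147502829965859073806016823759580369422,
  232573401414240191768086480771068924433, 211305773763955741894084910811992887828, 381446936943132417306912018875964789271,
  162124317637174969638522572546830922266, 156807425936414686786538025312930230813, 241877997384795804748607682324418785824, 1889249656355,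
  401385356880037474968777901879594512942, 2713883770417, 380117729229753025094776331920518476338, 720400075870520815409118340989945967157,
  1580012109368, 1030256819769, 154148980086034243129234962264689848890, 409360724854799256248475623536014373447,
  228585747850480355898647730492504453706, 271121033574670914879682559822882058829, 228585778274102015131679421553996640848,
  739009267811632041370160744096645689949, 377459313802994240670504958009625850464, 717741640161347591496159174137569653347,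
  1398306353725297611613530985217908322918, 223268840937907430042282601414995227241]

/-- data -/
noncomputable def Bb8_1 : List (ℕ) := [
  1511293386348, 2610804751981, 372142376466797237730621824069570802286, 961540456049, 265804131732702807820732536705903899250,
  2885682593397, 393410019328896143996868711910240039542, 265804162156324467053764227217640534649, 435945305053086702977903541240617644668,
  1414257089674821174172926428530748043923, 4809828859542, 712424768743001143670240840432817025687,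
  1392989462024536724298924858571672007322, 2754118909434851204022356273673833034397, 361508608277082665942195942307730502304,
  1373857513123, 4672390037156, 701790954917855291957510582277798572709, 1382355648199390872586194600416653554344, 824114020011,
  701791025906308248018404173023311770284, 1382355678623014949669712605279199376047, 2743485105750914989904456227439876715186,
  5465744020853958388840006850585682457269, 549286313656,
  508876050656719713570630445587197018330360619450364468240406037941606537777640029740126346894481625842886464674485465829708993572,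
  498045330321742858470784560041055776866838711390030607802985301124923933493144521523033730974641834394331161910987579957899039805,
  498045640191723312881161531982512081834101509539006240934572395121695251707584206734908967453738826705481596635420910208777589843,
  822967869981186884634337525458043563150730300073528518557548541871195303086935158726090445336146406684109388205288092013681185919,
  476384819261730511502223704773142208841583289716289786322905109481872679567472560724474208572253228430671860557291798966914782345]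

/-- data -/
noncomputable def Bb8 : List (ℕ) := Bb8_0 ++ (Bb8_1)

theorem both_b8 : Both true 8 false :=
  both_of' (W := []) (Bb8.map dB) [] [] (tab 8) inVb8 (all2_nil _) okX8 (by decide +kernel)

/-- data -/
noncomputable def Bb9_0 : List (ℕ) := [
  1097901538816, 127398236247065347692860212277595155969, 148499730680290008092946640191038630404, 1644436389383,
  212302674478386676181014727793206700552, 158801247647690994849085451667085992459, 148167443963755989656428563708045369870,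
  233238015412137107618498220719533924881, 211970387761852657744496650760457888276, 382111550941029333157323758824429789719,
  163453545632968801339346052443760923162, 158136653932208518487361505209860231709, 243207225380589636449431162221348786720, 1906429525539,
  402714584875831306669601381776524513838, 2731063639601, 381446957225546856795599811817448477234, 721729303866314647109941820886875968053,
  1064616050232, 162124337919589409127210366038070161977, 247194909367970527089280023049558716988, 156807436077621906530881922058549850687,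
  412019180846386919650122583329874375244, 231244203842068019300294690286364455503, 273779489566258578281329519616742060626,
  231244234265689678533326381347856642645, 741667723803219704771807703890505691746, 380117769794581904072151917803485852261,
  720400096152935254897806133931429655144, 1400964809716885275015177945011768324715]

/-- data -/
noncomputable def Bb9_1 : List (ℕ) := [
  1854890016366, 207318107523682650105865237906940605039, 1030257868402, 1992328937075, 281754857541020359561027241273161921150,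
  239219602240451459813024103004276503169, 749643091777981486051505425546925552270, 271121043715878134624026456293623902865, 2954402070164,
  398726931312071470800162631497960043157, 271121074139499793857058146805360538264, 441262217036262029781197460828337648283,
  1419574001657996500976220348118468047538, 4878548336309, 717741680726176470473534760020537029302,
  1398306374007712051102218778159392010937, 2759435821418026530825650193261553038012, 265804136803305208767661327216114676415,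
  2885682659010, 393410024399498544943797502420450816707, 2610805014214, 1511294435015, 372142417031626116707997409952538178248,
  712424743389979467533651626080481981131, 961544650446, 265804172297531686798108123688382378703, 435945315194293922722247437711359488722,
  393410059893725022974244297793207415509, 733692386252078373799898513921151218392, 776227671976268932780933343251528823525]

/-- data -/
noncomputable def Bb9_2 : List (ℕ) := [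
  393410130882175561184651576936689185512, 2775386557367550093385045636574392759039, 712424849872658901624992012198751777538,
  1392989502589365603276300444454639383301, 2754118929717265643511044066615316722440, 5476377844820309042446594689761122464523,
  2473367568142, 4672390299407, 701790975200264895745225744318641681168, 1373861707539, 701791036047513049912261754043733324564,
  1382355688764219751563570186299620930327, 2743485115892119791798313808460298269466, 824130797341, 9070438514462,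
  1382355759752672707624463777045134127903, 2743485146315743868881831813322844091170, 5465744041136372828328694643527166145317,
  10910261891624874065688483682760261317416, 549353422635,
  514291421153210116400059893927487768907015763257329145942960916775805821120531662621219463161601187277987534497763859037831205924,
  508876071314723664129643456721637278020148999003959963208095058793322500178927787285219963508880957264533301557544366374143464514,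
  508876381184704118540020428663093582987411797152935596339682152790093818393367472497095199987977949575683736281977696625022014552,
  584691258265599154238508006750229397772651052830625869385288469801628410331433593008508672679062523118020742610689968853360710772,
  498045660849727263440174543116952341523889889092601735902261415973411214108871964280002584068138158127128433518479810753212060804,
  844629351967148495952055318819206565457350875301387229367768057207992436458501690250462910404624652424513667498401664846170035358,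
  498046301247692122819941498134305211148203864944148497133124624818669812939039092248846673640731474171076139850405371799403631784,
  822967952613182985876685023466761378551223737229589690693462916929287627289159325199426906373463718985466288367239552962768671963,
  822968531037155694573117491609836692464832655478670774756100771568169864318390044240028151523139054149703931420272553604307227883,
  476386141373668131379783637076728467469788000526574298720009568875821802030382331752349620946238523361860946987260722148166866165]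

/-- data -/
noncomputable def Bb9 : List (ℕ) := Bb9_0 ++ (Bb9_1 ++ (Bb9_2))

theorem both_b9 : Both true 9 false :=
  both_of' (W := []) (Bb9.map dB) [] [] (tab 9) inVb9 (all2_nil _) okX9 (by decide +kernel)

/-- data -/
noncomputable def Bp10_0 : List (ℕ) := [
  1098438409728, 1097901800961, 1647657352706, 1096828190211, 148665884179769072757675128682917472772, 2746095238663, 1094680772104,
  159133554646644288476993335898386407945, 1919314296332, 1644436913677, 233570322411100072647774908198832382478, 4942971010577,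
  1090385837586, 164118159630870552892748037025446498835, 158801267930107852188836021910706524694, 1640142077465,
  243871839378501059404490180427185066522, 1915019853341, 3014530956830, 275773311277549393450253606485185335839,
  403379198873762072427974467230662201890, 9336722554405, 166112001624560998212816582627627790887, 163453565915385658679384853063534113322,
  1631552208429, 248524137363778865895039011580012655150, 2043868479025, 158136694497030143913854604944416633394,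
  243207245663016165191126996465272681013, 285742521246001922281763008739305517624]

/-- data -/
noncomputable def Bp10_1 : List (ℕ) := [
  413348408842214601259483869484782383675, 275108717562064499236890422248395305534, 5204964277825, 2731064688194,
  445249880741262935305247295542782652995, 742996951799086071988373585294321840710, 18124225642057, 1889249754698, 2713883475532,
  162124348060797837797085651159880413773, 162124378484411034553991696148779217488, 247194929650397055831264087669635265107,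
  289730205233382812921900099943668101718, 417336092829595491899620960689144967769, 2026689134172, 3126200237661, 1889250442846,
  412019201128832791195708945574404993641, 2713884950124, 454554476711818548286344957848437830253, 752301547769641684969471247599977017968,
  3538517491315, 2988762726004, 443920673027881125241472371357527618165, 9585830919800, 528991244476264661059792952167023555193,
  784203019668690019015234673657977287292, 1422232457649734071109171821421641118335, 35699231817346, 1992329461379]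

/-- data -/
noncomputable def Bp10_2 : List (ℕ) := [
  3091840564868, 271121048786490206975206353882079179398, 5153424866953, 4878547484299, 9276593471116, 1992329657997,
  281754867682238459634865402616027951758, 5290863754897, 303022505473731338180183409165360837266, 281754898105856492090438237008173347477,
  239219683370092292814947525721007993496, 749643112060466043204872843792669618853, 536966612451026442340067134575748723368,
  792178387643451800295508856066702455467, 1430207825624495852389446003830366286510, 3504158801585, 5703181008562,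
  526332808767089019295194548084838511283, 781544583959514377250636269575792243382, 18347564203705, 4878550433466,
  866615155407897913068956850385288180411, 1462109297523544186435209429888366555838, 2780703469351030069350768293676279673537,
  70849244167876, 3435438669509, 5084706111175, 3435439455944, 5634461662921, 521015906925118494385758209380101075658]

/-- data -/
noncomputable def Bp10_3 : List (ℕ) := [
  776227682117543852341199930871054807757, 18278844858064, 9207875501778, 18003967475411, 35596152995540,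
  521015937348737735765997739920468423381, 10032508042968, 5084708863705, 861298263707134607902711486509243118298,
  1456792405822780881268964066012321493725, 35871030771424, 1031439426886313701176401203839909966561,
  1541862977271164417087284646821817430756, 2817921853233252521275158942349145092839, 5497645492753622065833961238185556783850,
  141149268868845, 17866531536623, 35458715483888, 70643086524145, 141011830177522, 281749318270707,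
  942105690376006117659435229981620436851329476937998703693257299012192381938839737450416877226753210691052412417093836432783578207,
  1624442372933875678141776780287693588926862642259110620730619529324512301321075828632519405975628279723582296449694471092958925979]

/-- data -/
noncomputable def Bp10 : List (ℕ) := Bp10_0 ++ (Bp10_1 ++ (Bp10_2 ++ (Bp10_3)))

theorem both_p10 : Both false 10 false :=
  both_of' (W := W5) (Bp10.map dB) [2112882655, 3153071039, 3622833535, 5233447807, 5636101375, 9394201343, 17715708415] [6156190719, 11239687167, 18990760959, 36908827647] (tab 10) inVp10 all2_5 okX10 (by decide +kernel)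

/-- data -/
noncomputable def Bm10_0 : List (ℕ) := [
  1098438409728, 1097901800961, 1647657352706, 1096828190211, 148665884179769072757675128682917472772, 2746095238663, 1094680772104,
  159133554646644288476993335898386407945, 1919314296332, 1644436913677, 233570322411100072647774908198832382478, 4942971010577,
  1090385837586, 164118159630870552892748037025446498835, 158801267930107852188836021910706524694, 1640142077465,
  243871839378501059404490180427185066522, 1915019853341, 3014530956830, 275773311277549393450253606485185335839,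
  403379198873762072427974467230662201890, 9336722554405, 166112001624560998212816582627627790886, 163453565915385658679384853063534113321,
  1631552208428, 248524137363778865895039011580012655149, 2043868479024, 158136694497030143913854604944416633393,
  243207245663016165191126996465272681012, 285742521246001922281763008739305517623]

/-- data -/
noncomputable def Bm10_1 : List (ℕ) := [
  413348408842214601259483869484782383674, 275108717562064499236890422248395305533, 5204964277824, 2731064688193,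
  445249880741262935305247295542782652994, 742996951799086071988373585294321840709, 18124225642056,
  162124348060797837797085651159880413769, 162124378484411034553991696148779217484, 247194929650397055831264087669635265103, 1889249754706,
  289730205233382812921900099943668101715, 417336092829595491899620960689144967766, 2713883475545, 2026689134170, 3126200237659,
  1889250442844, 412019201128832791195708945574404993639, 2713884950122, 454554476711818548286344957848437830251,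
  752301547769641684969471247599977017966, 3538517491313, 2988762726002, 443920673027881125241472371357527618163, 9585830919798,
  528991244476264661059792952167023555191, 784203019668690019015234673657977287290, 1422232457649734071109171821421641118333,
  35699231817344, 1992329461377]

/-- data -/
noncomputable def Bm10_2 : List (ℕ) := [
  3091840564866, 1992329657987, 281754867682238459634865402616027951748, 5290863754887, 303022505473731338180183409165360837256,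
  281754898105856492090438237008173347467, 239219683370092292814947525721007993486, 271121048786490206975206353882079179419,
  749643112060466043204872843792669618846, 5153424866977, 536966612451026442340067134575748723362, 792178387643451800295508856066702455461,
  4878547484328, 1430207825624495852389446003830366286505, 9276593471148, 3504158801581, 5703181008558,
  526332808767089019295194548084838511279, 781544583959514377250636269575792243378, 18347564203701, 4878550433462,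
  866615155407897913068956850385288180407, 1462109297523544186435209429888366555834, 2780703469351030069350768293676279673533,
  70849244167872, 3435438669505, 3435439455938, 5634461662915, 521015906925118494385758209380101075652,
  776227682117543852341199930871054807751]

/-- data -/
noncomputable def Bm10_3 : List (ℕ) := [
  5084706111178, 18278844858059, 521015937348737735765997739920468423372, 10032508042959, 5084708863696,
  861298263707134607902711486509243118289, 1456792405822780881268964066012321493716, 35871030771415,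
  1031439426886313701176401203839909966552, 1541862977271164417087284646821817430747, 9207875501790,
  2817921853233252521275158942349145092831, 18003967475426, 5497645492753622065833961238185556783843, 35596152995558, 141149268868839,
  17866531536616, 35458715483881, 70643086524138, 141011830177515, 281749318270700,
  942105690376006117659435229981620436851329476937998703693257299012192381938839737450416877226753210691052412417093836432783578205,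
  1624442372933875678141776780287693588926862642259110620730619529324512301321075828632519405975628279723582296449694471092958925969]

/-- data -/
noncomputable def Bm10 : List (ℕ) := Bm10_0 ++ (Bm10_1 ++ (Bm10_2 ++ (Bm10_3)))

theorem both_m10 : Both false 10 true :=
  both_of' (W := []) (Bm10.map dB) [2112882655, 3153071039, 3622833535, 5233447807, 5636101375, 9394201343, 17715708415] [6156190719, 11239687167, 18990760959, 36908827647] (tab 10) inVm10 (all2_nil _) okX10 (by decide +kernel)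

end Cfsg.Agent.LV.Cl.Cert
end

-- part: LV/Cl/Cert
section
/-!
# LV, classical groups: `BoxHalf` and `BoxGood` (helper58)
-/

set_option autoImplicit false
set_option linter.dupNamespace false

namespace Cfsg.Agent.LV.Cl

namespace Cert

theorem both_zero (b : Bool) : Both b 0 false := by
  cases b <;> exact both_of (bl := [⟨[1072694271], [0], [[1]], [[4]], [[1]]⟩]) (dg := []) (bads := []) (W := []) (tab 0)
    (allIn_zero _) (all2_nil _) valOK_nil (by decide +kernel) (by decide +kernel) (by decide +kernel)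

theorem both_b (k : ℕ) (hk : k ≤ 9) : Both true k false := by
  interval_cases k
  exacts [both_zero true, both_b1, both_b2, both_b3, both_b4, both_b5, both_b6, both_b7, both_b8, both_b9]

theorem both_p (k : ℕ) (hk : k ≤ 10) : Both false k false := by
  interval_cases k
  exacts [both_zero false, both_p1, both_p2, both_p3, both_p4, both_p5, both_p6, both_p7, both_p8, both_p9, both_p10]

theorem both_m (k : ℕ) (h1 : 1 ≤ k) (hk : k ≤ 10) : Both false k true := by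
  interval_cases k
  exacts [both_m1, both_m2, both_m3, both_m4, both_m5, both_m6, both_m7, both_m8, both_m9, both_m10]

theorem both (b : Bool) (k : ℕ) (ε : ℤˣ) (a : Bip → ℂ) (hk : k ≤ (if b then 9 else 10)) (h0 : b = false → k = 0 → ε = 1)
    (hS : Sh b k ε a) : HalfC b k ε a ∧ ∀ d, Rg d b k ε → GoodC d b k ε a := by
  cases b
  · rcases Int.units_eq_one_or ε with rfl | rfl
    · exact both_p k hk 1 a (fun _ => rfl) hS
    · exact both_m k (Nat.pos_of_ne_zero fun h => absurd (h0 rfl h) (by decide)) hk (-1) a (fun _ => rfl) hS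
  · exact both_b k hk ε a (fun h => absurd h (by decide)) hS

end Cert

theorem boxHalf : BoxHalf := fun b k ε a hk h0 hS => (Cert.both b k ε a hk h0 hS).1

theorem boxGood : BoxGood := fun d b k ε a hd h0 hS =>
  (Cert.both b k ε a (by cases b <;> simp [Rg] at hd ⊢ <;> omega) h0 hS).2 d hd

end Cfsg.Agent.LV.Cl
end
end

-- part: LV/E7/Lab
section
prune_inst 0xfcb9faefadafffffff7e3ffed8ffff9180ffffefdff973ffe563bf0f9f03e10fcdff85edf490ff8e77e29490b87853fb7eefffe86fdc7ffffdfff41ffbee4fe5fe3508519c9ca41fbc0fff93f17f8a7f000000000000000000000000000041004200000000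
set_option linter.all false
open scoped Cfsg.Agent.FastGrp

-- part: LV/E7/Tab
section
/-!
# LV, `E₇`, `p = 5`: words as numbers, the coset `H w₀` of the parabolic subgroup of type `D₄ A₁` (helper14)

`el n` : the element with the code `n`, `ap n` : its action on lists; `tb` : the elements of `H = St y0` with their classes.
-/

set_option autoImplicit false
set_option maxRecDepth 100000

namespace Cfsg.Agent.LV.E7

open CoxeterSystem Cfsg Cfsg.Lie Matrix Cfsg.Agent.Nodes.RGDChev Cfsg.Agent.KZ.DatX Cfsg.Agent.KZ.Exc Cfsg.Agent.KZ.Exc.Gr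

/-- the action on the cocharacters -/
noncomputable abbrev mv (w : W7) (y : Fin 7 → ℤ) : Fin 7 → ℤ := wm hpE7 w *ᵥ y

/-- the stabiliser -/
noncomputable abbrev Sb (y : Fin 7 → ℤ) : Subgroup W7 := KZ.Exc.St hpE7 y

/-- the simple reflections -/
abbrev sp (i : Fin 7) : W7 := sr' CoxeterMatrix.E₇ i

theorem mv_mul (v w : W7) (y : Fin 7 → ℤ) : mv (v * w) y = mv v (mv w y) := wm_mul_mulVec hpE7 v w y

theorem mv_one (y : Fin 7 → ℤ) : mv 1 y = y := wm_one_mulVec hpE7 y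

theorem mv_inv (v : W7) (y : Fin 7 → ℤ) : mv v⁻¹ (mv v y) = y := by rw [← mv_mul, inv_mul_cancel, mv_one]

theorem mv_inv' (v : W7) (y : Fin 7 → ℤ) : mv v (mv v⁻¹ y) = y := by rw [← mv_mul, mul_inv_cancel, mv_one]

/-- the word with the code `n` -/
noncomputable def eN (f : ℕ) : ℕ → W7 :=
  Nat.rec (fun _ => 1) (fun _ ih n => Bool.rec (ih (Nat.div n 8) * sp ⟨Nat.mod (Nat.mod n 8) 7, Nat.mod_lt _ (by decide)⟩) 1
    (Nat.beq n 0)) f

/-- the action of the word -/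
noncomputable def aN (f : ℕ) : ℕ → List ℤ → List ℤ :=
  Nat.rec (fun _ y => y) (fun _ ih n y => Bool.rec (fl (refL rowsE7 (Nat.mod (Nat.mod n 8) 7) y) (ih (Nat.div n 8))) y
    (Nat.beq n 0)) f

theorem aN_eq (f n : ℕ) (y : Fin 7 → ℤ) : aN f n (List.ofFn y) = List.ofFn (mv (eN f n) y) := by
  induction f generalizing n y with
  | zero => exact congrArg List.ofFn (mv_one y).symm
  | succ f ih =>
    show Bool.rec (fl _ (aN f _)) _ (Nat.beq n 0) = List.ofFn (mv (Bool.rec (eN f _ * _) 1 (Nat.beq n 0)) y)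
    cases Nat.beq n 0
    · rw [fl_eq, mv_mul, ← ih, ← refL_eq hpE7 isRows_E7]
    · exact congrArg List.ofFn (mv_one y).symm

/-- the element with the code `n` -/
noncomputable def el (n : ℕ) : W7 := eN 64 n

/-- a reflection on differences of natural numbers -/
noncomputable def sP (i : ℕ) (k : ℕ → ℕ → ℕ → ℕ → ℕ → ℕ → ℕ → ℕ → ℕ → ℕ → ℕ → ℕ → ℕ → ℕ → List ℤ) (a a' b b' c c' d d' e e' f f' g g' : ℕ) : List ℤ :=
  Bool.rec
    (Bool.rec (Bool.rec (k a a' b b' c c' d d' e e' (Nat.add f g) (Nat.add f' g') g' g) (k a a' b b' c c' d d' (Nat.add e f) (Nat.add e' f') f' f (Nat.add g f) (Nat.add g' f')) (Nat.beq i 5))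
      (Bool.rec (k a a' b b' c c' (Nat.add d e) (Nat.add d' e') e' e (Nat.add f e) (Nat.add f' e') g g')
        (k a a' (Nat.add b d) (Nat.add b' d') (Nat.add c d) (Nat.add c' d') d' d (Nat.add e d) (Nat.add e' d') f f' g g') (Nat.beq i 3)) (Nat.ble i 4))
    (Bool.rec (Bool.rec (k (Nat.add a c) (Nat.add a' c') b b' c' c (Nat.add d c) (Nat.add d' c') e e' f f' g g') (k a a' b' b c c' (Nat.add d b) (Nat.add d' b') e e' f f' g g') (Nat.beq i 1))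
      (k a' a b b' (Nat.add c a) (Nat.add c' a') d d' e e' f f' g g') (Nat.beq i 0)) (Nat.ble i 2)

theorem sP_eq {i : ℕ} (hi : i < 7) {k : ℕ → ℕ → ℕ → ℕ → ℕ → ℕ → ℕ → ℕ → ℕ → ℕ → ℕ → ℕ → ℕ → ℕ → List ℤ} {κ : List ℤ → List ℤ}
    (h : ∀ a a' b b' c c' d d' e e' f f' g g', k a a' b b' c c' d d' e e' f f' g g' = κ [(a : ℤ) - a', (b : ℤ) - b', (c : ℤ) - c', (d : ℤ) - d', (e : ℤ) - e', (f : ℤ) - f', (g : ℤ) - g'])
    (a a' b b' c c' d d' e e' f f' g g' : ℕ) : sP i k a a' b b' c c' d d' e e' f f' g g' =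
      κ (refL rowsE7 i [(a : ℤ) - a', (b : ℤ) - b', (c : ℤ) - c', (d : ℤ) - d', (e : ℤ) - e', (f : ℤ) - f', (g : ℤ) - g']) := by
  interval_cases i <;> refine (h ..).trans (congrArg κ ?_)
  · show _ = [(a : ℤ) - a' - (a - a') * (2), (b : ℤ) - b' - (a - a') * (0), (c : ℤ) - c' - (a - a') * (-1), (d : ℤ) - d' - (a - a') * (0), (e : ℤ) - e' - (a - a') * (0), (f : ℤ) - f' - (a - a') * (0), (g : ℤ) - g' - (a - a') * (0)]
    simp only [List.cons.injEq, Nat.add_eq, Nat.cast_add, and_true]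
    (clear * -; solve | lia | omega)
  · show _ = [(a : ℤ) - a' - (b - b') * (0), (b : ℤ) - b' - (b - b') * (2), (c : ℤ) - c' - (b - b') * (0), (d : ℤ) - d' - (b - b') * (-1), (e : ℤ) - e' - (b - b') * (0), (f : ℤ) - f' - (b - b') * (0), (g : ℤ) - g' - (b - b') * (0)]
    simp only [List.cons.injEq, Nat.add_eq, Nat.cast_add, and_true]
    (clear * -; solve | lia | omega)
  · show _ = [(a : ℤ) - a' - (c - c') * (-1), (b : ℤ) - b' - (c - c') * (0), (c : ℤ) - c' - (c - c') * (2), (d : ℤ) - d' - (c - c') * (-1), (e : ℤ) - e' - (c - c') * (0), (f : ℤ) - f' - (c - c') * (0), (g : ℤ) - g' - (c - c') * (0)]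
    simp only [List.cons.injEq, Nat.add_eq, Nat.cast_add, and_true]
    (clear * -; solve | lia | omega)
  · show _ = [(a : ℤ) - a' - (d - d') * (0), (b : ℤ) - b' - (d - d') * (-1), (c : ℤ) - c' - (d - d') * (-1), (d : ℤ) - d' - (d - d') * (2), (e : ℤ) - e' - (d - d') * (-1), (f : ℤ) - f' - (d - d') * (0), (g : ℤ) - g' - (d - d') * (0)]
    simp only [List.cons.injEq, Nat.add_eq, Nat.cast_add, and_true]
    (clear * -; solve | lia | omega)
  · show _ = [(a : ℤ) - a' - (e - e') * (0), (b : ℤ) - b' - (e - e') * (0), (c : ℤ) - c' - (e - e') * (0), (d : ℤ) - d' - (e - e') * (-1), (e : ℤ) - e' - (e - e') * (2), (f : ℤ) - f' - (e - e') * (-1), (g : ℤ) - g' - (e - e') * (0)]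
    simp only [List.cons.injEq, Nat.add_eq, Nat.cast_add, and_true]
    (clear * -; solve | lia | omega)
  · show _ = [(a : ℤ) - a' - (f - f') * (0), (b : ℤ) - b' - (f - f') * (0), (c : ℤ) - c' - (f - f') * (0), (d : ℤ) - d' - (f - f') * (0), (e : ℤ) - e' - (f - f') * (-1), (f : ℤ) - f' - (f - f') * (2), (g : ℤ) - g' - (f - f') * (-1)]
    simp only [List.cons.injEq, Nat.add_eq, Nat.cast_add, and_true]
    (clear * -; solve | lia | omega)
  · show _ = [(a : ℤ) - a' - (g - g') * (0), (b : ℤ) - b' - (g - g') * (0), (c : ℤ) - c' - (g - g') * (0), (d : ℤ) - d' - (g - g') * (0), (e : ℤ) - e' - (g - g') * (0), (f : ℤ) - f' - (g - g') * (-1), (g : ℤ) - g' - (g - g') * (2)]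
    simp only [List.cons.injEq, Nat.add_eq, Nat.cast_add, and_true]
    (clear * -; solve | lia | omega)

/-- the action of the word on differences of natural numbers -/
noncomputable def aP (r : ℕ) : ℕ → ℕ → ℕ → ℕ → ℕ → ℕ → ℕ → ℕ → ℕ → ℕ → ℕ → ℕ → ℕ → ℕ → ℕ → List ℤ :=
  Nat.rec (fun _ a a' b b' c c' d d' e e' f f' g g' => fl [Int.subNatNat a a', Int.subNatNat b b', Int.subNatNat c c', Int.subNatNat d d', Int.subNatNat e e', Int.subNatNat f f', Int.subNatNat g g'] fun m => m)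
    (fun _ ih n a a' b b' c c' d d' e e' f f' g g' => Bool.rec (sP (Nat.mod (Nat.mod n 8) 7) (ih (Nat.div n 8)) a a' b b' c c' d d' e e' f f' g g')
      (fl [Int.subNatNat a a', Int.subNatNat b b', Int.subNatNat c c', Int.subNatNat d d', Int.subNatNat e e', Int.subNatNat f f', Int.subNatNat g g'] fun m => m) (Nat.beq n 0)) r

theorem aP_eq (r n a a' b b' c c' d d' e e' f f' g g' : ℕ) : aP r n a a' b b' c c' d d' e e' f f' g g' =
    aN r n [(a : ℤ) - a', (b : ℤ) - b', (c : ℤ) - c', (d : ℤ) - d', (e : ℤ) - e', (f : ℤ) - f', (g : ℤ) - g'] := by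
  induction r generalizing n a a' b b' c c' d d' e e' f f' g g' with
  | zero =>
    show fl _ _ = [(a : ℤ) - a', (b : ℤ) - b', (c : ℤ) - c', (d : ℤ) - d', (e : ℤ) - e', (f : ℤ) - f', (g : ℤ) - g']
    simp only [fl_eq, Int.subNatNat_eq_coe]
  | succ r ih =>
    show @Bool.rec (fun _ => List ℤ) (sP _ (aP r _) a a' b b' c c' d d' e e' f f' g g') (fl _ _) (Nat.beq n 0) =
      @Bool.rec (fun _ => List ℤ) (fl _ (aN r _)) _ (Nat.beq n 0)
    cases Nat.beq n 0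
    · exact (sP_eq (Nat.mod_lt _ (by decide)) (ih _) ..).trans (fl_eq _ _).symm
    · simp only [fl_eq, Int.subNatNat_eq_coe]

/-- the action of `el n` -/
noncomputable def ap (n : ℕ) (y : List ℤ) : List ℤ := fl y fun m => aP 64 n
  (m.getD 0 0).toNat (-m.getD 0 0).toNat (m.getD 1 0).toNat (-m.getD 1 0).toNat (m.getD 2 0).toNat (-m.getD 2 0).toNat (m.getD 3 0).toNat (-m.getD 3 0).toNat (m.getD 4 0).toNat (-m.getD 4 0).toNat (m.getD 5 0).toNat (-m.getD 5 0).toNat (m.getD 6 0).toNat (-m.getD 6 0).toNat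

theorem ap_eq (n : ℕ) (y : Fin 7 → ℤ) : ap n (List.ofFn y) = List.ofFn (mv (el n) y) := by
  rw [ap, fl_eq, aP_eq, el, ← aN_eq]
  simp only [Int.toNat_sub_toNat_neg]
  rfl

theorem el_zero : el 0 = 1 := rfl

theorem mv_el {n : ℕ} {y z : Fin 7 → ℤ} (h : ap n (List.ofFn y) = List.ofFn z) : mv (el n) y = z :=
  List.ofFn_injective ((ap_eq n y).symm.trans h)

/-- a regular cocharacter -/
def ro : Fin 7 → ℤ := fun _ => 1

theorem eq_of_ro {v w : W7} (h : mv v ro = mv w ro) : v = w :=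
  (inv_mul_eq_one.1 (Subgroup.mem_bot.1 (dom_key hpE7 (y := ro) (fun _ => zero_le_one) (fun _ e => absurd e one_ne_zero)
    (w⁻¹ * v) (by
      show 0 ≤ mv _ ro
      rw [mv_mul, h, mv_inv]
      exact fun _ => zero_le_one)))).symm

/-- type `D₄ A₁` -/
def y0 : Fin 7 → ℤ := ![1, 0, 0, 0, 0, 1, 0]

/-- type `A₁³` -/
def yL : Fin 7 → ℤ := ![1, 0, 1, 1, 0, 1, 0]

/-- type `A₁` -/
def y2 : Fin 7 → ℤ := ![1, 1, 1, 1, 1, 1, 0]

/-- type `A₂ A₁` -/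
def y3 : Fin 7 → ℤ := ![1, 1, 1, 0, 0, 1, 0]

/-- the second eigenvector -/
def yE : Fin 7 → ℤ := ![0, 0, 1, 1, 0, 3, 0]

/-- the code of `w₀` -/
def n0 : ℕ := 1139764135387542811260851429

/-- an element of order `4` -/
noncomputable def w0 : W7 := el n0

/-- the representatives -/
def gk : List ℕ := [0, 1, 2, 3, 6, 10, 11, 12, 14, 22, 30, 83, 84, 86, 94, 102, 670, 678]

/-- `(h, v, k)` with `h w₀ = v g_k w₀ v⁻¹` -/
def tb : List (ℕ × ℕ × ℕ) := [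
  (0, 0, 0), (1, 0, 1), (2, 0, 2), (3, 0, 3), (4, 9827, 1), (6, 0, 4), (10, 0, 5), (11, 0, 6), (12, 0, 7), (14, 0, 8),
  (19, 666, 5), (20, 1635, 5), (22, 0, 9), (25, 1, 6), (26, 154, 0), (28, 668, 6), (30, 0, 10), (35, 5347, 6),
  (38, 9827, 8), (83, 0, 11), (84, 0, 12), (86, 0, 13), (89, 1, 3), (90, 5322, 3), (92, 156, 11), (94, 0, 14),
  (99, 716, 11), (102, 0, 15), (153, 1, 11), (154, 99, 3), (156, 5332, 11), (158, 666, 13), (163, 1635, 11),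
  (166, 1635, 13), (202, 1226, 3), (204, 668, 11), (206, 1, 14), (212, 668, 3), (214, 154, 4), (227, 4, 3),
  (230, 668, 14), (281, 204, 11), (282, 5347, 3), (286, 5347, 14), (665, 154, 5), (666, 666, 6), (668, 11, 7),
  (670, 0, 16), (675, 26, 7), (678, 0, 17), (714, 163, 0), (716, 156, 6), (718, 1, 10), (724, 99, 5), (726, 5322, 10),
  (739, 4, 6), (742, 156, 16), (793, 1251, 6), (794, 11, 5), (798, 716, 16), (1226, 154, 6), (1228, 3, 7),
  (1230, 1, 16), (1236, 42595, 6), (1238, 99, 10), (1251, 5402, 5), (1254, 5332, 16), (1305, 35, 7), (1306, 9811, 6),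
  (1310, 1635, 16), (1619, 1226, 6), (1620, 35, 5), (1622, 1226, 10), (1635, 1699, 5), (1638, 668, 16), (1699, 99, 6),
  (1702, 668, 10), (1817, 12, 6), (1818, 83, 0), (1822, 4, 10), (2250, 3, 5), (2254, 204, 16), (2262, 5347, 10),
  (5322, 35, 3), (5324, 1236, 11), (5326, 154, 13), (5332, 675, 11), (5334, 666, 14), (5347, 4, 11), (5350, 11, 15),
  (5401, 5731, 11), (5402, 83, 11), (5406, 26, 15), (5715, 666, 1), (5716, 156, 3), (5718, 163, 4), (5731, 5795, 1),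
  (5734, 156, 14), (5795, 99, 1), (5798, 99, 13), (5913, 12, 3), (5914, 665, 3), (5918, 4, 14), (6346, 1251, 3),
  (6350, 1251, 14), (6358, 11, 13), (9811, 154, 1), (9812, 163, 11), (9814, 154, 14), (9827, 26, 12), (9830, 3, 15),
  (9891, 675, 1), (9894, 42595, 14), (10009, 12, 11), (10010, 11, 3), (10014, 5402, 13), (10442, 19, 11),
  (10446, 35, 15), (10454, 9811, 14), (12956, 282, 1), (12958, 1226, 14), (12963, 227, 11), (12966, 35, 13),
  (13081, 1699, 1), (13082, 11, 2), (13086, 1699, 13), (13593, 35, 1), (13594, 83, 1), (13598, 99, 14),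
  (14538, 153, 3), (14542, 12, 14), (14550, 83, 4), (18003, 26, 1), (18006, 3, 13), (42579, 5322, 6),
  (42580, 9827, 6), (42582, 35, 10), (42595, 1619, 7), (42598, 1236, 16), (42659, 675, 6), (42662, 675, 16),
  (42777, 1306, 5), (42778, 89, 6), (42782, 4, 16), (43210, 42579, 6), (43214, 5731, 16), (43222, 83, 16),
  (45724, 5332, 6), (45726, 666, 8), (45731, 739, 6), (45734, 156, 10), (45849, 5795, 5), (45850, 1619, 0),
  (45854, 5795, 8), (46361, 35, 6), (46362, 83, 6), (46366, 99, 8), (47306, 19, 0), (47310, 12, 10), (47318, 665, 10),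
  (50771, 714, 6), (50774, 1251, 10), (78492, 1236, 6), (78494, 154, 8), (78499, 154, 7), (78502, 163, 16),
  (78617, 1699, 7), (78618, 1619, 5), (78622, 26, 17), (79129, 163, 6), (79130, 11, 6), (79134, 675, 8),
  (80074, 25, 6), (80078, 12, 16), (80086, 11, 10), (83539, 202, 6), (83542, 19, 16), (103651, 20, 6),
  (103654, 282, 8), (103705, 227, 6), (103706, 83, 5), (103710, 227, 16), (104650, 1699, 0), (104654, 1699, 8),
  (104662, 11, 9), (108746, 19, 6), (108750, 35, 8), (108758, 83, 8), (116307, 2, 6), (116310, 153, 10),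
  (144028, 212, 6), (144030, 26, 8), (340636, 794, 1), (340638, 5322, 14), (340643, 5716, 11), (340646, 9827, 14),
  (340761, 90, 12), (340762, 1619, 1), (340766, 1619, 15), (341273, 163, 1), (341274, 11, 1), (341278, 675, 14),
  (342218, 3, 3), (342222, 1306, 13), (342230, 89, 14), (345683, 90, 1), (345686, 42579, 14), (365795, 20, 3),
  (365798, 5332, 14), (365849, 739, 11), (365850, 739, 3), (365854, 739, 14), (366794, 3, 2), (366798, 5795, 13),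
  (366806, 1619, 4), (370890, 19, 1), (370894, 35, 14), (370902, 83, 14), (378451, 2, 3), (378454, 19, 4),
  (406172, 5402, 1), (406174, 714, 14), (627939, 20, 11), (627942, 1236, 14), (627993, 1620, 11), (627994, 11, 11),
  (627998, 154, 15), (628938, 5715, 1), (628942, 1699, 15), (628950, 1619, 13), (633034, 3, 1), (633038, 163, 14),
  (633046, 11, 14), (640595, 2, 11), (640598, 25, 14), (668316, 1306, 1), (668318, 202, 14), (829209, 84, 3),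
  (829210, 89, 3), (829214, 20, 14), (829642, 227, 3), (829646, 227, 14), (829654, 83, 13), (837203, 714, 3),
  (837206, 1699, 4), (869971, 10, 3), (869974, 19, 14), (930460, 28, 11), (930462, 2, 14), (1152230, 212, 14),
  (2725091, 794, 5), (2725094, 794, 8), (2725145, 163, 7), (2725146, 1619, 6), (2725150, 5716, 16),
  (2726090, 5715, 5), (2726094, 90, 17), (2726102, 1619, 8), (2730186, 3, 6), (2730190, 163, 8), (2730198, 11, 8),
  (2737747, 90, 5), (2737750, 3, 10), (2765468, 724, 6), (2765470, 90, 8), (2926361, 84, 6), (2926362, 11, 0),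
  (2926366, 20, 10), (2926794, 19, 5), (2926798, 739, 16), (2926806, 739, 10), (2934355, 26, 0), (2934358, 3, 9),
  (2967123, 10, 6), (2967126, 19, 8), (3027612, 92, 6), (3027614, 2, 10), (3249382, 5402, 8), (5023513, 282, 5),
  (5023514, 665, 6), (5023518, 20, 16), (5023946, 5715, 6), (5023950, 1620, 16), (5023958, 11, 16), (5031507, 90, 6),
  (5031510, 5715, 8), (5064275, 26, 5), (5064278, 3, 8), (5124764, 83, 7), (5124766, 2, 16), (5346534, 1306, 8),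
  (6633674, 3, 0), (6633678, 84, 10), (6633686, 89, 10), (6637139, 35, 0), (6637142, 227, 10), (6697628, 675, 5),
  (6697630, 714, 10), (6959772, 28, 6), (6959774, 10, 10), (7443686, 28, 16), (21800729, 84, 11), (21800730, 83, 3),
  (21800734, 794, 13), (21801162, 3, 11), (21801166, 163, 15), (21801174, 1619, 14), (21808723, 26, 3),
  (21808726, 5715, 13), (21841491, 10, 11), (21841494, 3, 14), (21901980, 724, 11), (21901982, 90, 13),
  (22123750, 724, 14), (23410890, 25, 3), (23410894, 84, 14), (23410902, 11, 4), (23414355, 202, 3),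
  (23414358, 19, 13), (23474844, 92, 3), (23474846, 26, 4), (23736988, 92, 11), (23736990, 10, 14),
  (24220902, 92, 14), (40188106, 19, 3), (40188110, 282, 13), (40188118, 665, 14), (40191571, 90, 3),
  (40191574, 5715, 14), (40252060, 99, 11), (40252062, 90, 14), (40514204, 212, 11), (40514206, 26, 13),
  (40998118, 83, 15), (53069395, 2, 2), (53069398, 3, 4), (53097116, 28, 3), (53097118, 35, 4), (53581030, 675, 13),
  (55678182, 28, 14), (174405834, 153, 6), (174405838, 84, 16), (174405846, 83, 10), (174409299, 26, 6),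
  (174409302, 3, 16), (174469788, 5731, 6), (174469790, 26, 10), (174731932, 19, 7), (174731934, 10, 16),
  (175215846, 724, 16), (187287123, 2, 5), (187287126, 25, 10), (187314844, 163, 5), (187314846, 202, 10),
  (187798758, 92, 10), (189895910, 92, 16), (321504851, 2, 0), (321504854, 19, 10), (321532572, 1635, 6),
  (321532574, 90, 10), (322016486, 99, 16), (324113638, 212, 16), (424555164, 9827, 5), (424555166, 2, 9),
  (424776934, 28, 10), (1395246675, 2, 1), (1395246678, 153, 14), (1395274396, 35, 11), (1395274398, 26, 14),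
  (1395758310, 5731, 14), (1397855462, 19, 15), (1498296988, 2, 12), (1498296990, 2, 13), (1498518758, 163, 13),
  (2572038812, 1635, 1), (2572038814, 2, 4), (2572260582, 1635, 14), (3396441318, 9827, 13), (11161973404, 2, 7),
  (11161973406, 2, 8), (11162195174, 35, 16), (11986375910, 2, 17), (20576310502, 1635, 8), (89295787238, 2, 15)]

/-- the check of an entry -/
noncomputable def ck1 (t : ℕ × ℕ × ℕ) : Bool :=
  ap t.1 (List.ofFn y0) == List.ofFn y0 && ap t.2.1 (List.ofFn y0) == List.ofFn y0 && Nat.blt t.2.2 18 &&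
    ap t.1 (ap n0 (ap t.2.1 (List.ofFn ro))) == ap t.2.1 (ap (gk.getD t.2.2 0) (ap n0 (List.ofFn ro)))

/-- membership -/
noncomputable def memN (k : ℕ) (L : List ℕ) : Bool := List.rec false (fun a _ ih => Bool.rec ih true (Nat.beq a k)) L

theorem memN_iff {k : ℕ} {L : List ℕ} : memN k L = true ↔ k ∈ L := by
  induction L with
  | nil => simp [memN]
  | cons a L ih =>
    show Bool.rec (memN k L) true (Nat.beq a k) = true ↔ _
    cases h : Nat.beq a k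
    · rw [List.mem_cons, or_iff_right fun e => Nat.ne_of_beq_eq_false h e.symm]
      exact ih
    · exact iff_of_true rfl (Nat.eq_of_beq_eq_true h ▸ List.mem_cons_self)

/-- no duplicates -/
noncomputable def ndN (L : List ℕ) : Bool := List.rec true (fun a L ih => Bool.rec ih false (memN a L)) L

theorem ndN_nodup {L : List ℕ} (h : ndN L = true) : L.Nodup := by
  induction L with
  | nil => exact List.nodup_nil
  | cons a L ih =>
    have h1 : Bool.rec (ndN L) false (memN a L) = true := h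
    cases e : memN a L
    · rw [e] at h1
      exact List.nodup_cons.2 ⟨fun h2 => by simp [memN_iff.2 h2] at e, ih h1⟩
    · rw [e] at h1
      exact absurd h1 (by simp)

/-- forces a list -/
noncomputable def fN {α : Type} (L : List ℕ) : (List ℕ → α) → α :=
  List.rec (fun k => k []) (fun a _ ih k => fn a fun b => ih fun m => k (b :: m)) L

theorem fN_eq {α : Type} (L : List ℕ) (k : List ℕ → α) : fN L k = k L := by
  induction L generalizing k with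
  | nil => rfl
  | cons a L ih => exact (fn_eq a fun b => fN L fun m => k (b :: m)).trans (ih _)

/-- the code of a list -/
noncomputable def enc (L : List ℤ) : ℕ :=
  List.rec 0 (fun x _ ih => fn (Int.rec (fun n => Nat.mul 2 n) (fun n => Nat.succ (Nat.mul 2 n)) x) fun a => fn ih fun b =>
    Nat.succ (Bool.rec (Nat.add (Nat.mul b b) a) (Nat.add (Nat.add (Nat.mul a a) a) b) (Nat.ble b a))) L

theorem enc_eq (L : List ℤ) : enc L = Encodable.encode L := by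
  induction L with
  | nil => rfl
  | cons x L ih =>
    have h1 : @Int.rec (fun _ => ℕ) (fun n => Nat.mul 2 n) (fun n => Nat.succ (Nat.mul 2 n)) x = Encodable.encode x := by
      cases x <;> rfl
    show fn (@Int.rec (fun _ => ℕ) (fun n => Nat.mul 2 n) (fun n => Nat.succ (Nat.mul 2 n)) x) (fun a => fn (enc L) fun b =>
      Nat.succ (@Bool.rec (fun _ => ℕ) (Nat.add (Nat.mul b b) a) (Nat.add (Nat.add (Nat.mul a a) a) b) (Nat.ble b a))) = _
    rw [fn_eq, fn_eq, h1, ih, Encodable.encode_list_cons]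
    generalize Encodable.encode x = a
    generalize Encodable.encode L = b
    refine congrArg Nat.succ ?_
    show _ = if a < b then b * b + a else a * a + a + b
    cases h : Nat.ble b a
    · rw [if_pos (Nat.lt_of_not_le fun h2 => by rw [Nat.ble_eq_true_of_le h2] at h; cases h)]
      rfl
    · rw [if_neg (Nat.not_lt_of_le (Nat.le_of_ble_eq_true h))]
      rfl

/-- the keys -/
noncomputable def ks : List ℕ := tb.map fun t => enc (ap t.1 (List.ofFn ro))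

/-- the table is closed under the generators -/
noncomputable def ck2 : Bool := fN ks fun L => ndN L && tb.all fun t => fl (ap t.1 (List.ofFn ro)) fun y =>
  [1, 2, 3, 4, 6].all fun i => fn (enc (refL rowsE7 i y)) fun k => memN k L

private theorem _root_.Cfsg.Agent.KO279af90.e0.{ku, kv} {α : Type kv} {M : List α → Sort ku} (φ : ∀ l, M l) {z : M List.nil} {s : ∀ a l, M l → M (List.cons a l)} (h0 : φ List.nil = z) (hs : ∀ a l, φ (List.cons a l) = s a l (φ l)) (l : List α) : φ l = @List.rec α M z s l := List.rec h0 (fun a l ih => (hs a l).trans (congrArg (s a l) ih)) l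
private noncomputable def _root_.Cfsg.Agent.KO279af90.k1.{ku0} : type_of% @List.all.{ku0} := @(fun x0 x1 x2 => @List.rec.{(ku0+1), ku0} @x0 @(fun x3 => (@x0 → @Bool) → @Bool) @(fun x3 => @Bool.true) @(fun x3 x4 x5 x6 => @Bool.rec.{1} @(fun x7 => @Bool) @Bool.false (@x5 @x6) (@x6 @x3)) @x1 @x2)
private theorem _root_.Cfsg.Agent.KO279af90.e1.{ku0} : @List.all.{ku0} = @_root_.Cfsg.Agent.KO279af90.k1.{ku0} := by delta _root_.Cfsg.Agent.KO279af90.k1; funext a0 a1 a2; refine (congrFun (_root_.Cfsg.Agent.KO279af90.e0 (fun a1 a2 => @List.all.{ku0} a0 a1 a2) ?_ (fun c0 c1 => ?_) a1) a2 :) <;> (rfl')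
private noncomputable def _root_.Cfsg.Agent.KO279af90.k3.{ku0} : type_of% @List.beq.{ku0} := @(fun x0 x1 x2 x3 => @List.rec.{(ku0+1), ku0} @x0 @(fun x4 => (@List.{ku0} @x0) → @Bool) @(fun x4 => @List.rec.{1, ku0} @x0 @(fun x5 => @Bool) @Bool.true @(fun x5 x6 x7 => @Bool.false) @x4) @(fun x4 x5 x6 x7 => @List.rec.{1, ku0} @x0 @(fun x8 => @Bool) @Bool.false @(fun x8 x9 x10 => @Bool.rec.{1} @(fun x11 => @Bool) @Bool.false (@x6 @x9) (@BEq.beq.{ku0} _ @x1 @x4 @x8)) @x7) @x2 @x3)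
private theorem _root_.Cfsg.Agent.KO279af90.e3.{ku0} : @List.beq.{ku0} = @_root_.Cfsg.Agent.KO279af90.k3.{ku0} := by delta _root_.Cfsg.Agent.KO279af90.k3; funext a0 a1 a2 a3; refine (congrFun (_root_.Cfsg.Agent.KO279af90.e0 (fun a2 a3 => @List.beq.{ku0} a0 a1 a2 a3) ?_ (fun c0 c1 => ?_) a2) a3 :) <;> [(funext b0; (cases b0 with | @nil  => (rfl') | @cons b0_0 b0_1 => (rfl'))); (funext b0; (cases b0 with | @nil  => (rfl') | @cons b0_0 b0_1 => (rfl')))]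
private noncomputable def _root_.Cfsg.Agent.KO279af90.k4 : type_of% @Nat.decEq := @(fun x0 x1 => @Bool.rec.{1} @(fun x2 => (@Eq.{1} _ (@Nat.beq @x0 @x1) @x2) → @Decidable (@Eq.{1} _ @x0 @x1)) @(fun x2 => @Decidable.isFalse _ (@Nat.ne_of_beq_eq_false _ _ @x2)) @(fun x2 => @Decidable.isTrue _ (@Nat.eq_of_beq_eq_true _ _ @x2)) (@Nat.beq @x0 @x1) (@Eq.refl.{1} _ (@Nat.beq @x0 @x1)))
private theorem _root_.Cfsg.Agent.KO279af90.e4 : @Nat.decEq = @_root_.Cfsg.Agent.KO279af90.k4 := by delta _root_.Cfsg.Agent.KO279af90.k4; rfl'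
private noncomputable def _root_.Cfsg.Agent.KO279af90.k5 : type_of% @Int.decEq := @(fun x0 x1 => @Int.rec.{1} @(fun x2 => @Decidable (@Eq.{1} _ @x2 @x1)) @(fun x2 => @Int.rec.{1} @(fun x3 => @Decidable (@Eq.{1} _ (@Int.ofNat @x2) @x3)) @(fun x3 => @Decidable.rec.{1} _ @(fun x4 => @Decidable (@Eq.{1} _ (@Int.ofNat @x2) (@Int.ofNat @x3))) @(fun x4 => @Decidable.isFalse _ (@Int.decEq._proof_2 @x2 @x3 @x4)) @(fun x4 => @Decidable.isTrue _ (@Int.decEq._proof_1 @x2 @x3 @x4)) (@Cfsg.Agent.KO279af90.k4 @x2 @x3)) @(fun x3 => @Decidable.isFalse _ (@Int.decEq._proof_3 @x2 @x3)) @x1) @(fun x2 => @Int.rec.{1} @(fun x3 => @Decidable (@Eq.{1} _ (@Int.negSucc @x2) @x3)) @(fun x3 => @Decidable.isFalse _ (@Int.decEq._proof_4 @x2 @x3)) @(fun x3 => @Decidable.rec.{1} _ @(fun x4 => @Decidable (@Eq.{1} _ (@Int.negSucc @x2) (@Int.negSucc @x3))) @(fun x4 => @Decidable.isFalse _ (@Int.decEq._proof_6 @x2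 @x3 @x4)) @(fun x4 => @Decidable.isTrue _ (@Int.decEq._proof_5 @x2 @x3 @x4)) (@Cfsg.Agent.KO279af90.k4 @x2 @x3)) @x1) @x0)
private theorem _root_.Cfsg.Agent.KO279af90.e5 : @Int.decEq = @_root_.Cfsg.Agent.KO279af90.k5 := by delta _root_.Cfsg.Agent.KO279af90.k5; rewrite [← Cfsg.Agent.KO279af90.e4]; rfl'
private noncomputable def _root_.Cfsg.Agent.KO279af90.k6 : (by first | exact type_of% @Cfsg.Agent.KZ.Exc.Gr.fn | exact Unit : Sort _) := by first | (refine @Subtype.val _ (fun g => @Cfsg.Agent.KZ.Exc.Gr.fn = @g) (@Subtype.mk _ _ (@(fun x0 x1 x2 => @Nat.rec.{1} @(fun x3 => @x0) (@x2 (nat_lit 0)) @(fun x3 x4 => @x2 (@Nat.add @x3 (nat_lit 1))) @x1)) ?_); rfl') | exact @Cfsg.Agent.KZ.Exc.Gr.fn | exact ()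
private theorem _root_.Cfsg.Agent.KO279af90.e6 : (by first | exact @Cfsg.Agent.KZ.Exc.Gr.fn = @_root_.Cfsg.Agent.KO279af90.k6 | exact True : Prop) := by first | (delta _root_.Cfsg.Agent.KO279af90.k6; exact @Subtype.property _ (fun g => @Cfsg.Agent.KZ.Exc.Gr.fn = @g) _) | rfl | trivial
private noncomputable def _root_.Cfsg.Agent.KO279af90.k7 : (by first | exact type_of% @Cfsg.Agent.KZ.Exc.Gr.fz | exact Unit : Sort _) := by first | (refine @Subtype.val _ (fun g => @Cfsg.Agent.KZ.Exc.Gr.fz = @g) (@Subtype.mk _ _ (@(fun x0 x1 x2 => @Int.rec.{1} @(fun x3 => @x0) @(fun x3 => @Cfsg.Agent.KO279af90.k6 _ @x3 @(fun x4 => @x2 (@Int.ofNat @x4))) @(fun x3 => @Cfsg.Agent.KO279af90.k6 _ @x3 @(fun x4 => @x2 (@Int.negSucc @x4))) @x1)) ?_); rewrite [← Cfsg.Agent.KO279af90.e6]; (try delta Cfsg.Agent.KZ.Exc.Gr.fz); (try generalize @Cfsg.Agent.KZ.Exc.Gr.fn = g0); rfl') | exact @Cfsg.Agent.KZ.Exc.Gr.fz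 | exact ()
private theorem _root_.Cfsg.Agent.KO279af90.e7 : (by first | exact @Cfsg.Agent.KZ.Exc.Gr.fz = @_root_.Cfsg.Agent.KO279af90.k7 | exact True : Prop) := by first | (delta _root_.Cfsg.Agent.KO279af90.k7; exact @Subtype.property _ (fun g => @Cfsg.Agent.KZ.Exc.Gr.fz = @g) _) | rfl | trivial
private noncomputable def _root_.Cfsg.Agent.KO279af90.k8 : (by first | exact type_of% @Cfsg.Agent.KZ.Exc.Gr.fl | exact Unit : Sort _) := by first | (refine @Subtype.val _ (fun g => @Cfsg.Agent.KZ.Exc.Gr.fl = @g) (@Subtype.mk _ _ (@(fun x0 x1 x2 => @List.rec.{1, 0} ℤ @(fun x3 => ((@List.{0} ℤ) → @x0) → @x0) @(fun x3 => @x3 []) @(fun x3 x4 x5 x6 => @Cfsg.Agent.KO279af90.k7 _ @x3 @(fun x7 => @x5 @(fun x8 => @x6 (@x7 :: @x8)))) @x1 @x2)) ?_); rewrite [← Cfsg.Agent.KO279af90.e7]; funext a0 a1 a2; refine (congrFun (_root_.Cfsg.Agent.KO279af90.e0 (fun a1 a2 => @Cfsg.Agent.KZ.Exc.Gr.fl a0 a1 a2)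 ?_ (fun c0 c1 => ?_) a1) a2 :) <;> ((try delta Cfsg.Agent.KZ.Exc.Gr.fl Cfsg.Agent.KZ.Exc.Gr.fl._f); (try generalize @Cfsg.Agent.KZ.Exc.Gr.fz = g0); rfl')) | exact @Cfsg.Agent.KZ.Exc.Gr.fl | exact ()
private theorem _root_.Cfsg.Agent.KO279af90.e8 : (by first | exact @Cfsg.Agent.KZ.Exc.Gr.fl = @_root_.Cfsg.Agent.KO279af90.k8 | exact True : Prop) := by first | (delta _root_.Cfsg.Agent.KO279af90.k8; exact @Subtype.property _ (fun g => @Cfsg.Agent.KZ.Exc.Gr.fl = @g) _) | rfl | trivial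
private noncomputable def _root_.Cfsg.Agent.KO279af90.k9 : (by first | exact type_of% @Cfsg.Agent.LV.E7.sP | exact Unit : Sort _) := by first | (refine @Subtype.val _ (fun g => @Cfsg.Agent.LV.E7.sP = @g) (@Subtype.mk _ _ (@(fun x0 x1 x2 x3 x4 x5 x6 x7 x8 x9 x10 x11 x12 x13 x14 x15 => @Bool.rec.{1} @(fun x16 => @List.{0} ℤ) (@Bool.rec.{1} @(fun x16 => @List.{0} ℤ) (@Bool.rec.{1} @(fun x16 => @List.{0} ℤ) (@x1 @x2 @x3 @x4 @x5 @x6 @x7 @x8 @x9 @x10 @x11 (@Nat.add @x12 @x14) (@Nat.add @x13 @x15) @x15 @x14) (@x1 @x2 @x3 @x4 @x5 @x6 @x7 @x8 @x9 (@Nat.add @x10 @x12) (@Nat.add @x11 @x13) @x13 @x12 (@Nat.add @x14 @x12) (@Nat.add @x15 @x13)) (@Nat.beq @x0 (nat_lit 5))) (@Bool.rec.{1} @(fun x16 => @List.{0} ℤ) (@x1 @x2 @x3 @x4 @x5 @x6 @x7 (@Nat.add @x8 @x10) (@Nat.add @x9 @x11) @x11 @x10 (@Nat.add @x12 @x10) (@Nat.add @x13 @x11) @x14 @x15) (@x1 @x2 @x3 (@Nat.add @x4 @x8) (@Nat.add @x5 @x9) (@Nat.add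 @x6 @x8) (@Nat.add @x7 @x9) @x9 @x8 (@Nat.add @x10 @x8) (@Nat.add @x11 @x9) @x12 @x13 @x14 @x15) (@Nat.beq @x0 (nat_lit 3))) (@Nat.ble @x0 (nat_lit 4))) (@Bool.rec.{1} @(fun x16 => @List.{0} ℤ) (@Bool.rec.{1} @(fun x16 => @List.{0} ℤ) (@x1 (@Nat.add @x2 @x6) (@Nat.add @x3 @x7) @x4 @x5 @x7 @x6 (@Nat.add @x8 @x6) (@Nat.add @x9 @x7) @x10 @x11 @x12 @x13 @x14 @x15) (@x1 @x2 @x3 @x5 @x4 @x6 @x7 (@Nat.add @x8 @x4) (@Nat.add @x9 @x5) @x10 @x11 @x12 @x13 @x14 @x15) (@Nat.beq @x0 (nat_lit 1))) (@x1 @x3 @x2 @x4 @x5 (@Nat.add @x6 @x2) (@Nat.add @x7 @x3) @x8 @x9 @x10 @x11 @x12 @x13 @x14 @x15) (@Nat.beq @x0 (nat_lit 0))) (@Nat.ble @x0 (nat_lit 2)))) ?_); rfl') | exact @Cfsg.Agent.LV.E7.sP | exact ()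
private theorem _root_.Cfsg.Agent.KO279af90.e9 : (by first | exact @Cfsg.Agent.LV.E7.sP = @_root_.Cfsg.Agent.KO279af90.k9 | exact True : Prop) := by first | (delta _root_.Cfsg.Agent.KO279af90.k9; exact @Subtype.property _ (fun g => @Cfsg.Agent.LV.E7.sP = @g) _) | rfl | trivial
private noncomputable def _root_.Cfsg.Agent.KO279af90.k10 : (by first | exact type_of% @Cfsg.Agent.LV.E7.aP | exact Unit : Sort _) := by first | (refine @Subtype.val _ (fun g => @Cfsg.Agent.LV.E7.aP = @g) (@Subtype.mk _ _ (@(fun x0 => @Nat.rec.{1} @(fun x1 => ℕ → ℕ → ℕ → ℕ → ℕ → ℕ → ℕ → ℕ → ℕ → ℕ → ℕ → ℕ → ℕ → ℕ → ℕ → @List.{0} ℤ) @(fun x1 x2 x3 x4 x5 x6 x7 x8 x9 x10 x11 x12 x13 x14 x15 => @Cfsg.Agent.KO279af90.k8 _ ((@Nat.rec.{1} @(fun x16 => ℤ) (@Int.ofNat (@Nat.sub @x2 @x3)) @(fun x16 x17 => @Int.negSucc @x16) (@Nat.sub @x3 @x2)) :: ((@Nat.rec.{1} @(fun x16 => ℤ) (@Int.ofNat (@Nat.sub @x4 @x5)) @(fun x16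 x17 => @Int.negSucc @x16) (@Nat.sub @x5 @x4)) :: ((@Nat.rec.{1} @(fun x16 => ℤ) (@Int.ofNat (@Nat.sub @x6 @x7)) @(fun x16 x17 => @Int.negSucc @x16) (@Nat.sub @x7 @x6)) :: ((@Nat.rec.{1} @(fun x16 => ℤ) (@Int.ofNat (@Nat.sub @x8 @x9)) @(fun x16 x17 => @Int.negSucc @x16) (@Nat.sub @x9 @x8)) :: ((@Nat.rec.{1} @(fun x16 => ℤ) (@Int.ofNat (@Nat.sub @x10 @x11)) @(fun x16 x17 => @Int.negSucc @x16) (@Nat.sub @x11 @x10)) :: ((@Nat.rec.{1} @(fun x16 => ℤ) (@Int.ofNat (@Nat.sub @x12 @x13)) @(fun x16 x17 => @Int.negSucc @x16) (@Nat.sub @x13 @x12)) :: ((@Nat.rec.{1} @(fun x16 => ℤ) (@Int.ofNat (@Nat.sub @x14 @x15)) @(fun x16 x17 => @Int.negSucc @x16) (@Nat.sub @x15 @x14)) :: []))))))) @(fun x16 => @x16)) @(fun x1 x2 x3 x4 x5 x6 x7 x8 x9 x10 x11 x12 x13 x14 x15 x16 x17 => @Bool.rec.{1} @(fun x18 => @List.{0} ℤ) (@Cfsg.Agent.KO279af90.k9 (@Nat.mod (@Nat.mod @x3 (nat_lit 8)) (nat_lit 7)) (@x2 (@Nat.div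 @x3 (nat_lit 8))) @x4 @x5 @x6 @x7 @x8 @x9 @x10 @x11 @x12 @x13 @x14 @x15 @x16 @x17) (@Cfsg.Agent.KO279af90.k8 _ ((@Nat.rec.{1} @(fun x18 => ℤ) (@Int.ofNat (@Nat.sub @x4 @x5)) @(fun x18 x19 => @Int.negSucc @x18) (@Nat.sub @x5 @x4)) :: ((@Nat.rec.{1} @(fun x18 => ℤ) (@Int.ofNat (@Nat.sub @x6 @x7)) @(fun x18 x19 => @Int.negSucc @x18) (@Nat.sub @x7 @x6)) :: ((@Nat.rec.{1} @(fun x18 => ℤ) (@Int.ofNat (@Nat.sub @x8 @x9)) @(fun x18 x19 => @Int.negSucc @x18) (@Nat.sub @x9 @x8)) :: ((@Nat.rec.{1} @(fun x18 => ℤ) (@Int.ofNat (@Nat.sub @x10 @x11)) @(fun x18 x19 => @Int.negSucc @x18) (@Nat.sub @x11 @x10)) :: ((@Nat.rec.{1} @(fun x18 => ℤ) (@Int.ofNat (@Nat.sub @x12 @x13)) @(fun x18 x19 => @Int.negSucc @x18) (@Nat.sub @x13 @x12)) :: ((@Nat.rec.{1} @(fun x18 => ℤ) (@Int.ofNat (@Nat.sub @x14 @x15)) @(fun x18 x19 => @Int.negSucc @x18) (@Nat.sub @x15 @x14)) :: ((@Nat.rec.{1} @(fun x18 => ℤ) (@Int.ofNat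 (@Nat.sub @x16 @x17)) @(fun x18 x19 => @Int.negSucc @x18) (@Nat.sub @x17 @x16)) :: []))))))) @(fun x18 => @x18)) (@Nat.beq @x3 (nat_lit 0))) @x0)) ?_); rewrite [← Cfsg.Agent.KO279af90.e9, ← Cfsg.Agent.KO279af90.e8]; (try delta Cfsg.Agent.LV.E7.aP); (try generalize @Cfsg.Agent.KZ.Exc.Gr.fl = g0); (try generalize @Cfsg.Agent.LV.E7.sP = g1); rfl') | exact @Cfsg.Agent.LV.E7.aP | exact ()
private theorem _root_.Cfsg.Agent.KO279af90.e10 : (by first | exact @Cfsg.Agent.LV.E7.aP = @_root_.Cfsg.Agent.KO279af90.k10 | exact True : Prop) := by first | (delta _root_.Cfsg.Agent.KO279af90.k10; exact @Subtype.property _ (fun g => @Cfsg.Agent.LV.E7.aP = @g) _) | rfl | trivial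
private noncomputable def _root_.Cfsg.Agent.KO279af90.k12.{ku0} : type_of% @List.get?Internal.{ku0} := @(fun x0 x1 x2 => @List.rec.{(ku0+1), ku0} @x0 @(fun x3 => ℕ → @Option.{ku0} @x0) @(fun x3 => @Option.none.{ku0} _) @(fun x3 x4 x5 x6 => @Nat.rec.{(ku0+1)} @(fun x7 => @Option.{ku0} @x0) (@Option.some.{ku0} _ @x3) @(fun x7 x8 => @x5 @x7) @x6) @x1 @x2)
private theorem _root_.Cfsg.Agent.KO279af90.e12.{ku0} : @List.get?Internal.{ku0} = @_root_.Cfsg.Agent.KO279af90.k12.{ku0} := by delta _root_.Cfsg.Agent.KO279af90.k12; funext a0 a1 a2; refine (congrFun (_root_.Cfsg.Agent.KO279af90.e0 (fun a1 a2 => @List.get?Internal.{ku0} a0 a1 a2) ?_ (fun c0 c1 => ?_) a1) a2 :) <;> [(funext b0; (rfl')); (funext b0; (cases b0 with | @zero  => (rfl') | @succ b0_0 => (rfl')))]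
private noncomputable def _root_.Cfsg.Agent.KO279af90.k13 : (by first | exact type_of% @Cfsg.Agent.LV.E7.ap | exact Unit : Sort _) := by first | (refine @Subtype.val _ (fun g => @Cfsg.Agent.LV.E7.ap = @g) (@Subtype.mk _ _ (@(fun x0 x1 => @Cfsg.Agent.KO279af90.k8 _ @x1 @(fun x2 => @Cfsg.Agent.KO279af90.k10 (nat_lit 64) @x0 (@Int.rec.{1} @(fun x3 => ℕ) @(fun x3 => @x3) @(fun x3 => nat_lit 0) (@Option.rec.{1, 0} ℤ @(fun x3 => ℤ) (@Int.ofNat (nat_lit 0)) @(fun x3 => @x3) (@Cfsg.Agent.KO279af90.k12.{0} _ @x2 (nat_lit 0)))) (@Int.rec.{1} @(fun x3 => ℕ) @(fun x3 => @x3) @(fun x3 => nat_lit 0) (@Int.rec.{1} @(fun x3 => ℤ) @(fun x3 => @Nat.rec.{1} @(fun x4 => ℤ) (@Int.ofNat (nat_lit 0)) @(fun x4 x5 => @Int.negSucc @x4) @x3) @(fun x3 => @Int.ofNat (@Nat.succ @x3)) (@Option.rec.{1, 0} ℤ @(fun x3 => ℤ) (@Int.ofNat (nat_lit 0)) @(fun x3 => @x3) (@Cfsg.Agent.KO279af90.k12.{0} _ @x2 (nat_lit 0)))))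 (@Int.rec.{1} @(fun x3 => ℕ) @(fun x3 => @x3) @(fun x3 => nat_lit 0) (@Option.rec.{1, 0} ℤ @(fun x3 => ℤ) (@Int.ofNat (nat_lit 0)) @(fun x3 => @x3) (@Cfsg.Agent.KO279af90.k12.{0} _ @x2 (nat_lit 1)))) (@Int.rec.{1} @(fun x3 => ℕ) @(fun x3 => @x3) @(fun x3 => nat_lit 0) (@Int.rec.{1} @(fun x3 => ℤ) @(fun x3 => @Nat.rec.{1} @(fun x4 => ℤ) (@Int.ofNat (nat_lit 0)) @(fun x4 x5 => @Int.negSucc @x4) @x3) @(fun x3 => @Int.ofNat (@Nat.succ @x3)) (@Option.rec.{1, 0} ℤ @(fun x3 => ℤ) (@Int.ofNat (nat_lit 0)) @(fun x3 => @x3) (@Cfsg.Agent.KO279af90.k12.{0} _ @x2 (nat_lit 1))))) (@Int.rec.{1} @(fun x3 => ℕ) @(fun x3 => @x3) @(fun x3 => nat_lit 0) (@Option.rec.{1, 0} ℤ @(fun x3 => ℤ) (@Int.ofNat (nat_lit 0)) @(fun x3 => @x3) (@Cfsg.Agent.KO279af90.k12.{0} _ @x2 (nat_lit 2)))) (@Int.rec.{1} @(fun x3 => ℕ) @(fun x3 => @x3) @(fun x3 => nat_lit 0) (@Int.rec.{1} @(fun x3 => ℤ) @(fun x3 => @Nat.rec.{1}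 @(fun x4 => ℤ) (@Int.ofNat (nat_lit 0)) @(fun x4 x5 => @Int.negSucc @x4) @x3) @(fun x3 => @Int.ofNat (@Nat.succ @x3)) (@Option.rec.{1, 0} ℤ @(fun x3 => ℤ) (@Int.ofNat (nat_lit 0)) @(fun x3 => @x3) (@Cfsg.Agent.KO279af90.k12.{0} _ @x2 (nat_lit 2))))) (@Int.rec.{1} @(fun x3 => ℕ) @(fun x3 => @x3) @(fun x3 => nat_lit 0) (@Option.rec.{1, 0} ℤ @(fun x3 => ℤ) (@Int.ofNat (nat_lit 0)) @(fun x3 => @x3) (@Cfsg.Agent.KO279af90.k12.{0} _ @x2 (nat_lit 3)))) (@Int.rec.{1} @(fun x3 => ℕ) @(fun x3 => @x3) @(fun x3 => nat_lit 0) (@Int.rec.{1} @(fun x3 => ℤ) @(fun x3 => @Nat.rec.{1} @(fun x4 => ℤ) (@Int.ofNat (nat_lit 0)) @(fun x4 x5 => @Int.negSucc @x4) @x3) @(fun x3 => @Int.ofNat (@Nat.succ @x3)) (@Option.rec.{1, 0} ℤ @(fun x3 => ℤ) (@Int.ofNat (nat_lit 0)) @(fun x3 => @x3) (@Cfsg.Agent.KO279af90.k12.{0} _ @x2 (nat_lit 3))))) (@Int.rec.{1} @(fun x3 => ℕ) @(fun x3 => @x3) @(fun x3 => nat_lit 0)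 (@Option.rec.{1, 0} ℤ @(fun x3 => ℤ) (@Int.ofNat (nat_lit 0)) @(fun x3 => @x3) (@Cfsg.Agent.KO279af90.k12.{0} _ @x2 (nat_lit 4)))) (@Int.rec.{1} @(fun x3 => ℕ) @(fun x3 => @x3) @(fun x3 => nat_lit 0) (@Int.rec.{1} @(fun x3 => ℤ) @(fun x3 => @Nat.rec.{1} @(fun x4 => ℤ) (@Int.ofNat (nat_lit 0)) @(fun x4 x5 => @Int.negSucc @x4) @x3) @(fun x3 => @Int.ofNat (@Nat.succ @x3)) (@Option.rec.{1, 0} ℤ @(fun x3 => ℤ) (@Int.ofNat (nat_lit 0)) @(fun x3 => @x3) (@Cfsg.Agent.KO279af90.k12.{0} _ @x2 (nat_lit 4))))) (@Int.rec.{1} @(fun x3 => ℕ) @(fun x3 => @x3) @(fun x3 => nat_lit 0) (@Option.rec.{1, 0} ℤ @(fun x3 => ℤ) (@Int.ofNat (nat_lit 0)) @(fun x3 => @x3) (@Cfsg.Agent.KO279af90.k12.{0} _ @x2 (nat_lit 5)))) (@Int.rec.{1} @(fun x3 => ℕ) @(fun x3 => @x3) @(fun x3 => nat_lit 0) (@Int.rec.{1} @(fun x3 => ℤ) @(fun x3 => @Nat.rec.{1} @(fun x4 => ℤ) (@Int.ofNat (nat_lit 0)) @(fun x4 x5 => @Int.negSucc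 @x4) @x3) @(fun x3 => @Int.ofNat (@Nat.succ @x3)) (@Option.rec.{1, 0} ℤ @(fun x3 => ℤ) (@Int.ofNat (nat_lit 0)) @(fun x3 => @x3) (@Cfsg.Agent.KO279af90.k12.{0} _ @x2 (nat_lit 5))))) (@Int.rec.{1} @(fun x3 => ℕ) @(fun x3 => @x3) @(fun x3 => nat_lit 0) (@Option.rec.{1, 0} ℤ @(fun x3 => ℤ) (@Int.ofNat (nat_lit 0)) @(fun x3 => @x3) (@Cfsg.Agent.KO279af90.k12.{0} _ @x2 (nat_lit 6)))) (@Int.rec.{1} @(fun x3 => ℕ) @(fun x3 => @x3) @(fun x3 => nat_lit 0) (@Int.rec.{1} @(fun x3 => ℤ) @(fun x3 => @Nat.rec.{1} @(fun x4 => ℤ) (@Int.ofNat (nat_lit 0)) @(fun x4 x5 => @Int.negSucc @x4) @x3) @(fun x3 => @Int.ofNat (@Nat.succ @x3)) (@Option.rec.{1, 0} ℤ @(fun x3 => ℤ) (@Int.ofNat (nat_lit 0)) @(fun x3 => @x3) (@Cfsg.Agent.KO279af90.k12.{0} _ @x2 (nat_lit 6)))))))) ?_); rewrite [← Cfsg.Agent.KO279af90.e12.{0}, ← Cfsg.Agent.KO279af90.e10, ← Cfsg.Agent.KO279af90.e8]; (try delta Cfsg.Agent.LV.E7.ap);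 (try generalize @Cfsg.Agent.KZ.Exc.Gr.fl = g0); (try generalize @Cfsg.Agent.LV.E7.aP = g1); rfl') | exact @Cfsg.Agent.LV.E7.ap | exact ()
private theorem _root_.Cfsg.Agent.KO279af90.e13 : (by first | exact @Cfsg.Agent.LV.E7.ap = @_root_.Cfsg.Agent.KO279af90.k13 | exact True : Prop) := by first | (delta _root_.Cfsg.Agent.KO279af90.k13; exact @Subtype.property _ (fun g => @Cfsg.Agent.LV.E7.ap = @g) _) | rfl | trivial
private theorem _root_.Cfsg.Agent.KO279af90.e14.{ku} {M : Nat → Sort ku} (φ : ∀ n, M n) {z : M Nat.zero} {s : ∀ n, M n → M (Nat.succ n)} (h0 : φ Nat.zero = z) (hs : ∀ n, φ (Nat.succ n) = s n (φ n)) (n : Nat) : φ n = @Nat.rec M z s n := Nat.rec h0 (fun n ih => (hs n).trans (congrArg (s n) ih)) n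
private noncomputable def _root_.Cfsg.Agent.KO279af90.k15.{ku0} : type_of% @Fin.foldr.loop.{ku0} := @(fun x0 x1 x2 x3 x4 x5 => @Nat.rec.{ku0} @(fun x6 => (@LE.le.{0} _ _ @x6 @x1) → @x0 → @x0) @(fun x6 x7 => @x7) @(fun x6 x7 x8 x9 => @x7 (@Nat.le_of_lt _ _ @x8) (@x2 (@Fin.mk _ @x6 @x8) @x9)) @x3 @x4 @x5)
private theorem _root_.Cfsg.Agent.KO279af90.e15.{ku0} : @Fin.foldr.loop.{ku0} = @_root_.Cfsg.Agent.KO279af90.k15.{ku0} := by delta _root_.Cfsg.Agent.KO279af90.k15; funext a0 a1 a2 a3 a4 a5; refine (congrFun (congrFun (_root_.Cfsg.Agent.KO279af90.e14 (fun a3 a4 a5 => @Fin.foldr.loop.{ku0} a0 a1 a2 a3 a4 a5) ?_ (fun c0 => ?_) a3) a4) a5 :) <;> (rfl')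
private noncomputable def _root_.Cfsg.Agent.KO279af90.k16.{ku0} : type_of% @Fin.induction.go.{ku0} := @(fun x0 x1 x2 x3 x4 x5 => @Nat.rec.{ku0} @(fun x6 => (x7 : @LT.lt.{0} _ _ @x6 (@HAdd.hAdd.{0, 0, 0} _ _ _ _ @x0 ((1 : ℕ)))) → @x1 (@Fin.mk _ @x6 @x7)) @(fun x6 => @Eq.rec.{ku0, (ku0+1)} (Sort ku0) (@x1 (@OfNat.ofNat.{0} _ (nat_lit 0) _)) @(fun x7 x8 => @x7) @x2 (@x1 (@Fin.mk _ ((0 : ℕ)) @x6)) (@Eq.symm.{(ku0+1)} _ _ _ (@Fin.induction.go._proof_1.{ku0} _ _ @x6))) @(fun x6 x7 x8 => @x3 (@Fin.mk _ @x6 (@Nat.lt_of_succ_lt_succ _ _ @x8)) (@x7 (@Fin.induction.go._proof_2 _ @x6 @x8))) @x4 @x5)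
private theorem _root_.Cfsg.Agent.KO279af90.e16.{ku0} : @Fin.induction.go.{ku0} = @_root_.Cfsg.Agent.KO279af90.k16.{ku0} := by delta _root_.Cfsg.Agent.KO279af90.k16; funext a0 a1 a2 a3 a4 a5; refine (congrFun (_root_.Cfsg.Agent.KO279af90.e14 (fun a4 a5 => @Fin.induction.go.{ku0} a0 a1 a2 a3 a4 a5) ?_ (fun c0 => ?_) a4) a5 :) <;> (rfl')
private noncomputable def _root_.Cfsg.Agent.KO279af90.k17.{ku0} : type_of% @Fin.induction.{ku0} := @(fun x0 x1 x2 x3 x4 => @Fin.rec.{ku0} (@Nat.add @x0 (nat_lit 1)) @(fun x5 => @x1 @x5) @(fun x5 x6 => @Cfsg.Agent.KO279af90.k16.{ku0} _ _ @x2 @x3 @x5 @x6) @x4)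
private theorem _root_.Cfsg.Agent.KO279af90.e17.{ku0} : @Fin.induction.{ku0} = @_root_.Cfsg.Agent.KO279af90.k17.{ku0} := by delta _root_.Cfsg.Agent.KO279af90.k17; rewrite [← Cfsg.Agent.KO279af90.e16.{ku0}]; rfl'
private noncomputable def _root_.Cfsg.Agent.KO279af90.k18.{ku0} : type_of% @Fin.cases.{ku0} := @(fun x0 x1 x2 x3 x4 => @Cfsg.Agent.KO279af90.k17.{ku0} _ @(fun x5 => @x1 @x5) @x2 @(fun x5 x6 => @x3 @x5) @x4)
private theorem _root_.Cfsg.Agent.KO279af90.e18.{ku0} : @Fin.cases.{ku0} = @_root_.Cfsg.Agent.KO279af90.k18.{ku0} := by delta _root_.Cfsg.Agent.KO279af90.k18; rewrite [← Cfsg.Agent.KO279af90.e17.{ku0}]; rfl'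
private noncomputable def _root_.Cfsg.Agent.KO279af90.k19.{ku0} : type_of% @Fin.cons.{ku0} := @(fun x0 x1 x2 x3 x4 => @Cfsg.Agent.KO279af90.k18.{ku0} _ @(fun x5 => @x1 @x5) @x2 @x3 @x4)
private theorem _root_.Cfsg.Agent.KO279af90.e19.{ku0} : @Fin.cons.{ku0} = @_root_.Cfsg.Agent.KO279af90.k19.{ku0} := by delta _root_.Cfsg.Agent.KO279af90.k19; rewrite [← Cfsg.Agent.KO279af90.e18.{ku0}]; rfl'
private noncomputable def _root_.Cfsg.Agent.KO279af90.k20.{ku0} : type_of% @Fin.elim0.{ku0} := @(fun x0 x1 => @Fin.rec.{ku0} (nat_lit 0) @(fun x2 => @x0) @(fun x2 x3 => @False.rec.{ku0} @(fun x4 => @x0) (@Nat.not_lt_zero @x2 @x3)) @x1)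
private theorem _root_.Cfsg.Agent.KO279af90.e20.{ku0} : @Fin.elim0.{ku0} = @_root_.Cfsg.Agent.KO279af90.k20.{ku0} := by delta _root_.Cfsg.Agent.KO279af90.k20; rfl'
private noncomputable def _root_.Cfsg.Agent.KO279af90.k21 : (by first | exact type_of% @Cfsg.Agent.LV.E7.y0 | exact Unit : Sort _) := by first | (refine @Subtype.val _ (fun g => @Cfsg.Agent.LV.E7.y0 = @g) (@Subtype.mk _ _ (@Cfsg.Agent.KO279af90.k19.{1} (nat_lit 6) @(fun (x0 : @Fin (@Nat.succ (@OfNat.ofNat.{0} @Nat (nat_lit 6) (@instOfNatNat (nat_lit 6))))) => @Int) (@Int.ofNat (nat_lit 1)) (@Cfsg.Agent.KO279af90.k19.{1} (nat_lit 5) @(fun (x0 : @Fin (@Nat.succ (@OfNat.ofNat.{0} @Nat (nat_lit 5) (@instOfNatNat (nat_lit 5))))) => @Int) (@Int.ofNat (nat_lit 0)) (@Cfsg.Agent.KO279af90.k19.{1} (nat_lit 4) @(fun (x0 : @Fin (@Nat.succ (@OfNat.ofNat.{0} @Nat (nat_lit 4) (@instOfNatNat (nat_lit 4))))) => @Int) (@Int.ofNat (nat_lit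 0)) (@Cfsg.Agent.KO279af90.k19.{1} (nat_lit 3) @(fun (x0 : @Fin (@Nat.succ (@OfNat.ofNat.{0} @Nat (nat_lit 3) (@instOfNatNat (nat_lit 3))))) => @Int) (@Int.ofNat (nat_lit 0)) (@Cfsg.Agent.KO279af90.k19.{1} (nat_lit 2) @(fun (x0 : @Fin (@Nat.succ (@OfNat.ofNat.{0} @Nat (nat_lit 2) (@instOfNatNat (nat_lit 2))))) => @Int) (@Int.ofNat (nat_lit 0)) (@Cfsg.Agent.KO279af90.k19.{1} (nat_lit 1) @(fun (x0 : @Fin (@Nat.succ (@OfNat.ofNat.{0} @Nat (nat_lit 1) (@instOfNatNat (nat_lit 1))))) => @Int) (@Int.ofNat (nat_lit 1)) (@Cfsg.Agent.KO279af90.k19.{1} (nat_lit 0) @(fun (x0 : @Fin (@Nat.succ (@OfNat.ofNat.{0} @Nat (nat_lit 0) (@instOfNatNat (nat_lit 0))))) => @Int) (@Int.ofNat (nat_lit 0)) (@Cfsg.Agent.KO279af90.k20.{1} @Int)))))))) ?_); rewrite [← Cfsg.Agent.KO279af90.e20.{1}, ← Cfsg.Agent.KO279af90.e19.{1}]; rfl') | exact @Cfsg.Agent.LV.E7.y0 | exact ()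
private theorem _root_.Cfsg.Agent.KO279af90.e21 : (by first | exact @Cfsg.Agent.LV.E7.y0 = @_root_.Cfsg.Agent.KO279af90.k21 | exact True : Prop) := by first | (delta _root_.Cfsg.Agent.KO279af90.k21; exact @Subtype.property _ (fun g => @Cfsg.Agent.LV.E7.y0 = @g) _) | rfl | trivial
private noncomputable def _root_.Cfsg.Agent.KO279af90.k22 : (by first | exact type_of% @Cfsg.Agent.LV.E7.ck1 | exact Unit : Sort _) := by first | (refine @Subtype.val _ (fun g => @Cfsg.Agent.LV.E7.ck1 = @g) (@Subtype.mk _ _ (@(fun x0 => @Bool.rec.{1} @(fun x1 => @Bool) @Bool.false (@Cfsg.Agent.KO279af90.k3.{0} _ (@BEq.mk.{0} _ @(fun x1 x2 => @Decidable.rec.{1} _ @(fun x3 => @Bool) @(fun x3 => @Bool.false) @(fun x3 => @Bool.true) (@Cfsg.Agent.KO279af90.k5 @x1 @x2))) (@Cfsg.Agent.KO279af90.k13 (@Prod.fst.{0, 0} _ _ @x0) (@Cfsg.Agent.KO279af90.k13 @Cfsg.Agent.LV.E7.n0 (@Cfsg.Agent.KO279af90.k13 (@Prod.fst.{0,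 0} _ _ (@Prod.snd.{0, 0} _ _ @x0)) (@Cfsg.Agent.KO279af90.k15.{1} _ (nat_lit 7) @(fun x1 x2 => (@Int.ofNat (nat_lit 1)) :: @x2) (nat_lit 7) (@Nat.le_refl ((7 : ℕ))) [])))) (@Cfsg.Agent.KO279af90.k13 (@Prod.fst.{0, 0} _ _ (@Prod.snd.{0, 0} _ _ @x0)) (@Cfsg.Agent.KO279af90.k13 (@Option.rec.{1, 0} ℕ @(fun x1 => ℕ) (nat_lit 0) @(fun x1 => @x1) (@Cfsg.Agent.KO279af90.k12.{0} _ @Cfsg.Agent.LV.E7.gk (@Prod.snd.{0, 0} _ _ (@Prod.snd.{0, 0} _ _ @x0)))) (@Cfsg.Agent.KO279af90.k13 @Cfsg.Agent.LV.E7.n0 (@Cfsg.Agent.KO279af90.k15.{1} _ (nat_lit 7) @(fun x1 x2 => (@Int.ofNat (nat_lit 1)) :: @x2) (nat_lit 7) (@Nat.le_refl ((7 : ℕ))) []))))) (@Bool.rec.{1} @(fun x1 => @Bool) @Bool.false (@Nat.ble (@Nat.succ (@Prod.snd.{0, 0} _ _ (@Prod.snd.{0, 0} _ _ @x0))) (nat_lit 18)) (@Bool.rec.{1} @(fun x1 => @Bool) @Bool.false (@Cfsg.Agent.KO279af90.k3.{0} _ (@BEq.mk.{0} _ @(fun x1 x2 => @Decidable.rec.{1}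 _ @(fun x3 => @Bool) @(fun x3 => @Bool.false) @(fun x3 => @Bool.true) (@Cfsg.Agent.KO279af90.k5 @x1 @x2))) (@Cfsg.Agent.KO279af90.k13 (@Prod.fst.{0, 0} _ _ (@Prod.snd.{0, 0} _ _ @x0)) (@Cfsg.Agent.KO279af90.k15.{1} _ (nat_lit 7) @(fun x1 x2 => (@Cfsg.Agent.KO279af90.k21 @x1) :: @x2) (nat_lit 7) (@Nat.le_refl ((7 : ℕ))) [])) (@Cfsg.Agent.KO279af90.k15.{1} _ (nat_lit 7) @(fun x1 x2 => (@Cfsg.Agent.KO279af90.k21 @x1) :: @x2) (nat_lit 7) (@Nat.le_refl ((7 : ℕ))) [])) (@Cfsg.Agent.KO279af90.k3.{0} _ (@BEq.mk.{0} _ @(fun x1 x2 => @Decidable.rec.{1} _ @(fun x3 => @Bool) @(fun x3 => @Bool.false) @(fun x3 => @Bool.true) (@Cfsg.Agent.KO279af90.k5 @x1 @x2))) (@Cfsg.Agent.KO279af90.k13 (@Prod.fst.{0, 0} _ _ @x0) (@Cfsg.Agent.KO279af90.k15.{1} _ (nat_lit 7) @(fun x1 x2 => (@Cfsg.Agent.KO279af90.k21 @x1) :: @x2) (nat_lit 7) (@Nat.le_refl ((7 : ℕ))) [])) (@Cfsg.Agent.KO279af90.k15.{1} _ (nat_lit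 7) @(fun x1 x2 => (@Cfsg.Agent.KO279af90.k21 @x1) :: @x2) (nat_lit 7) (@Nat.le_refl ((7 : ℕ))) [])))))) ?_); rewrite [← Cfsg.Agent.KO279af90.e21, ← Cfsg.Agent.KO279af90.e12.{0}, ← Cfsg.Agent.KO279af90.e15.{1}, ← Cfsg.Agent.KO279af90.e13, ← Cfsg.Agent.KO279af90.e5, ← Cfsg.Agent.KO279af90.e3.{0}]; (try delta Cfsg.Agent.LV.E7.ck1 Cfsg.Agent.LV.E7.ro); (try generalize @Cfsg.Agent.LV.E7.ap = g0); (try generalize @Cfsg.Agent.LV.E7.n0 = g1); (try generalize @Cfsg.Agent.LV.E7.gk = g2); (try generalize @Cfsg.Agent.LV.E7.y0 = g3); rfl') | exact @Cfsg.Agent.LV.E7.ck1 | exact ()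
private theorem _root_.Cfsg.Agent.KO279af90.e22 : (by first | exact @Cfsg.Agent.LV.E7.ck1 = @_root_.Cfsg.Agent.KO279af90.k22 | exact True : Prop) := by first | (delta _root_.Cfsg.Agent.KO279af90.k22; exact @Subtype.property _ (fun g => @Cfsg.Agent.LV.E7.ck1 = @g) _) | rfl | trivial

theorem chk1 : tb.all ck1 = true := by (first | (rewrite [Cfsg.Agent.KO279af90.e1.{0}, Cfsg.Agent.KO279af90.e22]; decide +kernel) | decide +kernel)

private noncomputable def _root_.Cfsg.Agent.KO279af90.k23.{ku0, ku1} : type_of% @List.map.{ku0, ku1} := @(fun x0 x1 x2 x3 => @List.rec.{(ku1+1), ku0} @x0 @(fun x4 => @List.{ku1} @x1) [] @(fun x4 x5 x6 => (@x2 @x4) :: @x6) @x3)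
private theorem _root_.Cfsg.Agent.KO279af90.e23.{ku0, ku1} : @List.map.{ku0, ku1} = @_root_.Cfsg.Agent.KO279af90.k23.{ku0, ku1} := by delta _root_.Cfsg.Agent.KO279af90.k23; funext a0 a1 a2 a3; refine (_root_.Cfsg.Agent.KO279af90.e0 (fun a3 => @List.map.{ku0, ku1} a0 a1 a2 a3) ?_ (fun c0 c1 => ?_) a3 :) <;> (rfl')
private noncomputable def _root_.Cfsg.Agent.KO279af90.k24 : (by first | exact type_of% @Cfsg.Agent.LV.E7.enc | exact Unit : Sort _) := by first | (refine @Subtype.val _ (fun g => @Cfsg.Agent.LV.E7.enc = @g) (@Subtype.mk _ _ (@(fun x0 => @List.rec.{1, 0} ℤ @(fun x1 => ℕ) (nat_lit 0) @(fun x1 x2 x3 => @Cfsg.Agent.KO279af90.k6 _ (@Int.rec.{1} @(fun x4 => ℕ) @(fun x4 => @Nat.mul (nat_lit 2) @x4) @(fun x4 => @Nat.succ (@Nat.mul (nat_lit 2) @x4)) @x1) @(fun x4 => @Cfsg.Agent.KO279af90.k6 _ @x3 @(fun x5 => @Nat.succ (@Bool.rec.{1} @(fun x6 => ℕ) (@Nat.add (@Nat.mul @x5 @x5) @x4)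 (@Nat.add (@Nat.add (@Nat.mul @x4 @x4) @x4) @x5) (@Nat.ble @x5 @x4))))) @x0)) ?_); rewrite [← Cfsg.Agent.KO279af90.e6]; (try delta Cfsg.Agent.LV.E7.enc); (try generalize @Cfsg.Agent.KZ.Exc.Gr.fn = g0); rfl') | exact @Cfsg.Agent.LV.E7.enc | exact ()
private theorem _root_.Cfsg.Agent.KO279af90.e24 : (by first | exact @Cfsg.Agent.LV.E7.enc = @_root_.Cfsg.Agent.KO279af90.k24 | exact True : Prop) := by first | (delta _root_.Cfsg.Agent.KO279af90.k24; exact @Subtype.property _ (fun g => @Cfsg.Agent.LV.E7.enc = @g) _) | rfl | trivial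
private noncomputable def _root_.Cfsg.Agent.KO279af90.k25.{ku0} : type_of% @List.ofFn.{ku0} := @(fun x0 x1 x2 => @Cfsg.Agent.KO279af90.k15.{(ku0+1)} _ @x1 @(fun x3 x4 => (@x2 @x3) :: @x4) @x1 (@Nat.le_refl @x1) [])
private theorem _root_.Cfsg.Agent.KO279af90.e25.{ku0} : @List.ofFn.{ku0} = @_root_.Cfsg.Agent.KO279af90.k25.{ku0} := by delta _root_.Cfsg.Agent.KO279af90.k25; rewrite [← Cfsg.Agent.KO279af90.e15.{(ku0+1)}]; rfl'
private noncomputable def _root_.Cfsg.Agent.KO279af90.k26 : (by first | exact type_of% @Cfsg.Agent.LV.E7.ro | exact Unit : Sort _) := by first | (refine @Subtype.val _ (fun g => @Cfsg.Agent.LV.E7.ro = @g) (@Subtype.mk _ _ (@(fun x0 => @Int.ofNat (nat_lit 1))) ?_); rfl') | exact @Cfsg.Agent.LV.E7.ro | exact ()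
private theorem _root_.Cfsg.Agent.KO279af90.e26 : (by first | exact @Cfsg.Agent.LV.E7.ro = @_root_.Cfsg.Agent.KO279af90.k26 | exact True : Prop) := by first | (delta _root_.Cfsg.Agent.KO279af90.k26; exact @Subtype.property _ (fun g => @Cfsg.Agent.LV.E7.ro = @g) _) | rfl | trivial
private noncomputable def _root_.Cfsg.Agent.KO279af90.k27 : (by first | exact type_of% @Cfsg.Agent.LV.E7.fN | exact Unit : Sort _) := by first | (refine @Subtype.val _ (fun g => @Cfsg.Agent.LV.E7.fN = @g) (@Subtype.mk _ _ (@(fun x0 x1 => @List.rec.{1, 0} ℕ @(fun x2 => ((@List.{0} ℕ) → @x0) → @x0) @(fun x2 => @x2 []) @(fun x2 x3 x4 x5 => @Cfsg.Agent.KO279af90.k6 _ @x2 @(fun x6 => @x4 @(fun x7 => @x5 (@x6 :: @x7)))) @x1)) ?_); rewrite [← Cfsg.Agent.KO279af90.e6]; (try delta Cfsg.Agent.LV.E7.fN); (try generalize @Cfsg.Agent.KZ.Exc.Gr.fn = g0); rfl') | exact @Cfsg.Agent.LV.E7.fN | exact ()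
private theorem _root_.Cfsg.Agent.KO279af90.e27 : (by first | exact @Cfsg.Agent.LV.E7.fN = @_root_.Cfsg.Agent.KO279af90.k27 | exact True : Prop) := by first | (delta _root_.Cfsg.Agent.KO279af90.k27; exact @Subtype.property _ (fun g => @Cfsg.Agent.LV.E7.fN = @g) _) | rfl | trivial
private noncomputable def _root_.Cfsg.Agent.KO279af90.k28 : type_of% @Bool.and := @(fun x0 x1 => @Bool.rec.{1} @(fun x2 => @Bool) @Bool.false @x1 @x0)
private theorem _root_.Cfsg.Agent.KO279af90.e28 : @Bool.and = @_root_.Cfsg.Agent.KO279af90.k28 := by delta _root_.Cfsg.Agent.KO279af90.k28; rfl'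
private noncomputable def _root_.Cfsg.Agent.KO279af90.k30.{ku0, ku1, ku2} : type_of% @List.zipWith.{ku0, ku1, ku2} := @(fun x0 x1 x2 x3 x4 x5 => @List.rec.{(max (ku1+1) (ku2+1)), ku0} @x0 @(fun x6 => (@List.{ku1} @x1) → @List.{ku2} @x2) @(fun x6 => []) @(fun x6 x7 x8 x9 => @List.rec.{(ku2+1), ku1} @x1 @(fun x10 => @List.{ku2} @x2) [] @(fun x10 x11 x12 => (@x3 @x6 @x10) :: (@x8 @x11)) @x9) @x4 @x5)
private theorem _root_.Cfsg.Agent.KO279af90.e30.{ku0, ku1, ku2} : @List.zipWith.{ku0, ku1, ku2} = @_root_.Cfsg.Agent.KO279af90.k30.{ku0, ku1, ku2} := by delta _root_.Cfsg.Agent.KO279af90.k30; funext a0 a1 a2 a3 a4 a5; refine (congrFun (_root_.Cfsg.Agent.KO279af90.e0 (fun a4 a5 => @List.zipWith.{ku0, ku1, ku2} a0 a1 a2 a3 a4 a5) ?_ (fun c0 c1 => ?_) a4) a5 :) <;> [(funext b0; (rfl')); (funext b0; (cases b0 with | @nil  => (rfl') | @cons b0_0 b0_1 => (rfl')))]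
private noncomputable def _root_.Cfsg.Agent.KO279af90.k31 : type_of% @Int.add := @(fun x0 x1 => @Int.rec.{1} @(fun x2 => ℤ) @(fun x2 => @Int.rec.{1} @(fun x3 => ℤ) @(fun x3 => @Int.ofNat (@Nat.add @x2 @x3)) @(fun x3 => @Nat.rec.{1} @(fun x4 => ℤ) (@Int.ofNat (@Nat.sub @x2 (@Nat.succ @x3))) @(fun x4 x5 => @Int.negSucc @x4) (@Nat.sub (@Nat.succ @x3) @x2)) @x1) @(fun x2 => @Int.rec.{1} @(fun x3 => ℤ) @(fun x3 => @Nat.rec.{1} @(fun x4 => ℤ) (@Int.ofNat (@Nat.sub @x3 (@Nat.succ @x2))) @(fun x4 x5 => @Int.negSucc @x4) (@Nat.sub (@Nat.succ @x2) @x3)) @(fun x3 => @Int.negSucc (@Nat.succ (@Nat.add @x2 @x3))) @x1) @x0)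
private theorem _root_.Cfsg.Agent.KO279af90.e31 : @Int.add = @_root_.Cfsg.Agent.KO279af90.k31 := by delta _root_.Cfsg.Agent.KO279af90.k31; rfl'
private noncomputable def _root_.Cfsg.Agent.KO279af90.k32 : type_of% @Int.mul := @(fun x0 x1 => @Int.rec.{1} @(fun x2 => ℤ) @(fun x2 => @Int.rec.{1} @(fun x3 => ℤ) @(fun x3 => @Int.ofNat (@Nat.mul @x2 @x3)) @(fun x3 => @Nat.rec.{1} @(fun x4 => ℤ) (@Int.ofNat (nat_lit 0)) @(fun x4 x5 => @Int.negSucc @x4) (@Nat.mul @x2 (@Nat.succ @x3))) @x1) @(fun x2 => @Int.rec.{1} @(fun x3 => ℤ) @(fun x3 => @Nat.rec.{1} @(fun x4 => ℤ) (@Int.ofNat (nat_lit 0)) @(fun x4 x5 => @Int.negSucc @x4) (@Nat.mul (@Nat.succ @x2) @x3)) @(fun x3 => @Int.ofNat (@Nat.mul (@Nat.succ @x2) (@Nat.succ @x3))) @x1) @x0)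
private theorem _root_.Cfsg.Agent.KO279af90.e32 : @Int.mul = @_root_.Cfsg.Agent.KO279af90.k32 := by delta _root_.Cfsg.Agent.KO279af90.k32; rfl'
private noncomputable def _root_.Cfsg.Agent.KO279af90.k33 : (by first | exact type_of% @Cfsg.Agent.KZ.DatX.refL | exact Unit : Sort _) := by first | (refine @Subtype.val _ (fun g => @Cfsg.Agent.KZ.DatX.refL = @g) (@Subtype.mk _ _ (@(fun x0 x1 x2 => @Cfsg.Agent.KO279af90.k30.{0, 0, 0} _ _ _ @(fun x3 x4 => @Cfsg.Agent.KO279af90.k31 @x3 (@Int.rec.{1} @(fun x5 => ℤ) @(fun x5 => @Nat.rec.{1} @(fun x6 => ℤ) (@Int.ofNat (nat_lit 0)) @(fun x6 x7 => @Int.negSucc @x6) @x5) @(fun x5 => @Int.ofNat (@Nat.succ @x5)) (@Cfsg.Agent.KO279af90.k32 (@Option.rec.{1, 0} ℤ @(fun x5 => ℤ) (@Int.ofNat (nat_lit 0)) @(fun x5 => @x5) (@Cfsg.Agent.KO279af90.k12.{0} _ @x2 @x1)) @x4))) @x2 (@Option.rec.{1, 0} (@List.{0} ℤ) @(fun x3 => @List.{0} ℤ) [] @(fun x3 => @x3) (@Cfsg.Agent.KO279af90.k12.{0}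 _ @x0 @x1)))) ?_); rewrite [← Cfsg.Agent.KO279af90.e12.{0}, ← Cfsg.Agent.KO279af90.e32, ← Cfsg.Agent.KO279af90.e31, ← Cfsg.Agent.KO279af90.e30.{0, 0, 0}]; rfl') | exact @Cfsg.Agent.KZ.DatX.refL | exact ()
private theorem _root_.Cfsg.Agent.KO279af90.e33 : (by first | exact @Cfsg.Agent.KZ.DatX.refL = @_root_.Cfsg.Agent.KO279af90.k33 | exact True : Prop) := by first | (delta _root_.Cfsg.Agent.KO279af90.k33; exact @Subtype.property _ (fun g => @Cfsg.Agent.KZ.DatX.refL = @g) _) | rfl | trivial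

theorem chk2 : ck2 = true := by (first | (delta Cfsg.Agent.LV.E7.ck2 Cfsg.Agent.LV.E7.ks; rewrite [Cfsg.Agent.KO279af90.e27, Cfsg.Agent.KO279af90.e23.{0, 0}, Cfsg.Agent.KO279af90.e24, Cfsg.Agent.KO279af90.e13, Cfsg.Agent.KO279af90.e25.{0}, Cfsg.Agent.KO279af90.e26, Cfsg.Agent.KO279af90.e28, Cfsg.Agent.KO279af90.e1.{0}, Cfsg.Agent.KO279af90.e8, Cfsg.Agent.KO279af90.e6, Cfsg.Agent.KO279af90.e33]; decide +kernel) | decide +kernel)

/-- the entries which map `μ` to `lam` -/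
noncomputable def cl (μ lam : Fin 7 → ℤ) : List ℕ := (tb.filter fun t => ap t.1 (List.ofFn μ) == List.ofFn lam).map (·.2.2)

private noncomputable def _root_.Cfsg.Agent.KO279af90.k34 : type_of% @Decidable.decide := @(fun x0 x1 => @Decidable.rec.{1} _ @(fun x2 => @Bool) @(fun x2 => @Bool.false) @(fun x2 => @Bool.true) @x1)
private theorem _root_.Cfsg.Agent.KO279af90.e34 : @Decidable.decide = @_root_.Cfsg.Agent.KO279af90.k34 := by delta _root_.Cfsg.Agent.KO279af90.k34; rfl'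
private noncomputable def _root_.Cfsg.Agent.KO279af90.k35 : type_of% @instDecidableAnd := @(fun x0 x1 x2 x3 => @Decidable.rec.{1} _ @(fun x4 => @Decidable (@And @x0 @x1)) @(fun x4 => @Decidable.isFalse _ (@instDecidableAnd._proof_2 _ _ @x4)) @(fun x4 => @Decidable.rec.{1} _ @(fun x5 => @Decidable (@And @x0 @x1)) @(fun x5 => @Decidable.isFalse _ (@instDecidableAnd._proof_1 _ _ @x5)) @(fun x5 => @Decidable.isTrue _ (@And.intro _ _ @x4 @x5)) @x3) @x2)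
private theorem _root_.Cfsg.Agent.KO279af90.e35 : @instDecidableAnd = @_root_.Cfsg.Agent.KO279af90.k35 := by delta _root_.Cfsg.Agent.KO279af90.k35; rfl'
private noncomputable def _root_.Cfsg.Agent.KO279af90.k37.{ku0} : type_of% @List.hasDecEq.{ku0} := @(fun x0 x1 x2 x3 => @List.rec.{(ku0+1), ku0} @x0 @(fun x4 => (x5 : @List.{ku0} @x0) → @Decidable (@Eq.{(ku0+1)} _ @x4 @x5)) @(fun x4 => @List.rec.{1, ku0} @x0 @(fun x5 => @Decidable (@Eq.{(ku0+1)} _ [] @x5)) (@Decidable.isTrue _ (@List.hasDecEq._proof_1.{ku0} _)) @(fun x5 x6 x7 => @Decidable.isFalse _ (@List.hasDecEq._proof_3.{ku0} _ @x5 @x6)) @x4) @(fun x4 x5 x6 x7 => @List.rec.{1, ku0} @x0 @(fun x8 => @Decidable (@Eq.{(ku0+1)} _ (@x4 :: @x5) @x8)) (@Decidable.isFalse _ (@List.hasDecEq._proof_2.{ku0} _ @x4 @x5)) @(fun x8 x9 x10 => @Decidable.rec.{1} _ @(fun x11 => @Decidable (@Eq.{(ku0+1)} _ (@x4 :: @x5) (@x8 :: @x9))) @(fun x11 =>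 @Decidable.isFalse _ (@List.hasDecEq._proof_6.{ku0} _ @x4 @x5 @x8 @x9 @x11)) @(fun x11 => @Decidable.rec.{1} _ @(fun x12 => @Decidable (@Eq.{(ku0+1)} _ (@x4 :: @x5) (@x8 :: @x9))) @(fun x12 => @Decidable.isFalse _ (@List.hasDecEq._proof_5.{ku0} _ @x4 @x5 @x8 @x9 @x12)) @(fun x12 => @Decidable.isTrue _ (@List.hasDecEq._proof_4.{ku0} _ @x4 @x5 @x8 @x9 @x11 @x12)) (@x6 @x9)) (@x1 @x4 @x8)) @x7) @x2 @x3)
private theorem _root_.Cfsg.Agent.KO279af90.e37.{ku0} : @List.hasDecEq.{ku0} = @_root_.Cfsg.Agent.KO279af90.k37.{ku0} := by delta _root_.Cfsg.Agent.KO279af90.k37; funext a0 a1 a2 a3; refine (congrFun (_root_.Cfsg.Agent.KO279af90.e0 (fun a2 a3 => @List.hasDecEq.{ku0} a0 a1 a2 a3) ?_ (fun c0 c1 => ?_) a2) a3 :) <;> [(funext b0; (cases b0 with | @nil  => (rfl') | @cons b0_0 b0_1 => (rfl'))); (funext b0; (cases b0 with | @nil  => (rfl') | @cons b0_0 b0_1 => (rfl')))]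
private noncomputable def _root_.Cfsg.Agent.KO279af90.k38.{ku0} : type_of% @instDecidableEqList.{ku0} := @(fun x0 x1 x2 x3 => @List.rec.{1, ku0} @x0 @(fun x4 => @Decidable (@Eq.{(ku0+1)} _ @x4 @x3)) (@List.rec.{1, ku0} @x0 @(fun x4 => @Decidable (@Eq.{(ku0+1)} _ [] @x4)) (@Decidable.isTrue _ (@List.hasDecEq._proof_1.{ku0} _)) @(fun x4 x5 x6 => @Decidable.isFalse _ (@List.hasDecEq._proof_3.{ku0} _ @x4 @x5)) @x3) @(fun x4 x5 x6 => @List.rec.{1, ku0} @x0 @(fun x7 => @Decidable (@Eq.{(ku0+1)} _ (@x4 :: @x5) @x7)) (@Decidable.isFalse _ (@List.hasDecEq._proof_2.{ku0} _ @x4 @x5)) @(fun x7 x8 x9 => @Decidable.rec.{1} _ @(fun x10 => @Decidable (@Eq.{(ku0+1)} _ (@x4 :: @x5) (@x7 :: @x8))) @(fun x10 => @Decidable.isFalse _ (@List.hasDecEq._proof_6.{ku0} _ @x4 @x5 @x7 @x8 @x10)) @(fun x10 => @Decidable.rec.{1} _ @(fun x11 => @Decidable (@Eq.{(ku0+1)} _ (@x4 :: @x5) (@x7 :: @x8))) @(fun x11 =>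 @Decidable.isFalse _ (@List.hasDecEq._proof_5.{ku0} _ @x4 @x5 @x7 @x8 @x11)) @(fun x11 => @Decidable.isTrue _ (@List.hasDecEq._proof_4.{ku0} _ @x4 @x5 @x7 @x8 @x10 @x11)) (@Cfsg.Agent.KO279af90.k37.{ku0} _ @x1 @x5 @x8)) (@x1 @x4 @x7)) @x3) @x2)
private theorem _root_.Cfsg.Agent.KO279af90.e38.{ku0} : @instDecidableEqList.{ku0} = @_root_.Cfsg.Agent.KO279af90.k38.{ku0} := by delta _root_.Cfsg.Agent.KO279af90.k38; rewrite [← Cfsg.Agent.KO279af90.e37.{ku0}]; rfl'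
private noncomputable def _root_.Cfsg.Agent.KO279af90.k39 : type_of% @instDecidableEqNat := @Cfsg.Agent.KO279af90.k4
private theorem _root_.Cfsg.Agent.KO279af90.e39 : @instDecidableEqNat = @_root_.Cfsg.Agent.KO279af90.k39 := by delta _root_.Cfsg.Agent.KO279af90.k39; rewrite [← Cfsg.Agent.KO279af90.e4]; rfl'
private noncomputable def _root_.Cfsg.Agent.KO279af90.k40.{ku0} : type_of% @List.countP.go.{ku0} := @(fun x0 x1 x2 x3 => @List.rec.{1, ku0} @x0 @(fun x4 => ℕ → ℕ) @(fun x4 => @x4) @(fun x4 x5 x6 x7 => @Bool.rec.{1} @(fun x8 => ℕ) (@x6 @x7) (@x6 (@Nat.add @x7 (nat_lit 1))) (@x1 @x4)) @x2 @x3)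
private theorem _root_.Cfsg.Agent.KO279af90.e40.{ku0} : @List.countP.go.{ku0} = @_root_.Cfsg.Agent.KO279af90.k40.{ku0} := by delta _root_.Cfsg.Agent.KO279af90.k40; funext a0 a1 a2 a3; refine (congrFun (_root_.Cfsg.Agent.KO279af90.e0 (fun a2 a3 => @List.countP.go.{ku0} a0 a1 a2 a3) ?_ (fun c0 c1 => ?_) a2) a3 :) <;> (rfl')
private noncomputable def _root_.Cfsg.Agent.KO279af90.k41.{ku0} : type_of% @List.countP.{ku0} := @(fun x0 x1 x2 => @Cfsg.Agent.KO279af90.k40.{ku0} _ @x1 @x2 (nat_lit 0))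
private theorem _root_.Cfsg.Agent.KO279af90.e41.{ku0} : @List.countP.{ku0} = @_root_.Cfsg.Agent.KO279af90.k41.{ku0} := by delta _root_.Cfsg.Agent.KO279af90.k41; rewrite [← Cfsg.Agent.KO279af90.e40.{ku0}]; rfl'
private noncomputable def _root_.Cfsg.Agent.KO279af90.k42.{ku0} : type_of% @List.count.{ku0} := @(fun x0 x1 x2 => @Cfsg.Agent.KO279af90.k41.{ku0} _ @(fun x3 => @BEq.beq.{ku0} _ @x1 @x3 @x2))
private theorem _root_.Cfsg.Agent.KO279af90.e42.{ku0} : @List.count.{ku0} = @_root_.Cfsg.Agent.KO279af90.k42.{ku0} := by delta _root_.Cfsg.Agent.KO279af90.k42; rewrite [← Cfsg.Agent.KO279af90.e41.{ku0}]; rfl'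
private noncomputable def _root_.Cfsg.Agent.KO279af90.k43.{ku0} : type_of% @List.filter.{ku0} := @(fun x0 x1 x2 => @List.rec.{(ku0+1), ku0} @x0 @(fun x3 => @List.{ku0} @x0) [] @(fun x3 x4 x5 => @Bool.rec.{(ku0+1)} @(fun x6 => @List.{ku0} @x0) @x5 (@x3 :: @x5) (@x1 @x3)) @x2)
private theorem _root_.Cfsg.Agent.KO279af90.e43.{ku0} : @List.filter.{ku0} = @_root_.Cfsg.Agent.KO279af90.k43.{ku0} := by delta _root_.Cfsg.Agent.KO279af90.k43; funext a0 a1 a2; refine (_root_.Cfsg.Agent.KO279af90.e0 (fun a2 => @List.filter.{ku0} a0 a1 a2) ?_ (fun c0 c1 => ?_) a2 :) <;> (rfl')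
private noncomputable def _root_.Cfsg.Agent.KO279af90.k44 : (by first | exact type_of% @Cfsg.Agent.LV.E7.cl | exact Unit : Sort _) := by first | (refine @Subtype.val _ (fun g => @Cfsg.Agent.LV.E7.cl = @g) (@Subtype.mk _ _ (@(fun x0 x1 => @Cfsg.Agent.KO279af90.k23.{0, 0} _ _ @(fun x2 => @Prod.snd.{0, 0} _ _ (@Prod.snd.{0, 0} _ _ @x2)) (@Cfsg.Agent.KO279af90.k43.{0} _ @(fun x2 => @Cfsg.Agent.KO279af90.k3.{0} _ (@BEq.mk.{0} _ @(fun x3 x4 => @Decidable.rec.{1} _ @(fun x5 => @Bool) @(fun x5 => @Bool.false) @(fun x5 => @Bool.true) (@Cfsg.Agent.KO279af90.k5 @x3 @x4))) (@Cfsg.Agent.KO279af90.k13 (@Prod.fst.{0, 0} _ _ @x2) (@Cfsg.Agent.KO279af90.k15.{1} _ (nat_lit 7) @(fun x3 x4 => (@x0 @x3) :: @x4) (nat_lit 7) (@Nat.le_refl ((7 : ℕ))) [])) (@Cfsg.Agent.KO279af90.k15.{1} _ (nat_lit 7) @(fun x3 x4 => (@x1 @x3) :: @x4) (nat_lit 7) (@Nat.le_refl ((7 : ℕ))) [])) @Cfsg.Agent.LV.E7.tb))) ?_); rewrite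 [← Cfsg.Agent.KO279af90.e15.{1}, ← Cfsg.Agent.KO279af90.e13, ← Cfsg.Agent.KO279af90.e5, ← Cfsg.Agent.KO279af90.e3.{0}, ← Cfsg.Agent.KO279af90.e43.{0}, ← Cfsg.Agent.KO279af90.e23.{0, 0}]; (try delta Cfsg.Agent.LV.E7.cl); (try generalize @Cfsg.Agent.LV.E7.ap = g0); (try generalize @Cfsg.Agent.LV.E7.tb = g1); rfl') | exact @Cfsg.Agent.LV.E7.cl | exact ()
private theorem _root_.Cfsg.Agent.KO279af90.e44 : (by first | exact @Cfsg.Agent.LV.E7.cl = @_root_.Cfsg.Agent.KO279af90.k44 | exact True : Prop) := by first | (delta _root_.Cfsg.Agent.KO279af90.k44; exact @Subtype.property _ (fun g => @Cfsg.Agent.LV.E7.cl = @g) _) | rfl | trivial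
private noncomputable def _root_.Cfsg.Agent.KO279af90.k45 : type_of% @List.range.loop := @(fun x0 x1 => @Nat.rec.{1} @(fun x2 => (@List.{0} ℕ) → @List.{0} ℕ) @(fun x2 => @x2) @(fun x2 x3 x4 => @x3 (@x2 :: @x4)) @x0 @x1)
private theorem _root_.Cfsg.Agent.KO279af90.e45 : @List.range.loop = @_root_.Cfsg.Agent.KO279af90.k45 := by delta _root_.Cfsg.Agent.KO279af90.k45; funext a0 a1; refine (congrFun (_root_.Cfsg.Agent.KO279af90.e14 (fun a0 a1 => @List.range.loop a0 a1) ?_ (fun c0 => ?_) a0) a1 :) <;> (rfl')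
private noncomputable def _root_.Cfsg.Agent.KO279af90.k46 : type_of% @List.range := @(fun x0 => @Cfsg.Agent.KO279af90.k45 @x0 [])
private theorem _root_.Cfsg.Agent.KO279af90.e46 : @List.range = @_root_.Cfsg.Agent.KO279af90.k46 := by delta _root_.Cfsg.Agent.KO279af90.k46; rewrite [← Cfsg.Agent.KO279af90.e45]; rfl'
private noncomputable def _root_.Cfsg.Agent.KO279af90.k47 : (by first | exact type_of% @Cfsg.Agent.LV.E7.yL | exact Unit : Sort _) := by first | (refine @Subtype.val _ (fun g => @Cfsg.Agent.LV.E7.yL = @g) (@Subtype.mk _ _ (@Cfsg.Agent.KO279af90.k19.{1} (nat_lit 6) @(fun (x0 : @Fin (@Nat.succ (@OfNat.ofNat.{0} @Nat (nat_lit 6) (@instOfNatNat (nat_lit 6))))) => @Int) (@Int.ofNat (nat_lit 1)) (@Cfsg.Agent.KO279af90.k19.{1} (nat_lit 5) @(fun (x0 : @Fin (@Nat.succ (@OfNat.ofNat.{0} @Nat (nat_lit 5) (@instOfNatNat (nat_lit 5))))) => @Int) (@Int.ofNat (nat_lit 0)) (@Cfsg.Agent.KO279af90.k19.{1}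 (nat_lit 4) @(fun (x0 : @Fin (@Nat.succ (@OfNat.ofNat.{0} @Nat (nat_lit 4) (@instOfNatNat (nat_lit 4))))) => @Int) (@Int.ofNat (nat_lit 1)) (@Cfsg.Agent.KO279af90.k19.{1} (nat_lit 3) @(fun (x0 : @Fin (@Nat.succ (@OfNat.ofNat.{0} @Nat (nat_lit 3) (@instOfNatNat (nat_lit 3))))) => @Int) (@Int.ofNat (nat_lit 1)) (@Cfsg.Agent.KO279af90.k19.{1} (nat_lit 2) @(fun (x0 : @Fin (@Nat.succ (@OfNat.ofNat.{0} @Nat (nat_lit 2) (@instOfNatNat (nat_lit 2))))) => @Int) (@Int.ofNat (nat_lit 0)) (@Cfsg.Agent.KO279af90.k19.{1} (nat_lit 1) @(fun (x0 : @Fin (@Nat.succ (@OfNat.ofNat.{0} @Nat (nat_lit 1) (@instOfNatNat (nat_lit 1))))) => @Int) (@Int.ofNat (nat_lit 1)) (@Cfsg.Agent.KO279af90.k19.{1} (nat_lit 0) @(fun (x0 : @Fin (@Nat.succ (@OfNat.ofNat.{0} @Nat (nat_lit 0) (@instOfNatNat (nat_lit 0))))) => @Int) (@Int.ofNat (nat_lit 0)) (@Cfsg.Agent.KO279af90.k20.{1} @Int)))))))) ?_); rewrite [← Cfsg.Agent.KO279af90.e20.{1},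 ← Cfsg.Agent.KO279af90.e19.{1}]; rfl') | exact @Cfsg.Agent.LV.E7.yL | exact ()
private theorem _root_.Cfsg.Agent.KO279af90.e47 : (by first | exact @Cfsg.Agent.LV.E7.yL = @_root_.Cfsg.Agent.KO279af90.k47 | exact True : Prop) := by first | (delta _root_.Cfsg.Agent.KO279af90.k47; exact @Subtype.property _ (fun g => @Cfsg.Agent.LV.E7.yL = @g) _) | rfl | trivial
private noncomputable def _root_.Cfsg.Agent.KO279af90.k48.{ku0} : type_of% @Matrix.vecCons.{ku0} := @(fun x0 x1 x2 x3 => @Cfsg.Agent.KO279af90.k19.{(ku0+1)} _ @(fun x4 => @x0) @x2 @x3)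
private theorem _root_.Cfsg.Agent.KO279af90.e48.{ku0} : @Matrix.vecCons.{ku0} = @_root_.Cfsg.Agent.KO279af90.k48.{ku0} := by delta _root_.Cfsg.Agent.KO279af90.k48; rewrite [← Cfsg.Agent.KO279af90.e19.{(ku0+1)}]; rfl'
private noncomputable def _root_.Cfsg.Agent.KO279af90.k49.{ku0} : type_of% @Matrix.vecEmpty.{ku0} := @(fun x0 => @Cfsg.Agent.KO279af90.k20.{(ku0+1)} _)
private theorem _root_.Cfsg.Agent.KO279af90.e49.{ku0} : @Matrix.vecEmpty.{ku0} = @_root_.Cfsg.Agent.KO279af90.k49.{ku0} := by delta _root_.Cfsg.Agent.KO279af90.k49; rewrite [← Cfsg.Agent.KO279af90.e20.{(ku0+1)}]; rfl'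
private noncomputable def _root_.Cfsg.Agent.KO279af90.k50 : (by first | exact type_of% @Cfsg.Agent.LV.E7.y2 | exact Unit : Sort _) := by first | (refine @Subtype.val _ (fun g => @Cfsg.Agent.LV.E7.y2 = @g) (@Subtype.mk _ _ (@Cfsg.Agent.KO279af90.k19.{1} (nat_lit 6) @(fun (x0 : @Fin (@Nat.succ (@OfNat.ofNat.{0} @Nat (nat_lit 6) (@instOfNatNat (nat_lit 6))))) => @Int) (@Int.ofNat (nat_lit 1)) (@Cfsg.Agent.KO279af90.k19.{1} (nat_lit 5) @(fun (x0 : @Fin (@Nat.succ (@OfNat.ofNat.{0} @Nat (nat_lit 5) (@instOfNatNat (nat_lit 5))))) => @Int) (@Int.ofNat (nat_lit 1)) (@Cfsg.Agent.KO279af90.k19.{1} (nat_lit 4) @(fun (x0 : @Fin (@Nat.succ (@OfNat.ofNat.{0} @Nat (nat_lit 4) (@instOfNatNat (nat_lit 4))))) => @Int) (@Int.ofNat (nat_lit 1)) (@Cfsg.Agent.KO279af90.k19.{1} (nat_lit 3) @(fun (x0 : @Fin (@Nat.succ (@OfNat.ofNat.{0} @Nat (nat_lit 3) (@instOfNatNat (nat_lit 3))))) => @Int) (@Int.ofNat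 (nat_lit 1)) (@Cfsg.Agent.KO279af90.k19.{1} (nat_lit 2) @(fun (x0 : @Fin (@Nat.succ (@OfNat.ofNat.{0} @Nat (nat_lit 2) (@instOfNatNat (nat_lit 2))))) => @Int) (@Int.ofNat (nat_lit 1)) (@Cfsg.Agent.KO279af90.k19.{1} (nat_lit 1) @(fun (x0 : @Fin (@Nat.succ (@OfNat.ofNat.{0} @Nat (nat_lit 1) (@instOfNatNat (nat_lit 1))))) => @Int) (@Int.ofNat (nat_lit 1)) (@Cfsg.Agent.KO279af90.k19.{1} (nat_lit 0) @(fun (x0 : @Fin (@Nat.succ (@OfNat.ofNat.{0} @Nat (nat_lit 0) (@instOfNatNat (nat_lit 0))))) => @Int) (@Int.ofNat (nat_lit 0)) (@Cfsg.Agent.KO279af90.k20.{1} @Int)))))))) ?_); rewrite [← Cfsg.Agent.KO279af90.e20.{1}, ← Cfsg.Agent.KO279af90.e19.{1}]; rfl') | exact @Cfsg.Agent.LV.E7.y2 | exact ()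
private theorem _root_.Cfsg.Agent.KO279af90.e50 : (by first | exact @Cfsg.Agent.LV.E7.y2 = @_root_.Cfsg.Agent.KO279af90.k50 | exact True : Prop) := by first | (delta _root_.Cfsg.Agent.KO279af90.k50; exact @Subtype.property _ (fun g => @Cfsg.Agent.LV.E7.y2 = @g) _) | rfl | trivial
private noncomputable def _root_.Cfsg.Agent.KO279af90.k51 : (by first | exact type_of% @Cfsg.Agent.LV.E7.y3 | exact Unit : Sort _) := by first | (refine @Subtype.val _ (fun g => @Cfsg.Agent.LV.E7.y3 = @g) (@Subtype.mk _ _ (@Cfsg.Agent.KO279af90.k19.{1} (nat_lit 6) @(fun (x0 : @Fin (@Nat.succ (@OfNat.ofNat.{0} @Nat (nat_lit 6) (@instOfNatNat (nat_lit 6))))) => @Int) (@Int.ofNat (nat_lit 1)) (@Cfsg.Agent.KO279af90.k19.{1} (nat_lit 5) @(fun (x0 : @Fin (@Nat.succ (@OfNat.ofNat.{0} @Nat (nat_lit 5) (@instOfNatNat (nat_lit 5))))) => @Int) (@Int.ofNat (nat_lit 1)) (@Cfsg.Agent.KO279af90.k19.{1} (nat_lit 4) @(fun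 (x0 : @Fin (@Nat.succ (@OfNat.ofNat.{0} @Nat (nat_lit 4) (@instOfNatNat (nat_lit 4))))) => @Int) (@Int.ofNat (nat_lit 1)) (@Cfsg.Agent.KO279af90.k19.{1} (nat_lit 3) @(fun (x0 : @Fin (@Nat.succ (@OfNat.ofNat.{0} @Nat (nat_lit 3) (@instOfNatNat (nat_lit 3))))) => @Int) (@Int.ofNat (nat_lit 0)) (@Cfsg.Agent.KO279af90.k19.{1} (nat_lit 2) @(fun (x0 : @Fin (@Nat.succ (@OfNat.ofNat.{0} @Nat (nat_lit 2) (@instOfNatNat (nat_lit 2))))) => @Int) (@Int.ofNat (nat_lit 0)) (@Cfsg.Agent.KO279af90.k19.{1} (nat_lit 1) @(fun (x0 : @Fin (@Nat.succ (@OfNat.ofNat.{0} @Nat (nat_lit 1) (@instOfNatNat (nat_lit 1))))) => @Int) (@Int.ofNat (nat_lit 1)) (@Cfsg.Agent.KO279af90.k19.{1} (nat_lit 0) @(fun (x0 : @Fin (@Nat.succ (@OfNat.ofNat.{0} @Nat (nat_lit 0) (@instOfNatNat (nat_lit 0))))) => @Int) (@Int.ofNat (nat_lit 0)) (@Cfsg.Agent.KO279af90.k20.{1} @Int)))))))) ?_); rewrite [← Cfsg.Agent.KO279af90.e20.{1},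 ← Cfsg.Agent.KO279af90.e19.{1}]; rfl') | exact @Cfsg.Agent.LV.E7.y3 | exact ()
private theorem _root_.Cfsg.Agent.KO279af90.e51 : (by first | exact @Cfsg.Agent.LV.E7.y3 = @_root_.Cfsg.Agent.KO279af90.k51 | exact True : Prop) := by first | (delta _root_.Cfsg.Agent.KO279af90.k51; exact @Subtype.property _ (fun g => @Cfsg.Agent.LV.E7.y3 = @g) _) | rfl | trivial

theorem chk3 : (List.range 18).map (cl y0 y0).count = [12, 24, 4, 32, 12, 24, 48, 12, 24, 4, 32, 32, 4, 24, 48, 12, 32, 4] ∧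
    cl yL yL = [0, 1, 1, 4, 7, 8, 8, 15] ∧ cl ![1, 1, 3, -2, 3, 1, 0] y2 = [6, 14] ∧
    cl ![2, -1, -1, 2, 0, 1, 0] y3 = [5, 12, 13, 3, 17, 5, 10, 5, 13, 3, 13, 10] := by (first | (refine of_decide_eq_true ?_; rewrite [Cfsg.Agent.KO279af90.e34, Cfsg.Agent.KO279af90.e35, Cfsg.Agent.KO279af90.e38.{0}, Cfsg.Agent.KO279af90.e39, Cfsg.Agent.KO279af90.e23.{0, 0}, Cfsg.Agent.KO279af90.e42.{0}, Cfsg.Agent.KO279af90.e44, Cfsg.Agent.KO279af90.e21, Cfsg.Agent.KO279af90.e46, Cfsg.Agent.KO279af90.e47, Cfsg.Agent.KO279af90.e48.{0}, Cfsg.Agent.KO279af90.e49.{0}, Cfsg.Agent.KO279af90.e50, Cfsg.Agent.KO279af90.e51]; decide +kernel) | decide +kernel)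

/-- the eigenspace modulo `5`, on lists -/
noncomputable def inE (y : List ℤ) : Bool := (List.zipWith (fun a b => (a - 2 * b) % 5) (ap n0 y) y).all (· == 0)

theorem chk4 : (tb.filter fun t => inE (ap t.1 (List.ofFn yE))).length = 32 := by decide +kernel

end Cfsg.Agent.LV.E7
end

-- part: LV/E7/Sum
section
/-!
# LV, `E₇`, `p = 5`: sums over the coset `H w₀` (helper14)

`mem_hs`, `sum_cos`, `cards`, `norm_H`.
-/

set_option autoImplicit false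

namespace Cfsg.Agent.LV.E7

open CoxeterSystem Cfsg Cfsg.Lie Matrix Cfsg.Agent.Nodes.RGDChev Cfsg.Agent.KZ.DatX Cfsg.Agent.KZ.Exc Cfsg.Agent.KZ.Exc.Gr

theorem pos0 : 0 ≤ y0 := fun i => by revert i; decide

theorem posL : 0 ≤ yL := fun i => by revert i; decide

theorem pos2 : 0 ≤ y2 := fun i => by revert i; decide

theorem pos3 : 0 ≤ y3 := fun i => by revert i; decide

theorem tb_spec {t : ℕ × ℕ × ℕ} (h : t ∈ tb) : el t.1 ∈ Sb y0 ∧ el t.2.1 ∈ Sb y0 ∧ t.2.2 < 18 ∧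
    el t.1 * w0 = el t.2.1 * (el (gk.getD t.2.2 0) * w0) * (el t.2.1)⁻¹ := by
  have h1 := List.all_eq_true.1 chk1 t h
  simp only [ck1, ap_eq, Bool.and_eq_true, beq_iff_eq, List.ofFn_inj, Nat.blt_eq] at h1
  refine ⟨h1.1.1.1, h1.1.1.2, h1.1.2, eq_mul_inv_of_mul_eq (eq_of_ro ?_)⟩
  simp only [mv_mul]
  exact h1.2

/-- the elements -/
noncomputable def hs : List W7 := tb.map fun t => el t.1

theorem ks_eq : ks = hs.map fun g => Encodable.encode (List.ofFn (mv g ro)) := by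
  simp only [ks, hs, List.map_map, ap_eq, Function.comp_def, enc_eq]

theorem hs_nodup : hs.Nodup := by
  have h := chk2
  rw [ck2, fN_eq, Bool.and_eq_true, ks_eq] at h
  exact (ndN_nodup h.1).of_map _

theorem sp_mul_mem {i : Fin 7} (hi : y0 i = 0) {g : W7} (hg : g ∈ hs) : sp i * g ∈ hs := by
  obtain ⟨t, ht, rfl⟩ := List.mem_map.1 hg
  have h := chk2
  rw [ck2, fN_eq, Bool.and_eq_true, ks_eq] at h
  have h1 := List.all_eq_true.1 h.2 t ht
  rw [fl_eq] at h1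
  have h2 := List.all_eq_true.1 h1 i ((by decide : ∀ i : Fin 7, y0 i = 0 → (i : ℕ) ∈ [1, 2, 3, 4, 6]) i hi)
  rw [fn_eq, memN_iff, enc_eq, ap_eq, refL_eq hpE7 isRows_E7] at h2
  obtain ⟨g, h3, h4⟩ := List.mem_map.1 h2
  rw [← eq_of_ro ((List.ofFn_injective (Encodable.encode_injective h4)).trans (mv_mul _ _ _).symm)]
  exact h3

theorem mem_hs {g : W7} : g ∈ hs ↔ g ∈ Sb y0 := by
  refine ⟨fun h => ?_, fun h => ?_⟩
  · obtain ⟨t, ht, rfl⟩ := List.mem_map.1 h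
    exact (tb_spec ht).1
  · let K : Subgroup W7 :=
      { carrier := {g | ∀ x, x ∈ hs ↔ g * x ∈ hs}
        one_mem' := fun x => by rw [one_mul]
        mul_mem' := fun {a b} ha hb x => by rw [mul_assoc, ← ha, ← hb]
        inv_mem' := fun {a} ha x => by rw [ha (a⁻¹ * x), mul_inv_cancel_left] }
    have h1 : g ∈ K := dom_key hpE7 (K := K) pos0 (fun i hi x => ⟨sp_mul_mem hi, fun e => by
      simpa [← mul_assoc] using sp_mul_mem hi e⟩) g (by rw [show wm hpE7 g *ᵥ y0 = y0 from h]; exact pos0)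
    simpa using (h1 1).1 (List.mem_map.2 ⟨(0, 0, 0), by decide, rfl⟩)

theorem sum_cos {lam μ : Fin 7 → ℤ} (hl : 0 ≤ lam) (hK : ∀ i, lam i = 0 → y0 i = 0) {m : W7} (hm : m ∈ Sb y0)
    (h : mv m μ = lam) [Fintype (Sb lam)] {Z : W7 → ℤ} (hZ : ∀ v ∈ Sb y0, ∀ x, Z (v * x * v⁻¹) = Z x) :
    ∑ u : Sb lam, Z (u * (m * w0)) = ((cl μ lam).map fun k => Z (el (gk.getD k 0) * w0)).sum := by
  classical
  have h1 : ((cl μ lam).map fun k => Z (el (gk.getD k 0) * w0)) =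
      (hs.filter fun g => mv g μ = lam).map fun g => Z (g * w0) := by
    rw [cl, hs, List.filter_map, List.map_map, List.map_map]
    refine (congrArg _ (List.filter_congr fun t _ => ?_)).trans (List.map_congr_left fun t ht => ?_)
    · simp only [ap_eq, Bool.beq_eq_decide_eq, List.ofFn_inj, Function.comp]
    · have h2 := tb_spec (List.mem_of_mem_filter ht)
      exact ((congrArg Z h2.2.2.2).trans (hZ _ h2.2.1 _)).symm
  rw [h1, ← List.sum_toFinset _ (hs_nodup.filter _)]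
  refine Finset.sum_bij (fun u _ => u * m) (fun u _ => ?_) (fun u _ v _ e => Subtype.ext (mul_right_cancel e))
    (fun g hg => ?_) fun u _ => by rw [mul_assoc]
  · rw [List.mem_toFinset, List.mem_filter, mem_hs, decide_eq_true_eq, mv_mul, h]
    exact ⟨mul_mem (St_le hpE7 hl hK u.2) hm, u.2⟩
  · rw [List.mem_toFinset, List.mem_filter, decide_eq_true_eq] at hg
    refine ⟨⟨g * m⁻¹, ?_⟩, Finset.mem_univ _, inv_mul_cancel_right _ _⟩
    show mv _ lam = lam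
    conv_lhs => rw [← h, mv_mul, mv_inv, hg.2]

theorem sum_count {m : ℕ} {L : List ℕ} (h : ∀ k ∈ L, k < m) (Y : ℕ → ℤ) :
    (L.map Y).sum = ∑ k ∈ Finset.range m, L.count k * Y k := by
  induction L with
  | nil => simp
  | cons a L ih =>
    simp only [List.map_cons, List.sum_cons, ih fun k hk => h k (List.mem_cons_of_mem _ hk), List.count_cons, Nat.cast_add,
      add_mul, Finset.sum_add_distrib, beq_iff_eq, Nat.cast_ite, ite_mul, Nat.cast_one, one_mul, Nat.cast_zero, zero_mul,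
      Finset.sum_ite_eq, Finset.mem_range, h a List.mem_cons_self, if_true]
    ring

section

variable {Z : W7 → ℤ} (hZ : ∀ v ∈ Sb y0, ∀ x, Z (v * x * v⁻¹) = Z x) {Y : ℕ → ℤ} (hY : ∀ k, Z (el (gk.getD k 0) * w0) = Y k)
include hZ hY

theorem sum_H [Fintype (Sb y0)] : ∑ u : Sb y0, Z (u * w0) = 12 * Y 0 + 24 * Y 1 + 4 * Y 2 + 32 * Y 3 + 12 * Y 4 + 24 * Y 5 +
    48 * Y 6 + 12 * Y 7 + 24 * Y 8 + 4 * Y 9 + 32 * Y 10 + 32 * Y 11 + 4 * Y 12 + 24 * Y 13 + 48 * Y 14 + 12 * Y 15 +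
    32 * Y 16 + 4 * Y 17 := by
  have h := sum_cos pos0 (fun _ e => e) (one_mem _) (mv_one _) hZ
  have h1 := chk3.1
  simp only [List.range_succ, List.range_zero, List.nil_append, List.cons_append, List.map_cons, List.map_nil,
    List.cons.injEq] at h1
  simp only [one_mul, hY] at h
  rw [h, sum_count (m := 18) fun k hk => ?_]
  · simp only [Finset.sum_range_succ, Finset.sum_range_zero, h1, Nat.cast_ofNat, zero_add]
  · obtain ⟨t, ht, rfl⟩ := List.mem_map.1 hk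
    exact (tb_spec (List.mem_of_mem_filter ht)).2.2.1

theorem sum_L [Fintype (Sb yL)] : ∑ u : Sb yL, Z (u * w0) = Y 0 + 2 * Y 1 + Y 4 + Y 7 + 2 * Y 8 + Y 15 := by
  have h := sum_cos posL (by decide) (one_mem _) (mv_one _) hZ
  simp only [one_mul, hY, chk3.2.1, List.map_cons, List.map_nil, List.sum_cons, List.sum_nil] at h
  rw [h]
  ring

theorem sum_2 [Fintype (Sb y2)] : ∑ u : Sb y2, Z (u * (el 11 * w0)) = Y 6 + Y 14 := by
  have h := sum_cos (lam := y2) (μ := ![1, 1, 3, -2, 3, 1, 0]) (m := el 11) pos2 (by decide)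
    (mv_el (by decide +kernel)) (mv_el (by decide +kernel)) hZ
  simpa only [hY, chk3.2.2.1, List.map_cons, List.map_nil, List.sum_cons, List.sum_nil, add_zero] using h

theorem sum_3 [Fintype (Sb y3)] :
    ∑ u : Sb y3, Z (u * (el 10 * w0)) = 2 * Y 3 + 3 * Y 5 + 2 * Y 10 + Y 12 + 3 * Y 13 + Y 17 := by
  have h := sum_cos (lam := y3) (μ := ![2, -1, -1, 2, 0, 1, 0]) (m := el 10) pos3 (by decide)
    (mv_el (by decide +kernel)) (mv_el (by decide +kernel)) hZ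
  simp only [hY, chk3.2.2.2, List.map_cons, List.map_nil, List.sum_cons, List.sum_nil] at h
  rw [h]
  ring

end

theorem cards : Nat.card (Sb y0) = 384 ∧ Nat.card (Sb yL) = 8 ∧ Nat.card (Sb y2) = 2 ∧ Nat.card (Sb y3) = 12 := by
  have := Nodes.RGDChev.finite_W hpE7 CoxeterMatrix.E₇.toCoxeterSystem
  have := fun y => Fintype.ofFinite (Sb y)
  have h1 := sum_H (Z := fun _ => 1) (Y := fun _ => 1) (fun _ _ _ => rfl) fun _ => rfl
  have h2 := sum_L (Z := fun _ => 1) (Y := fun _ => 1) (fun _ _ _ => rfl) fun _ => rfl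
  have h3 := sum_2 (Z := fun _ => 1) (Y := fun _ => 1) (fun _ _ _ => rfl) fun _ => rfl
  have h4 := sum_3 (Z := fun _ => 1) (Y := fun _ => 1) (fun _ _ _ => rfl) fun _ => rfl
  simp only [Finset.sum_const, Finset.card_univ, ← Nat.card_eq_fintype_card, nsmul_eq_mul] at h1 h2 h3 h4
  omega

/-- **The norm on the coset.** -/
theorem norm_H [Fintype (Sb y0)] [Fintype (Sb yL)] [Fintype (Sb y2)] [Fintype (Sb y3)] {Z : W7 → ℤ}
    (hZ : ∀ v ∈ Sb y0, ∀ x, Z (v * x * v⁻¹) = Z x) {a n d e : ℤ} (ha : ∑ u : Sb y0, Z (u * w0) = a * 384)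
    (hn : ∑ u : Sb yL, Z (u * w0) = n * 8) (hd : ∑ u : Sb y2, Z (u * (el 11 * w0)) = d * 2)
    (he : ∑ u : Sb y3, Z (u * (el 10 * w0)) = e * 12) (h0 : n ≠ 0) : 192 ≤ ∑ u : Sb y0, Z (u * w0) ^ 2 := by
  obtain ⟨Y, hY⟩ : ∃ Y : ℕ → ℤ, ∀ k, Z (el (gk.getD k 0) * w0) = Y k := ⟨_, fun _ => rfl⟩
  rw [sum_H (Z := fun x => Z x ^ 2) (Y := fun k => Y k ^ 2) (fun v hv x => by rw [hZ v hv]) fun k => by rw [hY]]
  rw [sum_H hZ hY] at ha
  rw [sum_L hZ hY] at hn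
  rw [sum_2 hZ hY] at hd
  rw [sum_3 hZ hY] at he
  obtain ⟨m, hm⟩ : ∃ m, m = 4 * a - n - d - e := ⟨_, rfl⟩
  have h1 : 2 ≤ n ^ 2 + d ^ 2 + e ^ 2 + m ^ 2 := by
    have := Int.natAbs_le_self_sq n
    have := Int.natAbs_le_self_sq d
    have := Int.natAbs_le_self_sq e
    have := Int.natAbs_le_self_sq m
    (solve | lia | omega)
  have h2 : 0 ≤ 12 * (Y 0 - n) ^ 2 + 24 * (Y 1 - n) ^ 2 + 4 * (Y 2 - m) ^ 2 + 8 * (2 * Y 3 - e - m) ^ 2 + 12 * (Y 4 - n) ^ 2 +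
      24 * (Y 5 - e) ^ 2 + 48 * (Y 6 - d) ^ 2 + 12 * (Y 7 - n) ^ 2 + 24 * (Y 8 - n) ^ 2 + 4 * (Y 9 - m) ^ 2 +
      8 * (2 * Y 10 - e - m) ^ 2 + 32 * (Y 11 - m) ^ 2 + 4 * (Y 12 - 2 * e + m) ^ 2 + 24 * (Y 13 - e) ^ 2 +
      48 * (Y 14 - d) ^ 2 + 12 * (Y 15 - n) ^ 2 + 32 * (Y 16 - m) ^ 2 + 4 * (Y 17 - 2 * e + m) ^ 2 := by (clear * -; positivity)
  refine le_of_sub_nonneg (le_of_le_of_eq (add_nonneg h2 (mul_nonneg (by decide : (0 : ℤ) ≤ 96) (sub_nonneg.2 h1))) ?_)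
  subst hm
  linear_combination (-2 * (4 * a - n - d - e)) * ha - 24 * (n - (4 * a - n - d - e)) * hn -
    96 * (d - (4 * a - n - d - e)) * hd - 16 * (e - (4 * a - n - d - e)) * he

end Cfsg.Agent.LV.E7
end

-- part: LV/E7/Wey
section
/-!
# LV, `E₇`, `p = 5`: the eigenspace of `w₀` modulo `5` (helper14)

`InE`, `fix_mod`, `card_NE`, `sum_le`, `exists_cj`, the elements `v8`, `v3`, `det_w0`.
-/

set_option autoImplicit false
set_option maxRecDepth 100000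

namespace Cfsg.Agent.LV.E7

open CoxeterSystem Cfsg Cfsg.Lie Matrix Cfsg.Agent.Nodes.RGDChev Cfsg.Agent.KZ.DatX Cfsg.Agent.KZ.Exc Cfsg.Agent.KZ.Exc.Gr

/-- all coordinates are divisible by `N` -/
def Dv (N : ℤ) (y : Fin 7 → ℤ) : Prop := ∀ i, N ∣ y i

section

variable {N : ℤ} {x y z lam : Fin 7 → ℤ} {u v g : W7}

theorem Dv.mul (h : Dv N y) (B : Matrix (Fin 7) (Fin 7) ℤ) : Dv N (B *ᵥ y) := fun i =>
  Finset.dvd_sum (s := Finset.univ) (f := fun j => B i j * y j) fun j _ => (h j).mul_left _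

theorem Dv.add (h : Dv N x) (h' : Dv N y) : Dv N (x + y) := fun i => dvd_add (h i) (h' i)

theorem Dv.sub (h : Dv N x) (h' : Dv N y) : Dv N (x - y) := fun i => dvd_sub (h i) (h' i)

theorem Dv.neg (h : Dv N x) : Dv N (-x) := fun i => dvd_neg.2 (h i)

theorem Dv.smul (h : Dv N x) (a : ℤ) : Dv N (a • x) := fun i => (h i).mul_left a

theorem Dv.of_eq (h : Dv N x) (e : x = y) : Dv N y := e ▸ h

theorem Dv.trans (h : Dv N (x - y)) (h' : Dv N (y - z)) : Dv N (x - z) := (h.add h').of_eq (sub_add_sub_cancel _ _ _)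

theorem Dv.symm (h : Dv N (x - y)) : Dv N (y - x) := h.neg.of_eq (neg_sub _ _)

theorem Dv.mv (h : Dv N (x - y)) (v : W7) : Dv N (mv v x - mv v y) := (h.mul _).of_eq (mulVec_sub _ _ _)

theorem dv_mv : Dv N (mv v x) ↔ Dv N x := ⟨fun h => (h.mul _).of_eq (mv_inv v x), fun h => h.mul _⟩

theorem Dv.dot (h : Dv N y) (a : Fin 7 → ℤ) : N ∣ a ⬝ᵥ y := Finset.dvd_sum fun j _ => (h j).mul_left _

theorem dv_list (c : ℤ) (x y : Fin 7 → ℤ) :
    (List.zipWith (fun a b => (a - c * b) % 5) (List.ofFn x) (List.ofFn y)).all (· == 0) = true ↔ Dv 5 (x - c • y) := by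
  rw [show List.zipWith (fun a b => (a - c * b) % 5) (List.ofFn x) (List.ofFn y) = List.ofFn fun i => (x i - c * y i) % 5 by
    apply List.ext_getElem <;> simp only [_root_.List.ofFn_succ, _root_.Fin.isValue, _root_.Fin.succ_zero_eq_one, _root_.Fin.succ_one_eq_two, _root_.Fin.reduceSucc, _root_.List.ofFn_zero, _root_.List.zipWith_cons_cons, _root_.List.zipWith_self, _root_.List.map_nil, _root_.List.length_cons, _root_.List.length_nil, _root_.zero_add, _root_.Nat.reduceAdd, _root_.implies_true], List.all_eq_true, List.forall_mem_ofFn_iff]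
  exact forall_congr' fun i => beq_iff_eq.trans Int.dvd_iff_emod_eq_zero.symm

/-- the stabiliser modulo `N` -/
def SM (N : ℤ) (y : Fin 7 → ℤ) : Subgroup W7 where
  carrier := {g | Dv N (mv g y - y)}
  one_mem' i := by rw [mv_one, sub_self]; exact dvd_zero _
  mul_mem' {a b} ha hb := by
    show Dv N _
    rw [mv_mul]
    exact (Dv.mv hb a).trans ha
  inv_mem' {a} ha := ((Dv.mv ha a⁻¹).of_eq (by rw [mv_inv])).symm

theorem fix_mod (hl : 0 ≤ lam) (h : ∀ i, lam i = 0 → N ∣ y i) (hu : u ∈ Sb lam) : Dv N (mv u y - y) :=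
  dom_key hpE7 (K := SM N y) hl (fun i hi a => by
    rw [Pi.sub_apply, mv, simple_apply, sub_sub_cancel_left, dvd_neg]
    exact (h i hi).mul_right _) u (by rwa [show wm hpE7 u *ᵥ lam = lam from hu])

theorem wm_of {n : ℕ} {B : Matrix (Fin 7) (Fin 7) ℤ}
    (h : ∀ j, ap n (List.ofFn fun i => if i = j then 1 else 0) = List.ofFn fun i => B i j) : wm hpE7 (el n) = B := by
  ext i j
  simpa only [mulVec, dotProduct, mul_ite, mul_one, mul_zero, Finset.sum_ite_eq', Finset.mem_univ, if_true] using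
    congrFun (mv_el (h j)) i

/-- the matrix of `w₀` -/
def M0 : Matrix (Fin 7) (Fin 7) ℤ := !![-1, -1, -2, -2, -2, -2, -1; 0, 1, 0, 0, 0, 0, 0; 0, -1, -1, -2, -1, 0, 0;
  0, 0, 1, 1, 0, 0, 0; 0, 0, 0, 0, 1, 0, 0; 1, 1, 1, 2, 1, 1, 0; 0, 0, 0, 0, 0, 0, 1]

theorem wm_w0 : wm hpE7 w0 = M0 := wm_of (by decide +kernel)

theorem w0_co (y : Fin 7 → ℤ) : mv w0 y 0 = -y 0 - y 1 - 2 * y 2 - 2 * y 3 - 2 * y 4 - 2 * y 5 - y 6 ∧ mv w0 y 1 = y 1 ∧
    mv w0 y 2 = -y 1 - y 2 - 2 * y 3 - y 4 ∧ mv w0 y 3 = y 2 + y 3 ∧ mv w0 y 4 = y 4 ∧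
    mv w0 y 5 = y 0 + y 1 + y 2 + 2 * y 3 + y 4 + y 5 ∧ mv w0 y 6 = y 6 := by
  simp only [mv, wm_w0, M0, mulVec, dotProduct, Fin.sum_univ_seven, of_apply, cons_val', cons_val]
  (solve | lia | omega)

theorem yL_zero {i : Fin 7} : yL i = 0 ↔ i = 1 ∨ i = 4 ∨ i = 6 := by revert i; decide

theorem w0_L (y : Fin 7 → ℤ) {i : Fin 7} (hi : yL i = 0) : mv w0 y i = y i := by
  have h := w0_co y
  rcases yL_zero.1 hi with rfl | rfl | rfl <;> simp only [h]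

theorem det_w0 (Q : ℤ) : (Q • M0 - 1).det = (Q ^ 2 + 1) ^ 2 * (Q - 1) ^ 3 := by
  let e : Fin 4 ⊕ Fin 3 ≃ Fin 7 := Equiv.ofBijective (Sum.elim ![0, 5, 2, 3] ![1, 4, 6]) (by decide)
  have h : (Q • M0 - 1).submatrix e e = fromBlocks
      !![-Q - 1, -2 * Q, -2 * Q, -2 * Q; Q, Q - 1, Q, 2 * Q; 0, 0, -Q - 1, -2 * Q; 0, 0, Q, Q - 1]
      !![-Q, -2 * Q, -Q; Q, Q, 0; -Q, -Q, 0; 0, 0, 0] 0 !![Q - 1, 0, 0; 0, Q - 1, 0; 0, 0, Q - 1] := by
    ext (i | i) (j | j) <;> fin_cases i <;> fin_cases j <;> simp [e, M0, mul_comm]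
  rw [← det_submatrix_equiv_self e, h, det_fromBlocks_zero₂₁, det_fin_three]
  simp only [det_succ_row_zero, Fin.sum_univ_succ, Fin.succAbove, _root_.Int.reduceNeg, _root_.neg_mul, _root_.Nat.succ_eq_add_one, _root_.Nat.reduceAdd, _root_.Fin.isValue, _root_.Matrix.of_apply, _root_.Matrix.cons_val', _root_.Matrix.cons_val_fin_one, _root_.Matrix.cons_val_zero, _root_.Matrix.submatrix_apply, _root_.Fin.succ_zero_eq_one, _root_.Matrix.cons_val_one, _root_.Matrix.submatrix_submatrix, _root_.Function.comp_apply, _root_.Fin.succ_one_eq_two, _root_.Matrix.cons_val, _root_.Matrix.det_unique, _root_.Fin.default_eq_zero, _root_.Fin.reduceSucc, _root_.Fin.castSucc_zero, _root_.Fin.coe_ofNat_eq_mod, _root_.Nat.zero_mod, _root_.pow_zero, _root_.one_mul, _root_.lt_self_iff_false, ↓ _root_.reduceIte, _root_.Fin.castSucc_one, _root_.Finset.univ_unique, _root_.Fin.val_succ, _root_.Fin.val_eq_zero,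 _root_.zero_add, _root_.pow_one, _root_.Fin.castSucc_succ, _root_.Fin.succ_pos, _root_.Finset.sum_neg_distrib, _root_.Finset.sum_singleton, _root_.not_lt_zero, _root_.Fin.reduceCastSucc, _root_.even_two, _root_.Even.neg_pow, _root_.one_pow, _root_.Fin.reduceLT, _root_.neg_neg, _root_.MulZeroClass.zero_mul, _root_.MulZeroClass.mul_zero, _root_.neg_zero, _root_.add_zero, _root_.Matrix.cons_val_succ, _root_.mul_neg, _root_.Fin.lt_one_iff, _root_.Fin.reduceEq, _root_.Int.reducePow, _root_.sub_zero]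
  ring

/-- the eigenspace modulo `5` -/
def InE (y : Fin 7 → ℤ) : Prop := Dv 5 (mv w0 y - (2 : ℤ) • y)

theorem inE_eq (y : Fin 7 → ℤ) : inE (List.ofFn y) = true ↔ InE y := by
  rw [inE, ap_eq, dv_list]
  rfl

theorem InE.form (h : InE y) : Dv 5 (y - (y 0 • y0 + y 2 • yE)) := by
  obtain ⟨e0, e1, e2, e3, e4, e5, e6⟩ := w0_co y
  have h0 := h 0
  have h1 := h 1
  have h2 := h 2
  have h3 := h 3
  have h4 := h 4
  have h5 := h 5
  have h6 := h 6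
  simp only [Pi.sub_apply, Pi.smul_apply, smul_eq_mul] at h0 h1 h2 h3 h4 h5 h6
  intro i
  fin_cases i <;> simp [y0, yE] <;> (clear * - e2 e3 e4 h2 h3 h4 e5 h5 e6 h6; omega)

theorem sign_L (hu : u ∈ Sb yL) {i : Fin 7} (hi : yL i = 0) : (∀ y, mv u y i = y i) ∨ ∀ y, mv u y i = -y i := by
  let K : Subgroup W7 :=
    { carrier := {g | (∀ y, mv g y i = y i) ∨ ∀ y, mv g y i = -y i}
      one_mem' := .inl fun y => by rw [mv_one]
      mul_mem' := by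
        rintro a b (ha | ha) (hb | hb)
        exacts [.inl fun y => by rw [mv_mul, ha, hb], .inr fun y => by rw [mv_mul, ha, hb],
          .inr fun y => by rw [mv_mul, ha, hb], .inl fun y => by rw [mv_mul, ha, hb, neg_neg]]
      inv_mem' := by
        rintro a (ha | ha)
        exacts [.inl fun y => by rw [← ha (mv a⁻¹ y), mv_inv'], .inr fun y => by rw [← neg_eq_iff_eq_neg, ← ha, mv_inv']] }
  refine dom_key hpE7 (K := K) posL (fun j hj => ?_) u (by rw [show wm hpE7 u *ᵥ yL = yL from hu]; exact posL)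
  by_cases e : j = i
  · exact .inr fun y => e ▸ simple_self hpE7 j y
  · refine .inl fun y => ?_
    rw [mv, simple_apply, (by decide +kernel : ∀ j i : Fin 7, yL j = 0 → yL i = 0 → j ≠ i →
      ChevalleyStructure.CoxeterGeomTypes.cartanOf chevE7 7 j i = 0) j i hj hi e, mul_zero, sub_zero]

theorem inE_iff (hu : u ∈ Sb yL) : Dv 5 (mv (u * w0) y - (2 : ℤ) • y) ↔ InE y := by
  have h1 : (∀ i, yL i = 0 → 5 ∣ y i) → Dv 5 (mv (u * w0) y - mv w0 y) := fun h => by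
    rw [mv_mul]
    exact fix_mod posL (fun i hi => by rw [w0_L y hi]; exact h i hi) hu
  refine ⟨fun h => (h1 fun i hi => ?_).symm.trans h, fun h => (h1 fun i hi => ?_).trans h⟩
  · have h2 := h i
    rw [Pi.sub_apply, mv_mul, Pi.smul_apply, smul_eq_mul] at h2
    rcases sign_L hu hi with e | e <;> rw [e, w0_L y hi] at h2 <;> (clear * - h2; solve | lia | omega)
  · have h2 := h i
    rw [Pi.sub_apply, w0_L y hi, Pi.smul_apply, smul_eq_mul] at h2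
    omega

/-- the stabiliser of the eigenspace -/
def NE : Subgroup W7 where
  carrier := {g | ∀ y, InE y ↔ InE (mv g y)}
  one_mem' y := by rw [mv_one]
  mul_mem' {a b} ha hb y := by rw [mv_mul, ← ha, ← hb]
  inv_mem' {a} ha y := by rw [ha (mv a⁻¹ y), mv_inv']

theorem mem_NE (hu : u ∈ Sb yL) (hv : v ∈ Sb yL) (h : g * (u * w0) = v * w0 * g) : g ∈ NE := fun y => by
  rw [← inE_iff hu, ← inE_iff hv, ← mv_mul, ← h, mv_mul g, ← mulVec_smul, ← mulVec_sub, dv_mv]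

theorem inE_y0 : InE y0 := (inE_eq _).1 (by decide +kernel)

theorem inE_yE : InE yE := (inE_eq _).1 (by decide +kernel)

variable (hS : ∀ g, Dv 5 (mv g y0 - y0) → g ∈ Sb y0) [Fintype W7]
include hS

open Classical in
theorem card_NE : (Finset.univ.filter (· ∈ NE)).card ≤ 768 := by
  refine (Finset.card_le_mul_card_image_of_maps_to (f := fun g => (mv g y0 0 % 5, mv g y0 2 % 5))
    (t := (Finset.Ico 0 5 ×ˢ Finset.Ico 0 5).erase (0, 0)) (fun g hg => ?_) 32 fun b _ => ?_).trans_eq (by decide)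
  · have h1 := (((Finset.mem_filter.1 hg).2 y0).1 inE_y0).form
    simp only [Finset.mem_erase, Finset.mem_product, Finset.mem_Ico, ne_eq, Prod.mk.injEq]
    refine ⟨fun e => absurd (dv_mv.1 (fun i => ?_ : Dv 5 (mv g y0)) 0) (by decide), by omega⟩
    have h2 := h1 i
    have h3 := (Int.dvd_of_emod_eq_zero e.1).mul_right (y0 i)
    have h4 := (Int.dvd_of_emod_eq_zero e.2).mul_right (yE i)
    simp only [Pi.sub_apply, Pi.add_apply, Pi.smul_apply, smul_eq_mul] at h2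
    omega
  rcases Finset.eq_empty_or_nonempty ((Finset.univ.filter (· ∈ NE)).filter fun g => (mv g y0 0 % 5, mv g y0 2 % 5) = b) with
    e | ⟨g₀, h0⟩
  · rw [e]
    exact Nat.zero_le _
  rw [← chk4, ← List.length_map fun t : ℕ × ℕ × ℕ => el t.1]
  refine (Finset.card_le_card_of_injOn (g₀⁻¹ * ·) (fun g hg => ?_) fun _ _ _ _ => mul_left_cancel).trans (List.toFinset_card_le _)
  simp only [Finset.coe_filter, Finset.mem_filter, Finset.mem_univ, true_and, Set.mem_ofPred_eq] at h0 hg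
  have h1 := ((h0.1 y0).1 inE_y0).form
  have h2 := ((hg.1 y0).1 inE_y0).form
  have h3 := Prod.mk.inj (h0.2.trans hg.2.symm)
  obtain ⟨t, h4, h5⟩ := List.mem_map.1 (mem_hs.2 (hS (g₀⁻¹ * g) (by
    rw [mv_mul]
    refine (Dv.mv (x := mv g y0) (y := mv g₀ y0) (fun i => ?_) g₀⁻¹).of_eq (by rw [mv_inv])
    have h4 := h1 i
    have h5 := h2 i
    have h6 := (Int.ModEq.dvd h3.1).mul_right (y0 i)
    have h7 := (Int.ModEq.dvd h3.2).mul_right (yE i)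
    simp only [Pi.sub_apply, Pi.add_apply, Pi.smul_apply, smul_eq_mul, sub_mul] at h4 h5 h6 h7 ⊢
    omega)))
  refine Finset.mem_coe.2 (List.mem_toFinset.2 (List.mem_map.2 ⟨t, List.mem_filter.2 ⟨h4, ?_⟩, h5⟩))
  rw [ap_eq, inE_eq, h5]
  exact (NE.mul_mem (NE.inv_mem h0.1) hg.1 yE).1 inE_yE

theorem sum_le [Fintype (Sb yL)] {φ : W7 → ℝ} (h0 : ∀ w, 0 ≤ φ w) (hφ : ∀ z w, φ (z * w * z⁻¹) = φ w) :
    Fintype.card W7 * ∑ u : Sb yL, φ (u * w0) ≤ 768 * ∑ w, φ w := by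
  classical
  have h1 := Finset.sum_comp (s := Finset.univ) φ fun x : W7 × Sb yL => x.1 * (x.2 * w0) * x.1⁻¹
  simp only [hφ, Fintype.sum_prod_type, Finset.sum_const, Finset.card_univ, nsmul_eq_mul] at h1
  rw [h1, Finset.mul_sum]
  refine (Finset.sum_le_sum fun w hw => mul_le_mul_of_nonneg_right ?_ (h0 w)).trans
    (Finset.sum_le_sum_of_subset_of_nonneg (Finset.subset_univ _) fun w _ _ => mul_nonneg (by norm_num) (h0 w))
  obtain ⟨x₀, -, rfl⟩ := Finset.mem_image.1 hw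
  refine Nat.cast_le_ofNat.2 ((Finset.card_le_card_of_injOn (fun x => x₀.1⁻¹ * x.1) (fun x hx => ?_)
    fun x hx x' hx' e => ?_).trans (card_NE hS))
  · have h2 := (Finset.mem_filter.1 hx).2
    refine Finset.mem_filter.2 ⟨Finset.mem_univ _, mem_NE x.2.2 x₀.2.2 ?_⟩
    rw [mul_assoc, ← inv_mul_cancel_right (x.1 * _) x.1, h2]
    group
  · have h2 := (Finset.mem_filter.1 hx).2.trans (Finset.mem_filter.1 hx').2.symm
    have h3 : x.1 = x'.1 := mul_left_cancel e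
    rw [h3] at h2
    exact Prod.ext h3 (Subtype.ext (mul_right_cancel (mul_left_cancel (mul_right_cancel h2))))

end

/-! ### the centraliser of `w₀` -/

/-- `v` centralises `w₀` and normalises the group of type `A₁³` -/
def Cz (v : W7) : Prop := v * w0 = w0 * v ∧ v ∈ Subgroup.normalizer (Sb yL : Set W7)

/-- the check -/
noncomputable def ckC (n : ℕ) : Bool := ap n (ap n0 (List.ofFn ro)) == ap n0 (ap n (List.ofFn ro)) &&
  (List.finRange 7).all fun i => yL i != 0 || (ap n (List.ofFn yL)).getD i 0 == 0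

theorem cz_of {n : ℕ} (h : ckC n = true) : Cz (el n) := by
  have := finite_W hpE7 CoxeterMatrix.E₇.toCoxeterSystem
  simp only [ckC, ap_eq, getD_ofFn, Bool.and_eq_true, beq_iff_eq, List.ofFn_inj, List.all_eq_true, List.mem_finRange,
    true_imp_iff, Bool.or_eq_true, bne_iff_ne] at h
  exact ⟨eq_of_ro (by rw [mv_mul, mv_mul]; exact h.1), inv_mem_iff.1 (mem_norm hpE7 posL
    (fun i hi => (h.2 i).resolve_left (not_not.2 hi)) (mv_inv _ _))⟩

/-- the conjugating elements -/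
def vt : List ℕ := [0, 979778357, 24406666614234, 37014928689981671491549468088565, 1219020307716349160221012825728534099,
  0, 1190541301861525054465390069, 1139773665202281947220030307, 32105328385379, 1108777992544679587,
  26206423345978000857303, 744970455, 37014923505744765757384733148853, 37201547476983703057948553870691,
  34783131872628233252581, 34472838686729221280997, 2227510416349850145757978, 32105376312090, 33837158904507,
  1212905183313319253815930056873192803, 1302347023869897740358898348116646562590987493, 1129605819877473413531056949,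
  39011657369310826558260977068826, 67978223155207829157, 1052027400461403731]

theorem chk5 : ∀ s t : Fin 5, (s = 0 ∧ t = 0) ∨ (ckC (vt.getD (5 * s + t) 0) = true ∧
    (List.zipWith (fun a b => (a - 1 * b) % 5) (ap (vt.getD (5 * s + t) 0) (List.ofFn (((s : ℕ) : ℤ) • y0 + ((t : ℕ) : ℤ) • yE)))
      (List.ofFn y0)).all (· == 0) = true) := by decide +kernel

theorem exists_cj {y : Fin 7 → ℤ} (h : InE y) (h0 : ¬ Dv 5 y) : ∃ v, Cz v ∧ Dv 5 (mv v y - y0) := by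
  have h1 : ∀ a : ℤ, ∃ s : Fin 5, 5 ∣ a - (s : ℕ) := fun a => ⟨⟨(a % 5).toNat, by omega⟩, by simp only; omega⟩
  obtain ⟨s, hs⟩ := h1 (y 0)
  obtain ⟨t, ht⟩ := h1 (y 2)
  have h2 : Dv 5 (y - (((s : ℕ) : ℤ) • y0 + ((t : ℕ) : ℤ) • yE)) := h.form.trans fun i => by
    have h3 := dvd_add (hs.mul_right (y0 i)) (ht.mul_right (yE i))
    simp only [Pi.sub_apply, Pi.add_apply, Pi.smul_apply, smul_eq_mul, sub_mul] at h3 ⊢
    omega
  rcases chk5 s t with ⟨rfl, rfl⟩ | ⟨h3, h4⟩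
  · exact absurd (h2.of_eq (by simp)) h0
  · rw [ap_eq, dv_list, one_smul] at h4
    exact ⟨_, cz_of h3, (h2.mv _).trans h4⟩

/-- an element of order `8` -/
noncomputable def v8 : W7 := el 32105328385379

/-- an element of order `3` -/
noncomputable def v3 : W7 := el 1223812421660803200314153545300236533

theorem cz_v8 : Cz v8 := cz_of (by decide +kernel)

theorem cz_v3 : Cz v3 := cz_of (by decide +kernel)

theorem ap_iter (n j : ℕ) (y : Fin 7 → ℤ) : (ap n)^[j] (List.ofFn y) = List.ofFn (mv (el n ^ j) y) := by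
  induction j with
  | zero => rw [pow_zero, mv_one]; rfl
  | succ j ih => rw [Function.iterate_succ_apply', ih, ap_eq, pow_succ', mv_mul]

theorem v8_pow : v8 ^ 8 = 1 := eq_of_ro (List.ofFn_injective ((ap_iter _ _ _).symm.trans (by rw [mv_one]; decide +kernel)))

theorem v3_pow : v3 ^ 3 = 1 := eq_of_ro (List.ofFn_injective ((ap_iter _ _ _).symm.trans (by rw [mv_one]; decide +kernel)))

theorem dv_lin {B : Matrix (Fin 7) (Fin 7) ℤ} (h : ∀ j, yL j ≠ 0 → B *ᵥ Pi.single j 1 = 0) {N : ℤ} {y : Fin 7 → ℤ}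
    (hy : ∀ i, yL i = 0 → N ∣ y i) : Dv N (B *ᵥ y) := fun i =>
  Finset.dvd_sum (s := Finset.univ) (f := fun j => B i j * y j) fun j _ => by
  by_cases e : yL j = 0
  · exact (hy j e).mul_left _
  · have h1 := congrFun (h j e) i
    rw [mulVec_single_one, Pi.zero_apply] at h1
    rw [show B i j = 0 from h1, zero_mul]
    exact dvd_zero _

theorem v8_neg {N : ℤ} {y : Fin 7 → ℤ} (hy : ∀ i, yL i = 0 → N ∣ y i) : Dv N (mv (v8 ^ 4) y + y) :=
  (dv_lin (B := wm hpE7 (v8 ^ 4) + 1) (fun j hj => by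
    rw [add_mulVec, one_mulVec, add_eq_zero_iff_eq_neg]
    refine List.ofFn_injective ((ap_iter _ _ _).symm.trans ?_)
    revert j
    decide +kernel) hy).of_eq (by rw [add_mulVec, one_mulVec])

theorem v3_sum {N : ℤ} {y : Fin 7 → ℤ} (hy : ∀ i, yL i = 0 → N ∣ y i) : Dv N (mv v3 (mv v3 y + y) + y) :=
  (dv_lin (B := wm hpE7 v3 * (wm hpE7 v3 + 1) + 1) (fun j hj => by
    rw [add_mulVec, one_mulVec, add_eq_zero_iff_eq_neg, ← mulVec_mulVec, add_mulVec, one_mulVec]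
    have h1 : ∀ a b : Fin 7 → ℤ, List.ofFn (a + b) = List.zipWith (· + ·) (List.ofFn a) (List.ofFn b) := fun a b => by
      simp [List.ofFn_succ]
    refine List.ofFn_injective ((ap_eq _ _).symm.trans ?_)
    rw [h1, v3, ← ap_eq]
    revert j
    decide +kernel) hy).of_eq (by rw [add_mulVec, one_mulVec, ← mulVec_mulVec, add_mulVec, one_mulVec])

theorem rt_chk : ∀ r < chevE7.nroots, |_root_.Cfsg.Agent.Nodes.RGDChev.vec chevE7 7 r 0 + _root_.Cfsg.Agent.Nodes.RGDChev.vec chevE7 7 r 5| < 5 ∧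
    (_root_.Cfsg.Agent.Nodes.RGDChev.vec chevE7 7 r 0 + _root_.Cfsg.Agent.Nodes.RGDChev.vec chevE7 7 r 5 = 0 → |_root_.Cfsg.Agent.Nodes.RGDChev.vec chevE7 7 r 2 + _root_.Cfsg.Agent.Nodes.RGDChev.vec chevE7 7 r 3| < 5) := by decide +kernel

end Cfsg.Agent.LV.E7
end

-- part: LV/E7/Lab
section
/-!
# LV, `E₇`, `p = 5`: the labels (helper14)

`lb ξ a` : the label given by a cocharacter; `rel_lb`, `fx_lb`, `st_le`, `avg_int`, `half_le`.
-/

set_option autoImplicit false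
set_option linter.unusedSectionVars false
set_option maxHeartbeats 400000

namespace Cfsg.Agent.LV.E7

open CoxeterSystem Cfsg Cfsg.Lie Matrix Cfsg.Agent.Nodes.RGDChev Cfsg.Agent.KZ.DatX Cfsg.Agent.KZ.Exc Cfsg.Agent.KZ.Exc.Gr
  Cfsg.Agent.KZ.Exc.EFr Cfsg.Agent.DL Cfsg.Agent.DL.PP Cfsg.Agent.KZ.Lie Cfsg.Agent.LV.Blk Cfsg.Agent.LV.Lab
  Cfsg.Agent.Tits.Roots Cfsg.Agent.Characters.Core Cfsg.Agent.ChevalleyStructure.CoxeterGeomTypes

/-- the label given by a cocharacter -/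
noncomputable def lb (ξ : ℂˣ) (a : Fin 7 → ℤ) : Fin 7 → ℂˣ := coch (inv7 *ᵥ a) ξ

section

variable {ξ : ℂˣ} {a b : Fin 7 → ℤ} {j : ℕ}

theorem chr_lb (ξ : ℂˣ) (a v : Fin 7 → ℤ) : chr v (lb ξ a) = ξ ^ ((inv7 *ᵥ a) ⬝ᵥ v) := by
  rw [dotProduct_comm]
  exact DL.chr_coch v _ ξ

theorem Cm_inv (a : Fin 7 → ℤ) : Cm chevE7 7 *ᵥ (inv7 *ᵥ a) = (2 : ℤ) • a := by
  rw [mulVec_mulVec, Cm_inv7, smul_mulVec, one_mulVec]

theorem inv_Cm (a : Fin 7 → ℤ) : inv7 *ᵥ (Cm chevE7 7 *ᵥ a) = (2 : ℤ) • a := by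
  rw [mulVec_mulVec, (by decide +kernel : inv7 * Cm chevE7 7 = (2 : ℤ) • 1), smul_mulVec, one_mulVec]

theorem Cm_wm (w : W7) (x : Fin 7 → ℤ) : Cm chevE7 7 *ᵥ (x ᵥ* wm hpE7 w) = mv w⁻¹ (Cm chevE7 7 *ᵥ x) := by
  rw [← wm_Cm hpE7 sy7 w x, mv_inv]

theorem inv_wm (w : W7) (a : Fin 7 → ℤ) : (inv7 *ᵥ a) ᵥ* wm hpE7 w = inv7 *ᵥ mv w⁻¹ a :=
  sub_eq_zero.1 (sy7.2 _ (by rw [mulVec_sub, Cm_wm, Cm_inv, Cm_inv, mv, mulVec_smul, sub_self]))

theorem chr_mv (ξ : ℂˣ) (w : W7) (a v : Fin 7 → ℤ) : chr (mv w v) (lb ξ a) = chr v (lb ξ (mv w⁻¹ a)) := by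
  rw [chr_lb, chr_lb, dotProduct_mulVec, inv_wm]

theorem lb_smul (ξ : ℂˣ) (s : ℤ) (a : Fin 7 → ℤ) : lb ξ (s • a) = lb (ξ ^ s) a := funext fun i => by
  show ξ ^ (inv7 *ᵥ (s • a)) i = (ξ ^ s) ^ (inv7 *ᵥ a) i
  rw [mulVec_smul, ← _root_.zpow_mul]
  rfl

theorem chr_sm (ξ : ℂˣ) (s : ℤ) (a v : Fin 7 → ℤ) : chr (s • v) (lb ξ a) = chr v (lb ξ (s • a)) := by
  rw [chr_lb, chr_lb, mulVec_smul, dotProduct_smul, smul_dotProduct]

theorem cop_two (j : ℕ) : IsCoprime ((5 : ℤ) ^ j) 2 := IsCoprime.pow_left (by norm_num)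

theorem chr_eq_iff (hξ : IsPrimitiveRoot ξ (5 ^ j)) : (∀ v, chr v (lb ξ a) = chr v (lb ξ b)) ↔ Dv (5 ^ j) (a - b) := by
  have h1 : ∀ v, chr v (lb ξ a) = chr v (lb ξ b) ↔ (5 : ℤ) ^ j ∣ v ⬝ᵥ (inv7 *ᵥ (a - b)) := fun v => by
    rw [chr_lb, chr_lb, ← mul_inv_eq_one, ← _root_.zpow_sub, hξ.zpow_eq_one_iff_dvd, ← sub_dotProduct, ← mulVec_sub,
      dotProduct_comm, Nat.cast_pow, Nat.cast_ofNat]
  simp only [h1]
  refine ⟨fun h i => (cop_two j).dvd_of_dvd_mul_left ?_, fun h v => (h.mul _).dot v⟩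
  have h2 : Dv (5 ^ j) (inv7 *ᵥ (a - b)) := fun i => by simpa using h (Pi.single i 1)
  exact (h2.mul _).of_eq (Cm_inv _) i

theorem lb_congr (hξ : IsPrimitiveRoot ξ (5 ^ j)) (h : Dv (5 ^ j) (a - b)) : lb ξ a = lb ξ b := funext fun i => by
  rw [← DL.chr_single i (lb ξ a), (chr_eq_iff hξ).2 h, DL.chr_single]

theorem lb_zero (ξ : ℂˣ) : lb ξ 0 = 1 := funext fun i => by
  show ξ ^ (inv7 *ᵥ 0) i = 1
  rw [mulVec_zero, Pi.zero_apply, zpow_zero]

theorem isL_lb (hξ : IsPrimitiveRoot ξ (5 ^ j)) (a : Fin 7 → ℤ) : IsL 5 (lb ξ a) :=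
  ⟨j, by rw [lb, ← map_pow, hξ.pow_eq_one, map_one]⟩

theorem exists_pow {a : Fin 7 → ℤ} (j : ℕ) (h : ¬ Dv (5 ^ j) a) : ∃ i < j, ∃ b, a = (5 : ℤ) ^ i • b ∧ ¬ Dv 5 b := by
  induction j with
  | zero => exact absurd (fun _ => one_dvd _) h
  | succ j ih =>
    by_cases e : Dv (5 ^ j) a
    · choose b hb using e
      exact ⟨j, j.lt_succ_self, b, funext hb, fun e' => h fun i => by rw [hb, pow_succ]; exact mul_dvd_mul_left _ (e' i)⟩
    · obtain ⟨i, h1, h2⟩ := ih e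
      exact ⟨i, h1.trans j.lt_succ_self, h2⟩

theorem dot_Cm (a r : Fin 7 → ℤ) : (inv7 *ᵥ a) ⬝ᵥ (Cm chevE7 7 *ᵥ r) = 2 * (r ⬝ᵥ a) := by
  rw [dotProduct_mulVec, ← mulVec_transpose, (by decide +kernel : (Cm chevE7 7)ᵀ = Cm chevE7 7), Cm_inv, smul_dotProduct,
    dotProduct_comm, smul_eq_mul]

end

theorem avg_gen {p : ℕ} [Fact p.Prime] {k : Type} [Field k] [CharP k p] {Y : Type} [Group Y] {N : Type} [Fintype N]
    [DecidableEq N] {ρ : Y →* GL N k} {F : MulAut Y} {G : Subgroup Y} [IsAlgClosed k] {D : Datum p ρ F G} (f : Fr D)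
    [Fintype ↥(GF F G)] {χ : ↥(GF F G) → ℂ} (hχ : IsGeneralizedCharacter _ χ) {U : Subgroup D.W} (_ : Fintype U) {w : D.W}
    {c : Lbl D} (h : IsGeneralizedCharacter _ (avg f U (fun _ => 1) w c)) :
    ∃ m : ℤ, ∑ u : U, yv f χ c (u * w) = m * Nat.card U := by
  obtain ⟨m, hm⟩ := inner_int hχ h
  rw [KZ.ClA.avg_eq, classInner_smul_right, classInner_sum_right, map_inv₀, map_natCast,
    inv_mul_eq_iff_eq_mul₀ (Nat.cast_ne_zero.2 Nat.card_pos.ne')] at hm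
  exact ⟨m, by simpa only [one_smul, mul_comm, yv] using hm⟩

variable {p : ℕ} [Fact p.Prime] {k : Type} [Field k] [CharP k p] [IsAlgClosed k] {q : ℤ} (X : XF hpE7 p k (q • 1))
  {ξ : ℂˣ} {a b r lam : Fin 7 → ℤ} {j : ℕ} {u v w : W7} {c : Fin 7 → ℂˣ}

include X in
theorem q_ne : q ≠ 0 := fun e => X.D.det_Mx_ne_zero <|
  (congrArg (fun z : ℤ => (z • (1 : Matrix X.D.R X.D.R ℤ)).det) e).trans (by
    have : Nonempty X.D.R := ⟨(0 : Fin 7)⟩
    rw [zero_smul, det_zero])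

theorem Fw_one : X.D.Fw = 1 := MulEquiv.ext fun w => X.D.Wm_injective <| by
  have h0 : X.D.Mx = q • 1 := rfl
  have h1 := X.D.Mx_Wm w
  rw [h0, smul_mul_assoc, mul_smul_comm, one_mul, mul_one] at h1
  exact (smul_right_injective _ (q_ne X) h1).symm

theorem tc_iff {v w w' : W7} : Tc X.D v w w' ↔ w' * v = v * w :=
  iff_of_eq (congrArg (fun z : W7 => w' * z = v * w) (DFunLike.congr_fun (Fw_one X) v))

theorem rel_iff' {c' : Fin 7 → ℂˣ} : _root_.Cfsg.Agent.DL.PP.Rel X.D u c c' ↔ ∀ v, chr (mv u v) c' = chr v c :=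
  Iff.of_eq (congrArg (fun B : Matrix (Fin 7) (Fin 7) ℤ => ∀ v, chr (B *ᵥ v) c' = chr v c) (Wm_eq hpE7 X u))

theorem fx_iff' : Fx X.D w c ↔ ∀ v, chr (q • mv w v) c = chr v c :=
  Iff.of_eq ((congrArg (fun B : Matrix (Fin 7) (Fin 7) ℤ => ∀ v, chr ((B * q • 1) *ᵥ v) c = chr v c) (Wm_eq hpE7 X w)).trans
    (by simp only [mul_smul_comm, mul_one, smul_mulVec]))

theorem rel_lb (hξ : IsPrimitiveRoot ξ (5 ^ j)) : _root_.Cfsg.Agent.DL.PP.Rel X.D u (lb ξ a) (lb ξ b) ↔ Dv (5 ^ j) (mv u a - b) := by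
  simp only [rel_iff', chr_mv, chr_eq_iff hξ]
  exact ⟨fun h => ((h.mv u).of_eq (by rw [mv_inv'])).symm, fun h => ((h.mv u⁻¹).of_eq (by rw [mv_inv])).symm⟩

include X in
theorem exists_lb (hc : IsL 5 c) (h1 : c ≠ 1) : ∃ j ξ a, IsPrimitiveRoot ξ (5 ^ (j + 1)) ∧ ¬ Dv 5 a ∧ c = lb ξ a := by
  obtain ⟨j, x, ω, hω, hx⟩ : ∃ (j : ℕ) (x : Fin 7 → ℤ) (ω : ℂˣ), IsPrimitiveRoot ω (5 ^ j) ∧
      ∀ y : Fin 7 → ℤ, chr y c = ω ^ (x ⬝ᵥ y) := exists_log (D := X.D) Nat.prime_five hc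
  obtain ⟨m, hm⟩ := (show Odd (5 ^ j) from Odd.pow (by decide)).add_one
  have h2 : IsPrimitiveRoot (ω ^ m) (5 ^ j) := hω.pow_of_coprime m (Nat.coprime_of_dvd fun s hs h3 h4 =>
    hs.one_lt.ne' (Nat.dvd_one.1 ((Nat.dvd_add_right h4).1 (hm ▸ dvd_add h3 h3))))
  have h3 : c = lb (ω ^ m) (Cm chevE7 7 *ᵥ x) := eq_of_chr X.D fun (y : Fin 7 → ℤ) => (hx y).trans (Eq.trans (by
    rw [inv_Cm, smul_dotProduct, smul_eq_mul, _root_.zpow_mul, zpow_two, ← pow_add, ← hm, pow_succ, hω.pow_eq_one, one_mul]) (chr_lb _ _ y).symm)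
  obtain ⟨i, h4, b, h5, h6⟩ := exists_pow (a := Cm chevE7 7 *ᵥ x) j fun e =>
    h1 (h3.trans ((lb_congr h2 (e.of_eq (sub_zero _).symm)).trans (lb_zero _)))
  obtain ⟨d, rfl⟩ := Nat.exists_eq_add_of_lt h4
  refine ⟨d, (ω ^ m) ^ 5 ^ i, b, h2.pow (by positivity) (by rw [add_assoc, pow_add]), h6, ?_⟩
  rw [h3, h5, lb_smul, ← zpow_natCast]
  rfl

theorem cor_eq (h : X.D.Rt r) : X.D.cor r = Cm chevE7 7 *ᵥ r := by
  have h1 : ∀ (w : W7) (i : Fin 7), mv w (cartanOf chevE7 7 i) = Cm chevE7 7 *ᵥ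
      ChevalleyStructure.CoxeterGeom.rep CoxeterMatrix.E₇.toCoxeterSystem hpE7.isCartan w (sr i) := fun w i => by
    have h1 := Cm_wm w⁻¹ (sr i)
    rw [vecMul_wm, inv_inv, show Cm chevE7 7 *ᵥ sr i = cartanOf chevE7 7 i from funext fun s => by
      rw [sr, mulVec_single_one]; exact sy7.1 s i] at h1
    exact h1.symm
  obtain ⟨w, i, rfl⟩ := h
  exact (X.D.cor_act_sr w i).trans ((congrArg (· *ᵥ cartanOf chevE7 7 i) (Wm_eq hpE7 X w)).trans (h1 w i))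

theorem rf_mem (h : X.D.Rt r) (h0 : r ⬝ᵥ lam = 0) : X.D.rf r ∈ Sb lam := by
  have h1 : ∀ (B : Matrix (Fin 7) (Fin 7) ℤ) (x : Fin 7 → ℤ), B = 1 - vecMulVec x r → B *ᵥ lam = lam := by
    rintro _ x rfl
    rw [sub_mulVec, one_mulVec, vecMulVec_mulVec, h0, MulOpposite.op_zero, zero_smul, sub_zero]
  exact h1 _ _ ((Wm_eq hpE7 X _).symm.trans (X.D.Wm_rf h))

/-- **Steinberg** -/
theorem st_le (hξ : IsPrimitiveRoot ξ (5 ^ j)) (h : ∀ r : Fin 7 → ℤ, X.D.Rt r → 5 ^ j ∣ r ⬝ᵥ a → r ⬝ᵥ lam = 0)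
    (hu : _root_.Cfsg.Agent.DL.PP.Rel X.D u (lb ξ a) (lb ξ a)) : u ∈ Sb lam :=
  stab_le (D := X.D) Nat.prime_five (fun _ h => h) (isL_lb hξ a) (H := Sb lam) (fun (r : Fin 7 → ℤ) hr e =>
    rf_mem X hr (h r hr (by
      have h1 : ξ ^ ((inv7 *ᵥ a) ⬝ᵥ (Cm chevE7 7 *ᵥ r)) = 1 := (chr_lb ξ a _).symm.trans (cor_eq X hr ▸ e)
      rw [hξ.zpow_eq_one_iff_dvd, dot_Cm, Nat.cast_pow, Nat.cast_ofNat] at h1
      exact (cop_two j).dvd_of_dvd_mul_left h1))) hu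

theorem dot_zero (h : X.D.Rt r) (hl : 0 ≤ lam) (h0 : r ⬝ᵥ lam = 0) (hb : ∀ i, lam i = 0 → b i = 0) : r ⬝ᵥ b = 0 := by
  have h1 : ∀ i, r i * lam i = 0 := fun i => by
    rcases h.pos_or_neg with e | e
    · exact (Finset.sum_eq_zero_iff_of_nonneg fun i _ => mul_nonneg (e i) (hl i)).1 h0 i (Finset.mem_univ i)
    · exact (Finset.sum_eq_zero_iff_of_nonpos fun i _ => mul_nonpos_of_nonpos_of_nonneg (e i) (hl i)).1 h0 i
        (Finset.mem_univ i)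
  refine Finset.sum_eq_zero fun i _ => ?_
  rcases mul_eq_zero.1 (h1 i) with e | e
  · rw [e, zero_mul]
  · rw [hb i e, mul_zero]

theorem rt_bd (h : X.D.Rt r) : |r 0 + r 5| < 5 ∧ (r 0 + r 5 = 0 → |r 2 + r 3| < 5) := by
  obtain ⟨s, h1, rfl⟩ := (X.rt_iff r).1 h
  exact rt_chk s h1

theorem dot_y0 (r : Fin 7 → ℤ) : r ⬝ᵥ y0 = r 0 + r 5 := by simp [y0, dotProduct, Fin.sum_univ_seven]

theorem dot_y0_zero (h : X.D.Rt r) (h1 : 5 ∣ r ⬝ᵥ y0) : r ⬝ᵥ y0 = 0 := by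
  have h2 := abs_lt.1 (rt_bd X h).1
  rw [dot_y0] at h1 ⊢
  omega

include X in
theorem stab_y0 (g : W7) (h : Dv 5 (mv g y0 - y0)) : g ∈ Sb y0 := by
  have hξ := (Complex.isPrimitiveRoot_exp (5 ^ 1) (by decide)).isUnit_unit (by decide)
  exact st_le X hξ (fun r hr e => dot_y0_zero X hr e) ((rel_lb X hξ).2 h)

theorem leviOK (hξ : IsPrimitiveRoot ξ (5 ^ j)) (hl : 0 ≤ lam) (hb : ∀ i, lam i = 0 → b i = 0) (hw : mv w b = lam)
    (hF : Fx X.D w (lb ξ a)) (ha : ∀ i, lam i = 0 → 5 ^ j ∣ a i) : LeviOK X.D lam w (lb ξ a) := by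
  refine ⟨fun r hr h0 => ?_, hF, ξ, inv7 *ᵥ fun i => if lam i = 0 then 0 else a i, fun r hr h0 => ?_,
    lb_congr hξ fun i => ?_⟩
  · have h1 : ∀ (r s t : Fin 7 → ℤ) (n : ℤ), X.D.Rt s → s ᵥ* (q • (1 : Matrix (Fin 7) (Fin 7) ℤ)) = n • r → r ⬝ᵥ lam = 0 →
        t ᵥ* wm hpE7 w = s → t ⬝ᵥ lam = 0 := fun r s t n hs e h0 h2 => by
      have h1 := congrArg (· ⬝ᵥ lam) e
      simp only [vecMul_smul, vecMul_one, smul_dotProduct, h0, smul_zero, smul_eq_zero, or_iff_right (q_ne X)] at h1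
      have h3 := dot_zero X hs hl h1 hb
      rwa [← h2, ← dotProduct_mulVec, show wm hpE7 w *ᵥ b = lam from hw] at h3
    exact h1 r _ _ _ (X.D.g_root r hr) (X.g_Mx hr) h0 (Wm_eq hpE7 X w ▸ X.act_vecMul w _)
  · refine (congrArg (_ ⬝ᵥ ·) (cor_eq X hr)).trans ((dot_Cm _ r).trans ?_)
    rw [dot_zero X hr hl h0 fun i hi => if_pos hi, mul_zero]
  · rw [Pi.sub_apply]
    split_ifs with e
    · rw [sub_zero]
      exact ha i e
    · rw [sub_self]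
      exact dvd_zero _

variable {X} [Fintype ↥(GF X.F ⊤)] {f : Fr X.D} {χ : IrrCharacter ↥(GF X.F ⊤)} {Z : W7 → ℤ} {z : W7}

theorem avg_int (hA : Api f) (hZ : ∀ w : W7, yv f χ.1 c (w * z : W7) = Z w) (h : LeviOK X.D lam (w * z : W7) c) [Fintype (Sb lam)] :
    ∃ m : ℤ, ∑ u : Sb lam, Z (u * w) = m * Nat.card (Sb lam) := by
  obtain ⟨m, hm⟩ := avg_gen f (U := Sb lam) (Uni.gen_of_irr χ.2) ‹Fintype (Sb lam)› (Wl_eq X lam ▸ hA.levi _ _ _ h)
  refine ⟨m, Int.cast_injective (α := ℂ) ?_⟩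
  rw [Int.cast_mul, Int.cast_natCast, Int.cast_sum]
  refine Eq.trans (Finset.sum_congr rfl fun u _ => ?_) hm
  rw [← hZ, mul_assoc]
  rfl

theorem half_le (hZ : ∀ w : W7, yv f χ.1 c (w * z : W7) = Z w) {U : Subgroup W7} [Fintype U] (hU : ∀ u : W7, _root_.Cfsg.Agent.DL.PP.Rel X.D u c c → u ∈ U)
    (h : (Nat.card U : ℤ) ≤ 2 * ∑ u : U, Z (u * w) ^ 2) : 1 / 2 ≤ nr f χ.1 c := by
  classical
  let _ := Fintype.ofFinite X.D.W
  let _ : Fintype W7 := ‹Fintype X.D.W›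
  have h1 : ((∑ u : U, Z (u * w) ^ 2 : ℤ) : ℝ) ≤ ∑ x, ‖yv f χ.1 c x‖ ^ 2 := by
    have h2 : ∀ φ : W7 → ℝ, (∀ x, 0 ≤ φ x) → ∑ u : U, φ (u * w * z) ≤ ∑ x, φ x := fun φ h0 => by
      rw [← Finset.sum_image (g := fun u : U => (u : W7) * w * z)
        fun _ _ _ _ e => Subtype.ext (mul_right_cancel (mul_right_cancel e))]
      exact Finset.sum_le_sum_of_subset_of_nonneg (Finset.subset_univ _) fun x _ _ => h0 x
    refine le_trans (le_of_eq ?_) (h2 (fun x => ‖yv f χ.1 c x‖ ^ 2) fun _ => sq_nonneg _)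
    simp only [hZ, Complex.norm_intCast, sq_abs, Int.cast_pow, Int.cast_sum]
  have h2 : (Nat.card (Lab.St X.D c) : ℝ) ≤ Nat.card U := Nat.cast_le.2 (Subgroup.card_le_of_le hU)
  have h3 : (Nat.card U : ℝ) ≤ 2 * (∑ u : U, Z (u * w) ^ 2 : ℤ) := by exact_mod_cast h
  refine le_of_le_of_eq ((le_inv_mul_iff₀ (Nat.cast_pos.2 Nat.card_pos)).2 ?_) (nr_eq f χ.1 c).symm
  linarith

end Cfsg.Agent.LV.E7
end

private theorem dce_dcc3d082579d : _root_.True := by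
  try have : _root_.True := by simp only [_root_.Cfsg.Agent.LV.E7.mv.eq_1]
  try have : _root_.True := by simp only [_root_.Cfsg.Agent.LV.E7.ck2.eq_1]
  try have : _root_.True := by simp only [_root_.Cfsg.Agent.LV.E7.ck1.eq_1]
  try have : _root_.True := by simp only [_root_.Cfsg.Agent.LV.E7.y0.eq_1]
  try have : _root_.True := by simp only [_root_.Cfsg.Agent.LV.E7.v3.eq_1]
  try have : _root_.True := by simp only [_root_.Cfsg.Agent.LV.E7.inE.eq_1]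
  try have : _root_.True := by simp only [_root_.Cfsg.Agent.LV.E7.yE.eq_1]
  try have : _root_.True := by simp only [_root_.Cfsg.Agent.LV.E7.hs.eq_1]
  try have : _root_.True := by simp only [_root_.Cfsg.Agent.LV.E7.M0.eq_1]
  try have : _root_.True := by simp only [_root_.Cfsg.Agent.LV.E7.ks.eq_1]
  try have : _root_.True := by simp only [_root_.Cfsg.Agent.LV.E7.ckC.eq_1]
  try have : _root_.True := by simp only [_root_.Cfsg.Agent.LV.E7.lb.eq_1]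
  try have : _root_.True := by simp only [_root_.Cfsg.Agent.LV.E7.cl.eq_1]
  try have : _root_.True := by simp only [_root_.Cfsg.Agent.LV.E7.memN.eq_1]
  exact _root_.True.intro
end
end
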